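import Cfsg.Agent.Lib.Walter.Defs
import Cfsg.Agent.Lib.BGroup.FieldKill.Sect

/-!
# Rank three: the centralizer of an involution with trivial odd core
-/

set_option autoImplicit false
set_option linter.unusedSectionVars false
set_option linter.style.haveILetI false

namespace CfsgLib.Walter

open Subgroup
open CfsgLib.BGroup.FieldKill (Frame)

universe u

variable {G : Type u} [Group G] [Finite G]

namespace Eight

variable (h : Eight G)
include h

theorem exp_two (x : G) (k : ℕ) (hx : x ^ 2 ^ k = 1) : x * x = 1 := by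
  haveI : Fact (Nat.Prime 2) := ⟨Nat.prime_two⟩
  obtain ⟨j, -, hj⟩ := (Nat.dvd_prime_pow Nat.prime_two).1 (orderOf_dvd_of_pow_eq_one hx)
  obtain ⟨S, hS⟩ := (IsPGroup.of_card (p := 2) (n := j)
    (by rw [Nat.card_zpowers, hj]) : IsPGroup 2 (zpowers x)).exists_le_sylow
  exact (h.sylow S).2 x (hS (mem_zpowers x))

/-- The frame of the centralizer. -/
theorem exists_frame {t : G} (ht : orderOf t = 2)
    (hns : ¬ Group.IsSolvable ↥(centralizer ({t} : Set G)))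
    (hcore : Cfsg.oddCore ↥(centralizer ({t} : Set G)) = ⊥) : ∃ Φ : Frame G, Φ.t = t := by
  refine BGroup.FieldKill.exists_frame_of_exp h.exp_two (fun S => (h.sylow S).1) ht ?_ hns
  rw [BGroup.O, hcore, Subgroup.map_bot]

end Eight

namespace Three

variable (Φ : Frame G)

theorem center_K : ∀ z ∈ Φ.K, (∀ k ∈ Φ.K, Commute z k) → z = 1 := by
  intro z hz hc
  have hZ : Φ.e ⟨z, hz⟩ ∈ center (Matrix.ProjectiveSpecialLinearGroup (Fin 2) Φ.F) := by
    refine mem_center_iff.2 fun y => ?_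
    obtain ⟨k, rfl⟩ := Φ.e.surjective y
    rw [← map_mul, ← map_mul]
    exact congrArg Φ.e (Subtype.ext (hc k k.2).symm.eq)
  rw [Classical.ExcIso.center_psl_bot (le_refl 2) (fun _ => by have := Φ.five_le; omega), mem_bot] at hZ
  exact congrArg Subtype.val (Φ.e.map_eq_one_iff.1 hZ)

theorem D_le_normalizer : Φ.D ≤ normalizer (Φ.K : Set G) := by
  intro d hd
  refine mem_normalizer_iff.2 fun x => ⟨fun hx => Φ.K_conj (Φ.D_comm_t hd) hx, fun hx => ?_⟩
  have := Φ.K_conj (Φ.D_comm_t (inv_mem hd)) hx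
  rwa [show d⁻¹ * (d * x * d⁻¹) * d⁻¹⁻¹ = x by group] at this

theorem mem_KD {x : G} (hx : x ∈ Φ.K ⊔ Φ.D) : ∃ k ∈ Φ.K, ∃ d ∈ Φ.D, x = k * d := by
  obtain ⟨k, hk, d, hd, e⟩ := Invol.mem_sup_of_normalizing (D_le_normalizer Φ) hx
  exact ⟨k, hk, d, hd, e.symm⟩

theorem KD_comm {x : G} (hx : x ∈ Φ.K ⊔ Φ.D) : Commute x Φ.t := by
  obtain ⟨k, hk, d, hd, rfl⟩ := mem_KD Φ hx
  exact (Φ.K_comm k hk).mul_left (Φ.D_comm_t hd)

/-- The elements of `S` lie in `⟨t⟩ K`. -/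
theorem mem_S_decomp {s : G} (hs : s ∈ (Φ.S : Subgroup G)) :
    ∃ a, (a = 1 ∨ a = Φ.t) ∧ ∃ k ∈ Φ.K, s = a * k := by
  obtain ⟨a, ha, k, hk, d, hd, hsd⟩ := Φ.decomp s
    (congrArg Subtype.val (Φ.hS.1.is_comm.comm ⟨s, hs⟩ ⟨Φ.t, Φ.htS⟩))
  obtain ⟨j, hj⟩ := ((Φ.mem_D d).1 hd).2
  have hak : s * d⁻¹ = a * k := by rw [hsd]; group
  have hc : Commute (a * k) d := by
    rw [← hak]
    exact ((Φ.D_comm_S hd hs).symm).mul_left ((Commute.refl d).inv_left)
  have hac : Commute a k := by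
    rcases ha with rfl | rfl
    exacts [Commute.one_left _, (Φ.K_comm k hk).symm]
  refine ⟨a, ha, k ^ (2 * j + 1), pow_mem hk _, ?_⟩
  have hsq : s ^ 2 = 1 := Φ.hS.2 s hs
  have ha1 : a ^ (2 * j + 1) = a := by
    rcases ha with rfl | rfl
    · rw [one_pow]
    · rw [pow_succ, pow_mul, pow_two, Φ.sq_t, one_pow, one_mul]
  calc s = s ^ (2 * j + 1) := by rw [pow_succ, pow_mul, hsq, one_pow, one_mul]
    _ = (a * k) ^ (2 * j + 1) * d ^ orderOf d := by rw [hsd, hc.mul_pow, hj]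
    _ = a * k ^ (2 * j + 1) := by rw [pow_orderOf_eq_one, mul_one, hac.mul_pow, ha1]

theorem faithful {x : G} (hx : x ∈ Φ.K ⊔ Φ.D) (hc : ∀ k ∈ Φ.K, Commute x k) : x = 1 := by
  haveI : Fact (Nat.Prime 2) := ⟨Nat.prime_two⟩
  have hxS : ∀ s ∈ (Φ.S : Subgroup G), Commute x s := by
    intro s hs
    obtain ⟨a, ha, k, hk, rfl⟩ := mem_S_decomp Φ hs
    rcases ha with rfl | rfl
    · rw [one_mul]; exact hc k hk
    · exact (KD_comm Φ hx).mul_right (hc k hk)
  obtain ⟨k, hk, d, hd, rfl⟩ := mem_KD Φ hx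
  have hkS : ∀ s ∈ (Φ.S : Subgroup G), Commute k s := fun s hs => by
    have := (hxS s hs).mul_left (Φ.D_comm_S hd hs).inv_left
    rwa [mul_inv_cancel_right] at this
  -- `k ∈ S`
  obtain ⟨i, b, hb, hib⟩ := Nat.exists_eq_two_pow_mul_odd (orderOf_pos k).ne'
  have hkD : k ^ 2 ^ i = 1 := by
    have hmem : k ^ 2 ^ i ∈ Φ.D := by
      refine (Φ.mem_D _).2 ⟨fun s hs => (hkS s hs).pow_left _, hb.of_dvd_nat ?_⟩
      exact orderOf_dvd_of_pow_eq_one (by rw [← pow_mul, ← hib, pow_orderOf_eq_one])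
    have := Φ.disj 1 (Or.inl rfl) _ (pow_mem hk _) (by rwa [one_mul])
    rwa [one_mul] at this
  have hkS' : k ∈ (Φ.S : Subgroup G) := by
    obtain ⟨j, -, hj⟩ := (Nat.dvd_prime_pow Nat.prime_two).1 (orderOf_dvd_of_pow_eq_one hkD)
    refine PGroup.CSylow.le_sylow_of_le_normalizer Φ.S
      (IsPGroup.of_card (p := 2) (n := j) (by rw [Nat.card_zpowers, hj])) (zpowers_le.2 ?_) (mem_zpowers k)
    exact centralizer_le_normalizer _ (mem_centralizer_iff.2 fun s hs => (hkS s hs).eq.symm)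
  have hkd : Commute k d := (Φ.D_comm_S hd hkS').symm
  -- `k` is central in `K`
  obtain ⟨j, hj⟩ := ((Φ.mem_D d).1 hd).2
  have hk2 : k ^ 2 = 1 := Φ.hS.2 k hkS'
  have hxm : (k * d) ^ (2 * j + 1) = k := by
    rw [hkd.mul_pow, ← hj, pow_orderOf_eq_one, mul_one, hj, pow_succ, pow_mul, hk2, one_pow, one_mul]
  have hk1 : k = 1 := center_K Φ k hk fun k' hk' => hxm ▸ (hc k' hk').pow_left _
  subst hk1
  rw [one_mul] at hc ⊢
  -- `d` centralizes `K`
  obtain ⟨F₁, _, _, hF₁, ⟨e₁⟩⟩ := Φ.cent d hd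
  have hle : Φ.K ⊓ centralizer ({d} : Set G) = Φ.K :=
    inf_eq_left.2 fun k' hk' => mem_centralizer_singleton_iff.2 (hc k' hk').eq.symm
  have hcard : Nat.card (Matrix.ProjectiveSpecialLinearGroup (Fin 2) F₁) =
      Nat.card (Matrix.ProjectiveSpecialLinearGroup (Fin 2) Φ.F) := by
    rw [← Nat.card_congr e₁.toEquiv, ← Nat.card_congr Φ.e.toEquiv, hle]
  have hm : orderOf d ≠ 0 := (orderOf_pos d).ne'
  have hodd₁ : Odd (Fintype.card F₁) := Φ.two_ne.of_dvd_nat (hF₁ ▸ dvd_pow_self _ hm)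
  have h1 := BGroup.FieldKill.two_mul_card_psl (F := F₁) hodd₁
  have h2 := BGroup.FieldKill.two_mul_card_psl (F := Φ.F) Φ.two_ne
  rw [hcard] at h1
  have hle' : Fintype.card F₁ ≤ Fintype.card Φ.F := hF₁ ▸ Nat.le_self_pow hm _
  have hq : Fintype.card F₁ = Fintype.card Φ.F := by
    refine le_antisymm hle' ?_
    by_contra hlt
    push Not at hlt
    have h0 : 1 ≤ Fintype.card F₁ := Fintype.card_pos
    have h5 := Φ.five_le
    have : Fintype.card F₁ * ((Fintype.card F₁ - 1) * (Fintype.card F₁ + 1)) <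
        Fintype.card Φ.F * ((Fintype.card Φ.F - 1) * (Fintype.card Φ.F + 1)) :=
      Nat.mul_lt_mul_of_lt_of_le hlt (Nat.mul_le_mul (by omega) (by omega))
        (Nat.mul_pos (by omega) (by omega))
    omega
  rw [hq] at hF₁
  have h5 := Φ.five_le
  have : orderOf d = 1 := Nat.pow_right_injective (a := Fintype.card Φ.F) (by omega)
    (show Fintype.card Φ.F ^ orderOf d = Fintype.card Φ.F ^ 1 by rw [pow_one]; exact hF₁)
  exact orderOf_eq_one_iff.1 this

/-- The centralizer data of a frame. -/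
noncomputable def toCentralizer : Centralizer G Φ.t where
  E := Φ.K ⊔ Φ.D
  K := Φ.K
  order_t := Φ.ht
  prod := by
    have hEC : Φ.K ⊔ Φ.D ≤ centralizer ({Φ.t} : Set G) := fun x hx =>
      mem_centralizer_singleton_iff.2 (KD_comm Φ hx).eq
    have hTC : zpowers Φ.t ≤ centralizer ({Φ.t} : Set G) :=
      zpowers_le.2 (mem_centralizer_singleton_iff.2 rfl)
    refine ⟨hTC, hEC, fun a ha b hb => ?_, ?_, ?_⟩
    · obtain ⟨i, rfl⟩ := mem_zpowers_iff.1 ha
      exact ((KD_comm Φ hb).symm.zpow_left i).eq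
    · rw [eq_bot_iff]
      rintro x ⟨hx1, hx2⟩
      rcases BGroup.eq_or_eq_of_mem_zpowers Φ.sq_t hx1 with rfl | rfl
      · exact one_mem _
      · obtain ⟨k, hk, d, hd, e⟩ := mem_KD Φ hx2
        exfalso
        have h1 : Φ.t * k⁻¹ = d := by
          rw [(Φ.K_comm k hk).symm.inv_right.eq, e]; group
        have h2 := Φ.disj Φ.t (Or.inr rfl) k⁻¹ (inv_mem hk) (by rw [h1]; exact hd)
        exact Φ.t_notMem (by rw [mul_inv_eq_one] at h2; exact h2 ▸ hk)
    · refine le_antisymm (sup_le hTC hEC) fun x hx => ?_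
      obtain ⟨a, ha, k, hk, d, hd, rfl⟩ := Φ.decomp x (mem_centralizer_singleton_iff.1 hx)
      rw [mul_assoc]
      refine mul_mem_sup ?_ (mul_mem_sup hk hd)
      rcases ha with rfl | rfl
      exacts [one_mem _, mem_zpowers _]
  K_le := le_sup_left
  K_normal := fun _ hx _ hk => Φ.K_conj (KD_comm Φ hx) hk
  odd_relIndex := by
    have hn : (Φ.K.subgroupOf (Φ.K ⊔ Φ.D)).Normal :=
      ⟨fun k hk g => Φ.K_conj (KD_comm Φ g.2) hk⟩
    let f : Φ.D →* ↥(Φ.K ⊔ Φ.D) ⧸ Φ.K.subgroupOf (Φ.K ⊔ Φ.D) :=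
      (QuotientGroup.mk' _).comp (inclusion le_sup_right)
    have hf : Function.Surjective f := by
      intro y
      obtain ⟨⟨x, hx⟩, rfl⟩ := QuotientGroup.mk'_surjective _ y
      obtain ⟨k, hk, d, hd, rfl⟩ := mem_KD Φ hx
      refine ⟨⟨d, hd⟩, QuotientGroup.eq.2 ?_⟩
      show d⁻¹ * (k * d) ∈ Φ.K
      have := Φ.K_conj (Φ.D_comm_t (inv_mem hd)) hk
      rwa [inv_inv, mul_assoc] at this
    have hdvd : Φ.K.relIndex (Φ.K ⊔ Φ.D) ∣ Nat.card Φ.D := card_dvd_of_surjective f hf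
    exact Φ.D_odd.of_dvd_nat hdvd
  faithful := fun _ hx hc => faithful Φ hx hc
  F := Φ.F
  five_le := Φ.five_le
  mod_eight := Φ.mod_eight
  iso := ⟨Φ.e⟩

end Three

/-- The centralizer structure once the odd core is trivial. -/
theorem Eight.exists_centralizer (h : Eight G) {t : G} (ht : orderOf t = 2)
    (hns : ¬ Group.IsSolvable ↥(centralizer ({t} : Set G)))
    (hcore : Cfsg.oddCore ↥(centralizer ({t} : Set G)) = ⊥) : Nonempty (Centralizer G t) := by
  obtain ⟨Φ, rfl⟩ := h.exists_frame ht hns hcore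
  exact ⟨Three.toCentralizer Φ⟩

end CfsgLib.Walter
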