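import Cfsg.Agent.Lib.Walter.Three.Red
import Cfsg.Agent.Lib.Lie.Chev.Tw.Ree.Tori.TI
import Mathlib.GroupTheory.Transfer

/-!
# Rank three: a character separating the field element

Under the facts that the centralizer of the field part provides, the odd group has an invariant character
that is nontrivial at the field element.
-/

set_option autoImplicit false
set_option linter.unusedSectionVars false
set_option linter.style.haveILetI false

namespace CfsgLib.Walter.Three

open Subgroup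

universe u v

namespace Red

variable {Y : Type u} [Group Y] [Finite Y] {F : Type} [Field F] [Finite F] [CharP F 3] (W : Red Y F)

/-- What the centralizer of the field part provides. -/
structure Extra : Prop where
  exists_h : ∀ s : ℕ, s.Prime → s ∣ (3 ^ W.g - 1) / 2 → ∃ h, W.τ h = h ∧ Commute h W.d ∧ orderOf h = s
  three : ∀ x h : Y, (∃ k, x ^ 3 ^ k = 1) → Commute x W.d → W.τ h = h → Commute h W.d → (orderOf h).Prime →
    orderOf h ∣ (3 ^ W.g - 1) / 2 → Commute x h → x ∈ zpowers W.d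
  min_cent : ∀ x h : Y, W.τ h = h → Commute h W.d → (orderOf h).Prime → orderOf h ∣ (3 ^ W.g - 1) / 2 →
    (∀ r : ℕ, r.Prime → r ∣ (3 ^ W.g - 1) / 2 → orderOf h ≤ r) →
    W.τ x = x⁻¹ → Commute x W.d → Commute x h → x = 1
  O_cent : ∀ x y : Y, W.τ x = x⁻¹ → ¬ 3 ∣ orderOf x → Commute x W.d → y ≠ 1 → y ∈ W.ι.range →
    Commute y W.d → Commute x y → x = 1
  norm : ∀ (y : Y) (e : ℕ), W.d ^ e * y = y * W.d → Commute y W.d

theorem g_three (hg : W.g ≠ 1) : 3 ≤ W.g := by
  obtain ⟨i, hi⟩ : Odd W.g := W.n_odd.of_dvd_nat ⟨3 ^ W.a, by rw [W.n_eq, mul_comm]⟩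
  omega

theorem fixed_inter_O {x : Y} (hx : x ∈ Cfsg.pPrimeCore 3 Y) (hxf : W.τ x = x) : x = 1 := by
  haveI : Fact (Nat.Prime 3) := ⟨Nat.prime_three⟩
  haveI hOn : (Cfsg.pPrimeCore 3 Y).Normal := Subgroup.sSup_normal _ (fun _ h => h.1)
  have hO3 := CfsgLib.Coprime.pPrimeCore_not_dvd (G := Y) Nat.prime_three
  have h31 : ∀ z : Y, z ∈ Cfsg.pPrimeCore 3 Y → z ^ 3 = 1 → z = 1 := fun z hz h3 => by
    rcases (Nat.dvd_prime Nat.prime_three).1 (orderOf_dvd_of_pow_eq_one h3) with e | e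
    · exact orderOf_eq_one_iff.1 e
    · exact absurd (e ▸ Subgroup.orderOf_dvd_natCard (Cfsg.pPrimeCore 3 Y) hz) hO3
  obtain ⟨u, i, j, rfl⟩ := W.fixed x hxf
  obtain ⟨hd, hμ⟩ := W.eq_of_act (i := i) (j := j) (c := 1) fun z => by
    have hA : W.ι u * W.w ^ i * W.d ^ j * W.ι (Multiplicative.ofAdd z) * (W.ι u * W.w ^ i * W.d ^ j)⁻¹ =
        W.ι (Multiplicative.ofAdd (W.μ ^ i * W.f^[j] z)) := by
      rw [show W.ι u * W.w ^ i * W.d ^ j * W.ι (Multiplicative.ofAdd z) * (W.ι u * W.w ^ i * W.d ^ j)⁻¹ =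
        W.ι u * (W.w ^ i * W.d ^ j * W.ι (Multiplicative.ofAdd z) * (W.w ^ i * W.d ^ j)⁻¹) * (W.ι u)⁻¹ by group,
        (W.conj_pow i j z).1, ← map_inv, ← map_mul, ← map_mul, mul_inv_cancel_comm]
    rw [one_mul]
    refine Multiplicative.ofAdd.injective (W.ι_inj (mul_inv_eq_one.1 (h31 _ ?_ ?_)))
    · rw [← hA, show ∀ p q : Y, p * q * p⁻¹ * q⁻¹ = p * (q * p⁻¹ * q⁻¹) from fun p q => by group]
      exact mul_mem hx (hOn.conj_mem _ (inv_mem hx) _)
    · rw [← map_inv, ← map_mul, W.cube]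
  rw [hd, W.μ_pow i hμ, mul_one, mul_one] at hx ⊢
  exact h31 _ hx (W.cube u)

theorem inverted_O {x : Y} (hx : x ∈ Cfsg.pPrimeCore 3 Y) : W.τ x = x⁻¹ := by
  haveI : Fact (Nat.Prime 3) := ⟨Nat.prime_three⟩
  obtain ⟨c, i, rfl, hc, hi, hmem⟩ := Outer.exists_fixed_mul_inverted W.odd W.invol x
  have hstab : W.τ (c * i) ∈ Cfsg.pPrimeCore 3 Y :=
    (CfsgLib.Coprime.map_pPrimeCore_equiv W.τ 3).le ⟨_, hx, rfl⟩
  rw [W.fixed_inter_O (hmem _ hx hstab).1 hc, one_mul]
  exact hi

/-- The field element centralizes nothing in the `3'`-core. -/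
theorem cent_d_O (hE : W.Extra) (hg : 3 ≤ W.g) {x : Y} (hx : x ∈ Cfsg.pPrimeCore 3 Y)
    (hxd : Commute x W.d) : x = 1 := by
  classical
  haveI : Fact (Nat.Prime 3) := ⟨Nat.prime_three⟩
  haveI := Fintype.ofFinite F
  haveI hOn : (Cfsg.pPrimeCore 3 Y).Normal := Subgroup.sSup_normal _ (fun _ h => h.1)
  have hO3 := CfsgLib.Coprime.pPrimeCore_not_dvd (G := Y) Nat.prime_three
  set C := Cfsg.pPrimeCore 3 Y ⊓ centralizer ({W.d} : Set Y)
  set A₁ := W.ι.range ⊓ centralizer ({W.d} : Set Y) with hA₁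
  have hC3 : ¬ 3 ∣ Nat.card C := fun hd => hO3 (hd.trans (card_dvd_of_le inf_le_left))
  haveI : IsMulCommutative A₁ := ⟨⟨fun a b => Subtype.ext (by
    obtain ⟨p, hp⟩ := (mem_inf.1 a.2).1
    obtain ⟨q, hq⟩ := (mem_inf.1 b.2).1
    show (a : Y) * b = b * a
    rw [← hp, ← hq, ← map_mul, ← map_mul, mul_comm])⟩⟩
  obtain ⟨x₀, hx₀, hfx₀⟩ := W.exists_fix
  -- a second fixed line
  obtain ⟨c, hc0, hc1, hc2, hcs⟩ : ∃ c : F, c ≠ 0 ∧ c ≠ 1 ∧ c ≠ 2 ∧ c ^ 3 ^ W.g = c := by
    obtain ⟨ν, hν⟩ := IsCyclic.exists_generator (α := Fˣ)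
    have hq : Fintype.card F = 3 ^ W.n := by rw [← W.hcard, Nat.card_eq_fintype_card]
    have hνo : orderOf ν = 3 ^ W.n - 1 := by
      rw [orderOf_eq_card_of_forall_mem_zpowers hν, Nat.card_units, Nat.card_eq_fintype_card, hq]
    obtain ⟨m, hm⟩ : 3 ^ W.g - 1 ∣ 3 ^ W.n - 1 :=
      Nat.pow_sub_one_dvd_pow_sub_one _ (W.n_eq ▸ dvd_mul_left _ _)
    have h27 : 27 ≤ 3 ^ W.g := by
      calc 27 = 3 ^ 3 := by norm_num
        _ ≤ 3 ^ W.g := Nat.pow_le_pow_right (by norm_num) hg
    have h1n : 3 ^ W.n - 1 ≠ 0 := by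
      rw [← hνo]; exact (orderOf_pos ν).ne'
    have hm0 : m ≠ 0 := fun e => h1n (by rw [hm, e, mul_zero])
    have hord : orderOf (ν ^ m) = 3 ^ W.g - 1 := by
      rw [orderOf_pow_of_dvd hm0 (hνo ▸ hm ▸ dvd_mul_left _ _), hνo, hm,
        Nat.mul_div_cancel _ (Nat.pos_of_ne_zero hm0)]
    refine ⟨((ν ^ m : Fˣ) : F), Units.ne_zero _, fun e => ?_, fun e => ?_, ?_⟩
    · rw [Units.val_eq_one.1 e, orderOf_one] at hord; omega
    · have h3 : (3 : F) = 0 := (CharP.cast_eq_zero_iff F 3 3).2 dvd_rfl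
      have h4 : (ν ^ m) * (ν ^ m) = 1 := Units.ext (by
        rw [Units.val_mul, e, Units.val_one]; linear_combination h3)
      have h5 : orderOf (ν ^ m) ∣ 2 := orderOf_dvd_of_pow_eq_one (by rw [pow_two, h4])
      have := Nat.le_of_dvd two_pos h5
      omega
    · have h6 : (ν ^ m) ^ 3 ^ W.g = ν ^ m := by
        rw [show 3 ^ W.g = (3 ^ W.g - 1) + 1 by omega, pow_succ, ← hord, pow_orderOf_eq_one, one_mul]
      exact_mod_cast congrArg Units.val h6
  have hmemA : ∀ z : F, W.f z = z → W.ι (Multiplicative.ofAdd z) ∈ A₁ := fun z hz =>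
    ⟨⟨_, rfl⟩, mem_centralizer_singleton_iff.2 (by
      have h := W.d_act z
      rw [hz] at h
      exact (mul_inv_eq_iff_eq_mul.1 h).symm)⟩
  have hfcx : W.f (c * x₀) = c * x₀ := by rw [W.f_semi, hfx₀, hcs]
  have hA₁3 : IsPGroup 3 A₁ := fun z => ⟨1, Subtype.ext (by
    obtain ⟨p, hp⟩ := (mem_inf.1 z.2).1
    rw [Subgroup.coe_pow, ← hp, pow_one, W.cube]; rfl)⟩
  have hcyc : ¬ IsCyclic A₁ := by
    intro hcy
    have hexp : Monoid.exponent A₁ ∣ 3 := Monoid.exponent_dvd_of_forall_pow_eq_one fun z => Subtype.ext (by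
      obtain ⟨p, hp⟩ := (mem_inf.1 z.2).1
      rw [Subgroup.coe_pow, ← hp, W.cube]; rfl)
    rw [IsCyclic.exponent_eq_card] at hexp
    have h3 := Nat.le_of_dvd (by norm_num) hexp
    have h2x : (2 : F) * x₀ ≠ 0 := mul_ne_zero (fun e => by
      have h3 : (3 : F) = 0 := (CharP.cast_eq_zero_iff F 3 3).2 dvd_rfl
      exact one_ne_zero (α := F) (by linear_combination h3 - e)) hx₀
    have hf2 : W.f (2 * x₀) = 2 * x₀ := by
      rw [W.f_semi, hfx₀]
      congr 1
      haveI : ExpChar F 3 := ExpChar.prime Nat.prime_three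
      have h := map_natCast (iterateFrobenius F 3 W.g) 2
      rw [iterateFrobenius_def] at h
      exact_mod_cast h
    have hinj : Function.Injective (fun i : Fin 4 =>
        (⟨W.ι (Multiplicative.ofAdd (![0, x₀, 2 * x₀, c * x₀] i)), hmemA _ (by
          fin_cases i
          · show W.f 0 = 0
            have := W.f_semi 0 x₀
            rwa [zero_mul, zero_pow (by positivity), zero_mul] at this
          · exact hfx₀
          · exact hf2
          · exact hfcx)⟩ : A₁)) := fun i j hij => by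
      have h := Multiplicative.ofAdd.injective (W.ι_inj (congrArg Subtype.val hij))
      have h21 : (2 : F) ≠ 1 := fun e => one_ne_zero (α := F) (by linear_combination e)
      fin_cases i <;> fin_cases j <;> simp [hx₀, h2x.symm, hc0, hc1, hc2, h21, h21.symm, Ne.symm hc1, Ne.symm hc2,
        Ne.symm hx₀, (left_ne_zero_of_mul h2x).symm, left_ne_zero_of_mul h2x] at h ⊢
    have h4 := Nat.card_le_card_of_injective _ hinj
    rw [Nat.card_fin] at h4
    omega
  have hA₁C : A₁ ≤ normalizer (C : Set Y) :=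
    CfsgLib.Coprime.inf_le_normalizer (A := A₁) (by rw [normalizer_eq_top]; exact le_top)
      (inf_le_right.trans le_normalizer)
  have hle : C ≤ ⊥ := by
    refine CfsgLib.Coprime.le_of_centralizers_le hcyc hA₁C ?_ fun y hy hy1 z hz => ?_
    · obtain ⟨i, hi⟩ := hA₁3.exists_card_eq
      rw [hi]
      exact (Nat.prime_three.coprime_iff_not_dvd.2 hC3).pow_left i
    · obtain ⟨⟨hzO, hzd⟩, hzy⟩ := hz
      rw [mem_bot]
      exact hE.O_cent z y (W.inverted_O hzO) (fun hd => hO3 (hd.trans (Subgroup.orderOf_dvd_natCard _ hzO)))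
        (mem_centralizer_singleton_iff.1 hzd) hy1 hy.1 (mem_centralizer_singleton_iff.1 hy.2)
        (mem_centralizer_singleton_iff.1 hzy)
  exact mem_bot.1 (hle ⟨hx, mem_centralizer_singleton_iff.2 hxd.eq⟩)

/-- When `τ` is trivial on a quotient with small kernel on the fixed points the field part is separated. -/
theorem exists_hom_of_trivial {V : Type v} [Group V] (p : Y →* V) (hp : Function.Surjective p)
    (hτ : ∀ y, p (W.τ y) = p y) (hker : ∀ y, W.τ y = y → p y = 1 → y ∈ W.lin) :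
    ∃ (M : Type u) (_ : CommGroup M) (χ : Y →* M), (∀ y, χ (W.τ y) = χ y) ∧ χ W.d ≠ 1 := by
  classical
  obtain ⟨ψ, hψ, hψd⟩ := W.exists_psi
  have hex : ∀ y : Y, ∃ c : Outer.fixed W.τ, p c = p y := fun y => by
    obtain ⟨c, i, rfl, hc, hi, -⟩ := Outer.exists_fixed_mul_inverted W.odd W.invol y
    refine ⟨⟨c, hc⟩, ?_⟩
    have h1 := hτ i
    rw [hi, map_inv, inv_eq_iff_mul_eq_one] at h1
    obtain ⟨k, hk⟩ := W.odd.of_dvd_nat (orderOf_dvd_natCard i)
    have h2 : p i = 1 := by
      calc p i = p i * (p i * p i) ^ k := by rw [h1, one_pow, mul_one]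
        _ = p (i ^ orderOf i) := by rw [hk, map_pow, pow_succ', pow_mul, pow_two]
        _ = 1 := by rw [pow_orderOf_eq_one, map_one]
    rw [map_mul, h2, mul_one]
  choose c hc using hex
  have huniq : ∀ (y : Y) (e : Outer.fixed W.τ), p e = p y → ψ (c y) = ψ e := fun y e he => by
    rw [← mul_inv_eq_one, ← map_inv, ← map_mul]
    refine hψ _ (hker _ (c y * e⁻¹).2 ?_)
    rw [Subgroup.coe_mul, Subgroup.coe_inv, map_mul, map_inv, hc, he, mul_inv_cancel]
  refine ⟨zpowers W.d, { (inferInstance : Group (zpowers W.d)) with mul_comm := fun a b => mul_comm' a b },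
    MonoidHom.mk' (fun y => ψ (c y)) fun y z => ?_, fun y => ?_, fun h => ?_⟩
  · show ψ (c (y * z)) = ψ (c y) * ψ (c z)
    rw [← map_mul]
    exact huniq _ _ (by rw [Subgroup.coe_mul, map_mul, map_mul, hc, hc])
  · exact huniq _ _ (by rw [hc, hτ])
  · have hd : W.d ∈ Outer.fixed W.τ := W.d_fix
    have h1 : ψ (c W.d) = 1 := h
    rw [huniq W.d ⟨W.d, hd⟩ rfl] at h1
    exact W.d_ne_one ((hψd hd).symm.trans (congrArg Subtype.val h1 :))

/-- The character. -/
theorem exists_hom (hE : 3 ≤ W.g → W.Extra) :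
    ∃ (M : Type u) (_ : CommGroup M) (χ : Y →* M), (∀ y, χ (W.τ y) = χ y) ∧ χ W.d ≠ 1 := by
  classical
  haveI : Fact (Nat.Prime 3) := ⟨Nat.prime_three⟩
  haveI := W.solvable
  set O := Cfsg.pPrimeCore 3 Y with hOdef
  haveI hOn : O.Normal := Subgroup.sSup_normal _ (fun _ h => h.1)
  have hO3 : ¬ 3 ∣ Nat.card O := CfsgLib.Coprime.pPrimeCore_not_dvd Nat.prime_three
  have hOmap : O.map W.τ.toMonoidHom = O := CfsgLib.Coprime.map_pPrimeCore_equiv W.τ 3
  set π := QuotientGroup.mk' O with hπ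
  have hπs : Function.Surjective π := QuotientGroup.mk'_surjective O
  let τ' : MulAut (Y ⧸ O) := QuotientGroup.congr O O W.τ hOmap
  have hτ2 : ∀ x, τ' (τ' x) = x := fun x => by
    induction x using QuotientGroup.induction_on with
    | H y => exact congrArg QuotientGroup.mk (W.invol y)
  have hodd' : Odd (Nat.card (Y ⧸ O)) := W.odd.of_dvd_nat (card_quotient_dvd_card O)
  have hπinj : ∀ x, W.τ x = x → π x = 1 → x = 1 := fun x hx h1 =>
    W.fixed_inter_O ((QuotientGroup.eq_one_iff x).1 h1) hx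
  set Q := Cfsg.pCore 3 (Y ⧸ O) with hQdef
  haveI hQn : Q.Normal := CfsgLib.Coprime.pCore_normal' (G := Y ⧸ O) 3
  have hQp : IsPGroup 3 Q := CfsgLib.Coprime.pCore_isPGroup 3
  haveI : Group.IsSolvable (Y ⧸ O) := Group.isSolvable_of_surjective hπs
  have hCQ : centralizer (Q : Set (Y ⧸ O)) ≤ Q :=
    CfsgLib.Coprime.centralizer_pCore_le (CfsgLib.Coprime.pPrimeCore_quotient_eq_bot Nat.prime_three)
  have hQτ : Q.map τ'.toMonoidHom = Q := CfsgLib.Coprime.map_pCore_equiv τ' 3
  have hodd'' : Odd (Nat.card ((Y ⧸ O) ⧸ Q)) := hodd'.of_dvd_nat (card_quotient_dvd_card Q)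
  set p₂ := QuotientGroup.mk' Q
  let p : Y →* (Y ⧸ O) ⧸ Q := p₂.comp π
  have hps : Function.Surjective p := (QuotientGroup.mk'_surjective Q).comp hπs
  let τV : MulAut ((Y ⧸ O) ⧸ Q) := QuotientGroup.congr Q Q τ' hQτ
  have hpτ : ∀ y, p (W.τ y) = τV (p y) := fun y => rfl
  have hp1 : ∀ y, p y = 1 ↔ π y ∈ Q := fun y => QuotientGroup.eq_one_iff (π y)
  have hQord : ∀ y, π y ∈ Q → ∀ k : ℕ, ¬ 3 ∣ k → y ^ k = 1 → π y = 1 := fun y hy k hk hy1 => by
    obtain ⟨j, hj⟩ := hQp ⟨π y, hy⟩
    exact orderOf_eq_one_iff.1 (Nat.eq_one_of_dvd_coprimes ((Nat.prime_three.coprime_iff_not_dvd.2 hk).pow_left j)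
      (orderOf_dvd_of_pow_eq_one (congrArg Subtype.val hj :))
      (orderOf_dvd_of_pow_eq_one (by rw [← map_pow, hy1, map_one])))
  -- the unipotent elements in `Q`
  have hline : ∀ (P : F → Prop), P 0 → (∀ x y, P x → P y → P (x + y)) → (∀ x, P x → P (W.μ * x)) →
      ∀ x, x ≠ 0 → P x → ∀ y, P y := by
    intro P h0 hadd hμ x hx hPx y
    let R : Subring F :=
      { carrier := {c | ∀ z, P z → P (c * z)}
        mul_mem' := fun {a b} ha hb z hz => by rw [mul_assoc]; exact ha _ (hb z hz)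
        one_mem' := fun z hz => by rwa [one_mul]
        add_mem' := fun {a b} ha hb z hz => by rw [add_mul]; exact hadd _ _ (ha z hz) (hb z hz)
        zero_mem' := fun z _ => by rwa [zero_mul]
        neg_mem' := fun {a} ha z hz => by
          have h3 : (3 : F) = 0 := (CharP.cast_eq_zero_iff F 3 3).2 dvd_rfl
          rw [show -a * z = a * z + a * z by linear_combination (-(a * z)) * h3]
          exact hadd _ _ (ha z hz) (ha z hz) }
    haveI := Fintype.ofFinite F
    have hinv : ∀ c ∈ R, c⁻¹ ∈ R := fun c hc => by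
      by_cases hc0 : c = 0
      · rw [hc0, inv_zero]; exact zero_mem _
      have h1 := Fintype.one_lt_card (α := F)
      rw [show c⁻¹ = c ^ (Fintype.card F - 2) by
        refine (eq_inv_of_mul_eq_one_left ?_).symm
        rw [← pow_succ, show Fintype.card F - 2 + 1 = Fintype.card F - 1 by omega,
          FiniteField.pow_card_sub_one_eq_one c hc0]]
      exact pow_mem hc _
    have hn1 : 1 ≤ W.n := by obtain ⟨i, hi⟩ := W.n_odd; omega
    have htop : ({ R with inv_mem' := hinv } : Subfield F) = ⊤ :=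
      W.μ_gen 1 le_rfl hn1 _ (show W.μ ^ 1 ∈ R by rw [pow_one]; exact hμ)
    have hy : y * x⁻¹ ∈ ({ R with inv_mem' := hinv } : Subfield F) := htop ▸ Subfield.mem_top _
    have h2 : P (y * x⁻¹ * x) := hy x hPx
    rwa [inv_mul_cancel_right₀ hx] at h2
  have hAμ : ∀ (S : Subgroup (Y ⧸ O)), (∀ s ∈ S, π W.w * s * (π W.w)⁻¹ ∈ S) → ∀ z : F,
      π (W.ι (Multiplicative.ofAdd z)) ∈ S → π (W.ι (Multiplicative.ofAdd (W.μ * z))) ∈ S := fun S hS z hz => by
    rw [← W.w_act, map_mul, map_mul, map_inv]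
    exact hS _ hz
  have hfixQ : ∀ x, W.τ x = x → π x ∈ Q → x ∈ W.ι.range ∧ ∀ z, π (W.ι z) ∈ Q ∨ x = 1 := by
    intro x hx hxQ
    by_cases hA : ∀ z, π (W.ι z) ∈ Q
    · refine ⟨?_, fun z => Or.inl (hA z)⟩
      obtain ⟨u, i, j, rfl⟩ := W.fixed x hx
      have h1 : p (W.w ^ i) = (p (W.d ^ j))⁻¹ := by
        rw [eq_inv_iff_mul_eq_one, ← map_mul, hp1]
        have := mul_mem (inv_mem (hA u)) hxQ
        rwa [← map_inv, ← map_mul, mul_assoc, inv_mul_cancel_left] at this
      have hw0 : p (W.w ^ i) = 1 := by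
        obtain ⟨k, hk⟩ := W.d_pow_three
        refine orderOf_eq_one_iff.1 (Nat.eq_one_of_dvd_coprimes
          ((Nat.prime_three.coprime_iff_not_dvd.2 W.w_not_three).pow_left k) (orderOf_dvd_of_pow_eq_one ?_)
          (orderOf_dvd_of_pow_eq_one ?_))
        · rw [h1, inv_pow, inv_eq_one, ← map_pow, ← pow_mul, mul_comm, pow_mul, hk, one_pow, map_one]
        · rw [← map_pow, ← pow_mul, mul_comm, pow_mul, pow_orderOf_eq_one, one_pow, map_one]
      have hwi : W.w ^ i = 1 := hπinj _ (by rw [map_pow, W.w_fix]) (hQord _ ((hp1 _).1 hw0) _ W.w_not_three (by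
        rw [← pow_mul, mul_comm, pow_mul, pow_orderOf_eq_one, one_pow]))
      rw [hwi] at hxQ h1 ⊢
      rw [mul_one] at hxQ ⊢
      have hdj : p (W.d ^ j) = 1 := by rw [map_one, eq_comm, inv_eq_one] at h1; exact h1
      -- the commutator with the torus
      have hmu : W.μ ^ 3 ^ (W.g * j) = W.μ := by
        obtain ⟨l, hl, he⟩ : ∃ l ∈ W.ι.range, W.d ^ j * W.w * (W.d ^ j)⁻¹ = l * W.w ^ 3 ^ (W.g * j) := by
          have : ∀ m : ℕ, ∃ y, W.d ^ m * W.w * (W.d ^ m)⁻¹ = W.ι y * W.w ^ 3 ^ (W.g * m) := fun m => by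
            induction m with
            | zero => exact ⟨1, by simp⟩
            | succ m ih =>
              obtain ⟨y, hy⟩ := ih
              obtain ⟨z, rfl⟩ := Multiplicative.ofAdd.surjective y
              obtain ⟨y₁, hy₁⟩ := W.dwd
              rw [show W.d ^ (m + 1) * W.w * (W.d ^ (m + 1))⁻¹ = W.d * (W.d ^ m * W.w * (W.d ^ m)⁻¹) * W.d⁻¹ by
                rw [pow_succ']; group, hy,
                show W.d * (W.ι (Multiplicative.ofAdd z) * W.w ^ 3 ^ (W.g * m)) * W.d⁻¹ =
                  (W.d * W.ι (Multiplicative.ofAdd z) * W.d⁻¹) * (W.d * W.w ^ 3 ^ (W.g * m) * W.d⁻¹) by group,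
                W.d_act, ← _root_.conj_pow, hy₁]
              obtain ⟨u', i', hui⟩ := W.mem_lin (x := (W.ι y₁ * W.w ^ 3 ^ W.g) ^ 3 ^ (W.g * m))
                (pow_mem (mul_mem (mem_sup_left (show W.ι y₁ ∈ W.ι.range from ⟨y₁, rfl⟩))
                  (pow_mem (mem_sup_right (mem_zpowers _)) _)) _)
              have hact : W.w ^ i' = W.w ^ 3 ^ (W.g * (m + 1)) := by
                have hwA : ∀ q : Multiplicative F, ∃ r, W.w * W.ι q * W.w⁻¹ = W.ι r := fun q => by
                  obtain ⟨z', rfl⟩ := Multiplicative.ofAdd.surjective q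
                  exact ⟨_, W.w_act z'⟩
                have hkey : ∀ (M : ℕ) (q : Multiplicative F), ∃ r,
                    W.w ^ M * W.ι q = W.ι r * W.w ^ M := fun M => by
                  induction M with
                  | zero => intro q; exact ⟨q, by simp⟩
                  | succ M ih =>
                    intro q
                    obtain ⟨r, hr⟩ := ih q
                    obtain ⟨r', hr'⟩ := hwA r
                    exact ⟨r', by rw [pow_succ', mul_assoc, hr, ← mul_assoc, ← mul_assoc, ← hr']; group⟩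
                have hnorm : ∀ M : ℕ, ∃ r, (W.ι y₁ * W.w ^ 3 ^ W.g) ^ M = W.ι r * W.w ^ (3 ^ W.g * M) := fun M => by
                  induction M with
                  | zero => exact ⟨1, by simp⟩
                  | succ M ih =>
                    obtain ⟨r, hr⟩ := ih
                    obtain ⟨r', hr'⟩ := hkey (3 ^ W.g * M) y₁
                    exact ⟨r * r', by
                      rw [pow_succ, hr, mul_assoc, ← mul_assoc (W.w ^ _), hr', map_mul, Nat.mul_succ, pow_add]
                      simp only [mul_assoc]⟩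
                obtain ⟨r, hr⟩ := hnorm (3 ^ (W.g * m))
                have h5 : W.w ^ i' * (W.w ^ 3 ^ (W.g * (m + 1)))⁻¹ = (W.ι u')⁻¹ * W.ι r := by
                  have h6 : W.ι u' * W.w ^ i' = W.ι r * W.w ^ 3 ^ (W.g * (m + 1)) := by
                    rw [← hui, hr, ← pow_add, show W.g + W.g * m = W.g * (m + 1) by ring]
                  calc _ = (W.ι u')⁻¹ * (W.ι u' * W.w ^ i') * (W.w ^ 3 ^ (W.g * (m + 1)))⁻¹ := by group
                    _ = _ := by rw [h6]; group
                refine mul_inv_eq_one.1 (orderOf_eq_one_iff.1 (Nat.eq_one_of_dvd_coprimes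
                  (Nat.prime_three.coprime_iff_not_dvd.2 W.w_not_three) (orderOf_dvd_of_pow_eq_one ?_)
                  (orderOf_dvd_of_pow_eq_one ?_)))
                · rw [h5, ← map_inv, ← map_mul, W.cube]
                · rw [((Commute.refl W.w).pow_pow i' _).inv_right.mul_pow, inv_pow, ← pow_mul, ← pow_mul,
                    mul_comm i', mul_comm (3 ^ (W.g * (m + 1))), pow_mul, pow_mul, pow_orderOf_eq_one, one_pow,
                    one_pow, inv_one, mul_one]
              exact ⟨Multiplicative.ofAdd (W.f z) * u', by rw [hui, hact, map_mul, mul_assoc]⟩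
          obtain ⟨y, hy⟩ := this j
          exact ⟨_, ⟨y, rfl⟩, hy⟩
        obtain ⟨r, rfl⟩ := hl
        have hpl : p (W.ι r) = 1 := (hp1 _).2 (hA r)
        have h2 : p (W.w ^ 3 ^ (W.g * j)) = p W.w := by
          have := congrArg p he
          rw [map_mul, map_mul, map_inv, hdj, one_mul, inv_one, mul_one, map_mul, hpl, one_mul] at this
          exact this.symm
        obtain ⟨N', hN'⟩ := Nat.exists_eq_succ_of_ne_zero (orderOf_pos W.w).ne'
        have h3 : p (W.w ^ (3 ^ (W.g * j) + N')) = 1 := by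
          rw [pow_add, map_mul, h2, ← map_mul, ← pow_succ', ← Nat.succ_eq_add_one, ← hN', pow_orderOf_eq_one,
            map_one]
        have h4 : W.w ^ (3 ^ (W.g * j) + N') = 1 := hπinj _ (by rw [map_pow, W.w_fix])
          (hQord _ ((hp1 _).1 h3) _ W.w_not_three (by rw [← pow_mul, mul_comm, pow_mul, pow_orderOf_eq_one, one_pow]))
        have h5 := (W.conj_pow (3 ^ (W.g * j) + N') 0 1).1
        rw [h4, pow_zero, one_mul, one_mul, inv_one, mul_one, Function.iterate_zero_apply, mul_one] at h5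
        have h6 := (W.conj_pow (orderOf W.w) 0 1).1
        rw [pow_orderOf_eq_one, pow_zero, one_mul, one_mul, inv_one, mul_one, Function.iterate_zero_apply,
          mul_one] at h6
        have h7 : W.μ ^ (N' + 1) = 1 := by
          rw [← Nat.succ_eq_add_one, ← hN']; exact (Multiplicative.ofAdd.injective (W.ι_inj h6)).symm
        have h8 : W.μ ^ (3 ^ (W.g * j) + N') = 1 := (Multiplicative.ofAdd.injective (W.ι_inj h5)).symm
        calc W.μ ^ 3 ^ (W.g * j) = W.μ ^ 3 ^ (W.g * j) * W.μ ^ (N' + 1) := by rw [h7, mul_one]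
          _ = W.μ := by rw [pow_succ, ← mul_assoc, ← pow_add, h8, one_mul]
      rw [W.d_pow_eq_one hmu, mul_one]
      exact ⟨u, rfl⟩
    · -- `Q` meets the unipotent subgroup trivially
      have hAQ : ∀ z, π (W.ι z) ∈ Q → z = 1 := by
        intro z hz
        by_contra hz1
        obtain ⟨z', rfl⟩ := Multiplicative.ofAdd.surjective z
        refine hA fun y => ?_
        obtain ⟨y', rfl⟩ := Multiplicative.ofAdd.surjective y
        exact hline (fun e => π (W.ι (Multiplicative.ofAdd e)) ∈ Q)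
          (by rw [ofAdd_zero, map_one, map_one]; exact one_mem _)
          (fun a b ha hb => by rw [ofAdd_add, map_mul, map_mul]; exact mul_mem ha hb)
          (hAμ Q fun s hs => hQn.conj_mem s hs _) z' (fun e => hz1 (by rw [e, ofAdd_zero])) hz y'
      obtain ⟨u, i, j, rfl⟩ := W.fixed x hx
      obtain ⟨hd, hμ⟩ := W.eq_of_act (i := i) (j := j) (c := 1) fun z => by
        rw [one_mul]
        have hA' : W.ι u * W.w ^ i * W.d ^ j * W.ι (Multiplicative.ofAdd z) * (W.ι u * W.w ^ i * W.d ^ j)⁻¹ =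
            W.ι (Multiplicative.ofAdd (W.μ ^ i * W.f^[j] z)) := by
          rw [show W.ι u * W.w ^ i * W.d ^ j * W.ι (Multiplicative.ofAdd z) * (W.ι u * W.w ^ i * W.d ^ j)⁻¹ =
            W.ι u * (W.w ^ i * W.d ^ j * W.ι (Multiplicative.ofAdd z) * (W.w ^ i * W.d ^ j)⁻¹) * (W.ι u)⁻¹
            by group, (W.conj_pow i j z).1, ← map_inv, ← map_mul, ← map_mul, mul_inv_cancel_comm]
        refine Multiplicative.ofAdd.injective (mul_inv_eq_one.1 (hAQ _ ?_))
        rw [map_mul W.ι, map_inv W.ι, ← hA',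
          show ∀ a b : Y, a * b * a⁻¹ * b⁻¹ = a * (b * a⁻¹ * b⁻¹) from fun a b => by group, map_mul π]
        refine mul_mem hxQ ?_
        rw [map_mul π, map_mul π, map_inv π, map_inv π]
        exact hQn.conj_mem _ (inv_mem hxQ) _
      rw [hd, W.μ_pow i hμ, mul_one, mul_one] at hxQ ⊢
      rw [hAQ u hxQ, map_one]
      exact ⟨⟨1, map_one _⟩, fun _ => Or.inr rfl⟩
  have hkerlin : ∀ y, W.τ y = y → p y = 1 → y ∈ W.lin := fun y hy hy1 =>
    mem_sup_left (hfixQ y hy ((hp1 y).1 hy1)).1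
  -- the Frattini quotient
  set Φ := frattini Q with hΦ
  have hcomm : ∀ a b : Q ⧸ Φ, a * b = b * a := by
    intro a b
    obtain ⟨a, rfl⟩ := QuotientGroup.mk'_surjective Φ a
    obtain ⟨b, rfl⟩ := QuotientGroup.mk'_surjective Φ b
    rw [← commutatorElement_eq_one_iff_mul_comm, ← map_commutatorElement]
    exact (QuotientGroup.eq_one_iff _).2 (CfsgLib.Coprime.commutator_le_frattini hQp
      (commutator_mem_commutator (mem_top a) (mem_top b)))
  letI : CommGroup (Q ⧸ Φ) := { (inferInstance : Group (Q ⧸ Φ)) with mul_comm := hcomm }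
  let endHom : MulAut (Q ⧸ Φ) →* AddMonoid.End (Additive (Q ⧸ Φ)) :=
    { toFun := fun h => MonoidHom.toAdditive h.toMonoidHom
      map_one' := rfl
      map_mul' := fun _ _ => rfl }
  let ρ₀ : (Y ⧸ O) →* AddMonoid.End (Additive (Q ⧸ Φ)) := endHom.comp (CfsgLib.SchmidtKernel.frattiniAct Q)
  let mk : Q → Additive (Q ⧸ Φ) := fun q => Additive.ofMul (QuotientGroup.mk q)
  have hmk : ∀ x : Additive (Q ⧸ Φ), ∃ q, mk q = x := fun x => QuotientGroup.mk_surjective (Additive.toMul x)
  have hρmk : ∀ (y : Y ⧸ O) (q : Q), ρ₀ y (mk q) = mk (MulAut.conjNormal y q) := fun y q => rfl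
  have hmkmul : ∀ a b : Q, mk (a * b) = mk a + mk b := fun a b => rfl
  have hmkinv : ∀ a : Q, mk a⁻¹ = -mk a := fun a => rfl
  let τQ : MulAut Q :=
    { toFun := fun q => ⟨τ' q, hQτ.le ⟨q, q.2, rfl⟩⟩
      invFun := fun q => ⟨τ' q, hQτ.le ⟨q, q.2, rfl⟩⟩
      left_inv := fun q => Subtype.ext (hτ2 q)
      right_inv := fun q => Subtype.ext (hτ2 q)
      map_mul' := fun a b => Subtype.ext (map_mul τ' (a : Y ⧸ O) b) }
  let T : AddMonoid.End (Additive (Q ⧸ Φ)) :=
    endHom (QuotientGroup.congr Φ Φ τQ (Subgroup.characteristic_iff_map_eq.1 inferInstance τQ))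
  have hTmk : ∀ q : Q, T (mk q) = mk (τQ q) := fun q => rfl
  have hker : ∀ y, ρ₀ y = 1 → y ∈ Q := by
    let ker : Subgroup (Y ⧸ O) := (CfsgLib.SchmidtKernel.frattiniAct Q).ker
    have hmemker : ∀ y, ρ₀ y = 1 → y ∈ ker := fun y hy => by
      rw [MonoidHom.mem_ker]
      refine MulEquiv.ext fun q => ?_
      exact congrArg Additive.toMul (DFunLike.congr_fun hy (Additive.ofMul q))
    haveI : ker.Normal := MonoidHom.normal_ker _
    have hkerQ : ker ≤ Q := by
      refine le_sSup ⟨inferInstance, CfsgLib.Invol.isPGroup_of_coprime_trivial _ fun y hy hc => ?_⟩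
      refine CfsgLib.Invol.eq_one_of_coprime_of_isPGroup hQp (hCQ ?_) hc
      have hAy : zpowers y ≤ centralizer (Q : Set (Y ⧸ O)) := by
        refine CfsgLib.Coprime.le_centralizer_of_trivial_on_frattini_quotient
          (by rw [normalizer_eq_top]; exact le_top) ?_ fun a ha k hk => ?_
        · obtain ⟨m, hm⟩ := IsPGroup.iff_card.1 (hQp.to_subgroup (frattini Q))
          rw [Nat.card_zpowers, hm]
          exact Nat.Coprime.pow_right m hc
        · have h1 : mk (MulAut.conjNormal a ⟨k, hk⟩) = mk ⟨k, hk⟩ := by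
            rw [← hρmk]
            show endHom (CfsgLib.SchmidtKernel.frattiniAct Q a) _ = _
            rw [show CfsgLib.SchmidtKernel.frattiniAct Q a = 1 from
              MonoidHom.mem_ker.1 ((zpowers_le.2 hy : zpowers y ≤ ker) ha)]
            rfl
          have h2 : MulAut.conjNormal a (⟨k, hk⟩ : Q) * (⟨k, hk⟩ : Q)⁻¹ ∈ Φ := by
            rw [← QuotientGroup.eq_one_iff, QuotientGroup.mk_mul, QuotientGroup.mk_inv,
              show QuotientGroup.mk (MulAut.conjNormal a (⟨k, hk⟩ : Q)) = QuotientGroup.mk (⟨k, hk⟩ : Q)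
                from congrArg Additive.toMul h1, mul_inv_cancel]
          exact ⟨_, h2, by simp⟩
      exact hAy (mem_zpowers y)
    exact fun y hy => hkerQ (hmemker y hy)
  have hρQ : Q ≤ ρ₀.ker := by
    intro q hq
    rw [MonoidHom.mem_ker]
    refine DFunLike.ext _ _ fun x => ?_
    obtain ⟨x, rfl⟩ := hmk x
    rw [hρmk]
    show mk (MulAut.conjNormal ((⟨q, hq⟩ : Q) : Y ⧸ O) x) = mk x
    rw [show MulAut.conjNormal ((⟨q, hq⟩ : Q) : Y ⧸ O) x = ⟨q, hq⟩ * x * (⟨q, hq⟩ : Q)⁻¹ from Subtype.ext rfl,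
      hmkmul, hmkmul, hmkinv]
    abel
  let ρ := QuotientGroup.lift Q ρ₀ hρQ
  have hρinj : Function.Injective ρ := by
    rw [injective_iff_map_eq_one]
    intro v hv
    obtain ⟨y, rfl⟩ := QuotientGroup.mk'_surjective Q v
    exact (QuotientGroup.eq_one_iff y).2 (hker y hv)
  have hsq : ∀ x, T (T x) = x := fun x => by
    obtain ⟨q, rfl⟩ := hmk x
    rw [hTmk, hTmk]
    exact congrArg mk (Subtype.ext (hτ2 q))
  have hcompat : ∀ v x, T (ρ v (T x)) = ρ (τV v) x := fun v x => by
    obtain ⟨y, rfl⟩ := QuotientGroup.mk'_surjective Q v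
    obtain ⟨q, rfl⟩ := hmk x
    show T (ρ₀ y (T (mk q))) = ρ₀ (τ' y) (mk q)
    rw [hTmk, hρmk, hTmk, hρmk]
    refine congrArg mk (Subtype.ext ?_)
    show τ' (y * τ' q * y⁻¹) = τ' y * q * (τ' y)⁻¹
    rw [map_mul, map_mul, map_inv, hτ2]
  have hUfix : ∀ x, T x = x → ∃ (c : Y) (hc : π c ∈ Q), W.τ c = c ∧ mk ⟨π c, hc⟩ = x := by
    intro x hx
    obtain ⟨q, hq, rfl⟩ := exists_fixed_lift (f := QuotientGroup.mk' Φ) (QuotientGroup.mk'_surjective Φ) (τ := τQ)
      (fun q => Subtype.ext (hτ2 q)) (hodd'.of_dvd_nat (card_subgroup_dvd_card Q))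
      ((hodd'.of_dvd_nat (card_subgroup_dvd_card Q)).of_dvd_nat (card_quotient_dvd_card Φ))
      (σ := QuotientGroup.congr Φ Φ τQ (Subgroup.characteristic_iff_map_eq.1 inferInstance τQ)) (fun _ => rfl)
      (z := Additive.toMul x) (congrArg Additive.toMul hx)
    obtain ⟨c, hc, hcq⟩ := exists_fixed_lift (f := π) hπs W.invol W.odd hodd' (σ := τ') (fun _ => rfl)
      (z := (q : Y ⧸ O)) (congrArg Subtype.val hq)
    refine ⟨c, hcq ▸ q.2, hc, ?_⟩
    show mk _ = Additive.ofMul (QuotientGroup.mk' Φ q)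
    exact congrArg mk (Subtype.ext hcq)
  by_cases hT : ∀ x, T x = x → x = 0
  · -- `τ` is trivial on the quotient
    have hneg : ∀ x, T x = -x := fun x => eq_neg_of_add_eq_zero_left (hT _ (by rw [map_add, hsq, add_comm]))
    refine W.exists_hom_of_trivial p hps (fun y => ?_) hkerlin
    rw [hpτ]
    refine hρinj (DFunLike.ext _ _ fun x => ?_)
    rw [← hcompat, hneg, hneg, map_neg, neg_neg]
  -- the semilinear line
  push Not at hT
  obtain ⟨x₁, hx₁, hx₁0⟩ := hT
  obtain ⟨c₁, hc₁Q, hc₁, hc₁x⟩ := hUfix x₁ hx₁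
  obtain ⟨⟨u₁, hu₁⟩, hall⟩ := hfixQ c₁ hc₁ hc₁Q
  have hc₁1 : c₁ ≠ 1 := fun e => hx₁0 (by
    rw [← hc₁x, show (⟨π c₁, hc₁Q⟩ : Q) = 1 from Subtype.ext (by show π c₁ = 1; rw [e, map_one])]
    rfl)
  have hA : ∀ z, π (W.ι z) ∈ Q := fun z => (hall z).resolve_right hc₁1
  let ιU : F →+ Additive (Q ⧸ Φ) :=
    AddMonoidHom.mk' (fun z => mk ⟨π (W.ι (Multiplicative.ofAdd z)), hA _⟩) fun a b => by
      rw [← hmkmul]
      exact congrArg mk (Subtype.ext (by
        show π (W.ι (Multiplicative.ofAdd (a + b))) = _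
        rw [ofAdd_add, map_mul, map_mul]; rfl))
  have hρι : ∀ (y : Y) (z z' : F), y * W.ι (Multiplicative.ofAdd z) * y⁻¹ = W.ι (Multiplicative.ofAdd z') →
      ρ (p y) (ιU z) = ιU z' := fun y z z' h => by
    refine congrArg mk (Subtype.ext ?_)
    show π y * π (W.ι (Multiplicative.ofAdd z)) * (π y)⁻¹ = π (W.ι (Multiplicative.ofAdd z'))
    rw [← h, map_mul, map_mul, map_inv]
  have hιinj : Function.Injective ιU := by
    rw [injective_iff_map_eq_zero]
    intro z hz
    by_contra hz0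
    have hzero : ∀ z', ιU z' = 0 := hline (fun e => ιU e = 0) (map_zero _)
      (fun a b ha hb => by rw [map_add, ha, hb, add_zero])
      (fun a ha => by rw [← hρι W.w a _ (W.w_act a), ha, map_zero]) z hz0 hz
    obtain ⟨z', hz'⟩ := Multiplicative.ofAdd.surjective u₁
    refine hx₁0 ?_
    rw [← hc₁x, ← hzero z']
    exact congrArg mk (Subtype.ext (by show π c₁ = π (W.ι (Multiplicative.ofAdd z')); rw [hz', hu₁]))
  have hpA : ∀ z, p (W.ι z) = 1 := fun z => (hp1 _).2 (hA z)
  have hcoreV : Cfsg.pCore 3 ((Y ⧸ O) ⧸ Q) = ⊥ := by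
    haveI := CfsgLib.Coprime.pCore_normal' (G := (Y ⧸ O) ⧸ Q) 3
    have h1 : (Cfsg.pCore 3 ((Y ⧸ O) ⧸ Q)).comap p₂ ≤ Q :=
      CfsgLib.Coprime.le_pCore ((CfsgLib.Coprime.pCore_isPGroup 3).comap_of_ker_isPGroup _
        (by rw [QuotientGroup.ker_mk']; exact hQp))
    rw [eq_bot_iff]
    intro x hx
    obtain ⟨y, rfl⟩ := QuotientGroup.mk'_surjective Q x
    exact (QuotientGroup.eq_one_iff y).2 (h1 hx)
  have hdne : p W.d ≠ 1 := fun e => by
    obtain ⟨u, hu⟩ := (hfixQ _ W.d_fix ((hp1 _).1 e)).1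
    have h1 : W.d ^ 1 = 1 := W.d_pow_lin (by rw [pow_one]; exact mem_sup_left ⟨u, hu⟩)
    exact W.d_ne_one (by rwa [pow_one] at h1)
  have hτVi : ∀ v, τV (τV v) = v := fun v => by
    induction v using QuotientGroup.induction_on with
    | H y => exact congrArg QuotientGroup.mk (hτ2 y)
  let D : VData ((Y ⧸ O) ⧸ Q) (Additive (Q ⧸ Φ)) F :=
    { τ := τV
      invol := hτVi
      ρ := ρ
      inj := hρinj
      T := T
      sq := hsq
      compat := hcompat
      three := fun x => by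
        obtain ⟨q, rfl⟩ := hmk x
        rw [← hmkmul, ← hmkmul]
        show mk (q * q * q) = 0
        have : q * q * q ∈ Φ := by
          have := CfsgLib.Coprime.pow_mem_frattini hQp q
          rwa [pow_succ, pow_two] at this
        exact congrArg Additive.ofMul ((QuotientGroup.eq_one_iff _).2 this)
      ι := ιU
      ι_inj := hιinj
      fix_iff := fun x => by
        constructor
        · intro hx
          obtain ⟨c, hcQ, hc, hcx⟩ := hUfix x hx
          obtain ⟨u, rfl⟩ := (hfixQ c hc hcQ).1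
          obtain ⟨z, rfl⟩ := Multiplicative.ofAdd.surjective u
          exact ⟨z, hcx⟩
        · rintro ⟨z, rfl⟩
          show T (mk _) = mk _
          rw [hTmk]
          exact congrArg mk (Subtype.ext (congrArg π (W.ι_fix (Multiplicative.ofAdd z))))
      n := W.n
      hcard := W.hcard
      μ := W.μ
      μ_ne := W.μ_ne
      μ_gen := W.μ_gen
      w := p W.w
      d := p W.d
      g := W.g
      w_fix := by rw [← hpτ, W.w_fix]
      d_fix := by rw [← hpτ, W.d_fix]
      w_act := fun z => hρι W.w z _ (W.w_act z)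
      f := W.f
      d_act := fun z => hρι W.d z _ (W.d_act z)
      f_semi := W.f_semi
      fixed := fun v hv => by
        obtain ⟨c, hc, rfl⟩ := exists_fixed_lift (f := p) hps W.invol W.odd hodd'' hpτ hv
        obtain ⟨u, i, j, rfl⟩ := W.fixed c hc
        exact ⟨i, j, by rw [map_mul, map_mul, hpA, one_mul, map_pow, map_pow]⟩
      dwd := by
        obtain ⟨y, hy⟩ := W.dwd
        rw [← map_inv, ← map_mul, ← map_mul, hy, map_mul, hpA, one_mul, map_pow]
      d_order := W.d_pow_three.imp fun k hk => by rw [← map_pow, hk, map_one]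
      w_order := fun hd => W.w_not_three (hd.trans (orderOf_map_dvd p W.w))
      odd := hodd''
      solvable := Group.isSolvable_of_surjective (QuotientGroup.mk'_surjective Q)
      core := hcoreV
      d_ne := hdne }
  -- lifting to the centralizer of `d`
  obtain ⟨ka, hka⟩ := W.d_pow_three
  rcases D.exists_det with ⟨s, χ, hχτ, hχd⟩ | ⟨b, hib, hb1, hb3, hbd, hbw, hbs, hbk⟩ |
    ⟨z, hzw, hz1, hzs, hzd, hzc⟩
  · refine ⟨ULift.{u} (ZMod s)ˣ, inferInstance, (MulEquiv.ulift.symm.toMonoidHom.comp χ).comp p, fun y => ?_,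
      fun h => ?_⟩
    · show MulEquiv.ulift.symm (χ (p (W.τ y))) = MulEquiv.ulift.symm (χ (p y))
      rw [hpτ]; exact congrArg _ (hχτ (p y))
    · exact hχd (MulEquiv.ulift.symm.injective (h.trans (map_one MulEquiv.ulift.symm).symm))
  all_goals
    have hsub : ∀ (s : ℕ), s.Prime → s ≠ 2 → s ∣ 3 ^ W.g - 1 → s ∣ (3 ^ W.g - 1) / 2 := fun s hs hs2 hd => by
      have h2 : 2 ∣ 3 ^ W.g - 1 := by
        have := Nat.odd_iff.1 ((by decide : Odd 3).pow (n := W.g))
        omega
      rw [← Nat.mul_div_cancel' h2] at hd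
      exact (hs.dvd_mul.1 hd).resolve_left fun h => hs2 ((Nat.prime_dvd_prime_iff_eq hs Nat.prime_two).1 h)
  · -- an inverted element commuting with `d`
    exfalso
    set s := orderOf b with hs
    have hs2 : s ≠ 2 := fun e => by
      have := hodd''.of_dvd_nat (orderOf_dvd_natCard b)
      rw [← hs, e] at this
      exact absurd this (by decide)
    have hg : 3 ≤ W.g := W.g_three fun e => by
      have h4 : s ∣ 2 ∨ s ∣ 4 := by
        rcases hbk with h | h
        · left
          have h' : b ^ (3 ^ W.g) = b ^ 1 := by rw [pow_one]; exact h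
          rw [pow_eq_pow_iff_modEq, e] at h'
          exact (Nat.modEq_iff_dvd' (by norm_num)).1 h'.symm
        · right
          refine orderOf_dvd_of_pow_eq_one ?_
          have h' : b ^ 3 ^ W.g * b = 1 := by rw [h, inv_mul_cancel]
          rwa [e, pow_one, ← pow_succ] at h'
      have := hbs.two_le
      rcases h4 with h4 | h4
      · have := Nat.le_of_dvd two_pos h4; omega
      · rcases (Nat.dvd_prime_pow Nat.prime_two).1 (show s ∣ 2 ^ 2 by norm_num; exact h4) with ⟨j, hj, hj'⟩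
        rcases j with - | - | j
        · simp at hj'; omega
        · simp at hj'; omega
        · have : j = 0 := by omega
          subst this
          norm_num at hj'
          rw [hj'] at hbs
          norm_num at hbs
    have hE' := hE hg
    set N₀ := (3 ^ W.g - 1) / 2 with hN₀
    have h27 : 27 ≤ 3 ^ W.g := le_trans (by norm_num) (Nat.pow_le_pow_right (by norm_num) hg)
    have hN1 : N₀ ≠ 1 := by omega
    set q := N₀.minFac with hq
    have hqp : q.Prime := Nat.minFac_prime hN1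
    obtain ⟨h, hhf, hhd, hho⟩ := hE'.exists_h q hqp (Nat.minFac_dvd _)
    have hN3 : ¬ 3 ∣ N₀ := by
      have : 3 ∣ 3 ^ W.g := dvd_pow_self 3 (by omega)
      omega
    have hq3 : q ≠ 3 := fun e => hN3 (e ▸ Nat.minFac_dvd _)
    haveI := Fact.mk hqp
    have hhq : h ^ q ^ 1 = 1 := by rw [pow_one, ← hho, pow_orderOf_eq_one]
    have hπh : π h ^ q ^ 1 = 1 := by rw [← map_pow, hhq, map_one]
    have hh1 : h ≠ 1 := fun e => hqp.one_lt.ne' (by rw [← hho, e, orderOf_one])
    have hkerπ : ¬ 3 ∣ Nat.card π.ker := by rw [QuotientGroup.ker_mk']; exact hO3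
    have hkerπc : ∀ x ∈ π.ker, Commute x W.d → x = 1 := fun x hx =>
      W.cent_d_O hE' hg (by rwa [hπ, QuotientGroup.ker_mk'] at hx)
    -- lifting to `C(d)`
    have hlift : ∀ x : Y ⧸ O, Commute x (π W.d) → τ' x = x⁻¹ → Commute x (π h) →
        ∃ y, π y = x ∧ Commute y W.d ∧ W.τ y = y⁻¹ ∧ Commute y h := by
      intro x hx hxi hxh
      obtain ⟨y, hy, hyd⟩ := exists_twist (r := 3) hπs hkerπ hka (e := 1) (z := x) (by
        rw [pow_one]; exact hx.symm.eq)
      rw [pow_one] at hyd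
      have hyd' : Commute y W.d := hyd.symm
      have h1 : W.τ y * y = 1 := hkerπc _ (by
          rw [MonoidHom.mem_ker, map_mul, show π (W.τ y) = τ' (π y) from rfl, hy, hxi, inv_mul_cancel])
        ((show Commute (W.τ y) W.d by have := hyd'.map W.τ; rwa [W.d_fix] at this).mul_left hyd')
      have h2 : h * y * h⁻¹ * y⁻¹ = 1 := hkerπc _ (by
          rw [MonoidHom.mem_ker, map_mul, map_mul, map_mul, map_inv, map_inv, hy, hxh.symm.eq]; group)
        (((hhd.mul_left hyd').mul_left hhd.inv_left).mul_left hyd'.inv_left)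
      exact ⟨y, hy, hyd', eq_inv_of_mul_eq_one_left h1,
        ((mul_inv_eq_iff_eq_mul.1 (mul_inv_eq_one.1 h2))).symm⟩
    -- nothing in `Q` commutes with `h`
    have hQh : ∀ x ∈ Q, Commute x (π h) → x = 1 := by
      set R := Q ⊓ centralizer ({π h} : Set (Y ⧸ O))
      suffices hR : R = ⊥ from fun x hx hc => mem_bot.1 (hR ▸ ⟨hx, mem_centralizer_singleton_iff.2 hc.eq⟩ : x ∈ _)
      by_contra hR
      have hdR : ∀ m ∈ zpowers (π W.d), ∀ x ∈ R, m * x * m⁻¹ ∈ R := fun m hm x hx => by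
        refine ⟨hQn.conj_mem x hx.1 m, mem_centralizer_singleton_iff.2 ?_⟩
        obtain ⟨i, rfl⟩ := mem_zpowers_iff.1 hm
        have hmh : Commute (π W.d ^ i) (π h) := ((hhd.symm).map π).zpow_left i
        exact ((hmh.mul_left (show Commute x (π h) from mem_centralizer_singleton_iff.1 hx.2)).mul_left
          hmh.inv_left).eq
      letI : MulAction (zpowers (π W.d)) R :=
        { smul := fun m x => ⟨(m : Y ⧸ O) * x * (m : Y ⧸ O)⁻¹, hdR m m.2 x x.2⟩
          one_smul := fun x => Subtype.ext (by show (1 : Y ⧸ O) * x * (1 : Y ⧸ O)⁻¹ = x; simp)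
          mul_smul := fun m m' x => Subtype.ext (by
            show ((m * m' : zpowers (π W.d)) : Y ⧸ O) * x * ((m * m' : zpowers (π W.d)) : Y ⧸ O)⁻¹ =
              (m : Y ⧸ O) * ((m' : Y ⧸ O) * x * (m' : Y ⧸ O)⁻¹) * (m : Y ⧸ O)⁻¹
            rw [Subgroup.coe_mul]; group) }
      have hpd : IsPGroup 3 (zpowers (π W.d)) := by
        obtain ⟨j, -, hj⟩ := (Nat.dvd_prime_pow Nat.prime_three).1
          (orderOf_dvd_of_pow_eq_one (show π W.d ^ 3 ^ ka = 1 by rw [← map_pow, hka, map_one]))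
        exact IsPGroup.of_card (n := j) (by rw [Nat.card_zpowers, hj])
      have h3R : 3 ∣ Nat.card R := by
        obtain ⟨j, hj⟩ := (hQp.to_le (inf_le_left : R ≤ Q)).exists_card_eq
        rcases j with - | j
        · exact absurd (Subgroup.card_eq_one.1 (by rw [hj, pow_zero])) hR
        · rw [hj]; exact dvd_pow_self 3 j.succ_ne_zero
      have h1fix : (1 : R) ∈ MulAction.fixedPoints (zpowers (π W.d)) R := fun m => Subtype.ext (by
        show (m : Y ⧸ O) * 1 * (m : Y ⧸ O)⁻¹ = 1; group)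
      obtain ⟨⟨x, hx⟩, hxfix, hx1⟩ := hpd.exists_fixed_point_of_prime_dvd_card_of_fixed_point (α := R) h3R h1fix
      have hxd : Commute x (π W.d) :=
        ((mul_inv_eq_iff_eq_mul.1 (congrArg Subtype.val (hxfix ⟨_, mem_zpowers _⟩) :))).symm
      have hx' : x ≠ 1 := fun e => hx1 (Subtype.ext e.symm)
      have hxh : Commute x (π h) := mem_centralizer_singleton_iff.1 hx.2
      refine hx' ?_
      obtain ⟨c, i, rfl, hc, hi, hmem⟩ := Outer.exists_fixed_mul_inverted hodd' hτ2 x
      have hτh : τ' (π h) = π h := congrArg π hhf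
      obtain ⟨hcR, hiR⟩ := hmem (R ⊓ centralizer ({π W.d} : Set (Y ⧸ O)))
        ⟨hx, mem_centralizer_singleton_iff.2 hxd.eq⟩
        ⟨⟨hQτ.le ⟨_, hx.1, rfl⟩, mem_centralizer_singleton_iff.2 (by
            have := hxh.map τ'; rwa [hτh] at this)⟩,
          mem_centralizer_singleton_iff.2 (by
            have := hxd.map τ'; rwa [show τ' (π W.d) = π W.d from congrArg π W.d_fix] at this)⟩
      -- the fixed component
      obtain ⟨c', hc', rfl⟩ := exists_fixed_lift (f := π) hπs W.invol W.odd hodd' (σ := τ') (fun _ => rfl) hc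
      obtain ⟨u, rfl⟩ := (hfixQ c' hc' hcR.1.1).1
      have hu : W.ι u = 1 := by
        have hc1 : Commute (W.ι u) h := by
          have hcq : π (W.ι u * h * (W.ι u)⁻¹ * h⁻¹) = 1 := by
            rw [map_mul, map_mul, map_mul, map_inv, map_inv,
              (show Commute (π (W.ι u)) (π h) from mem_centralizer_singleton_iff.1 hcR.1.2).eq]
            group
          exact mul_inv_eq_iff_eq_mul.1 (mul_inv_eq_one.1 (hπinj _
            (by rw [map_mul, map_mul, map_mul, map_inv, map_inv, hc', hhf]) hcq))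
        obtain ⟨u', i', j', hh⟩ := W.fixed h hhf
        obtain ⟨z', rfl⟩ := Multiplicative.ofAdd.surjective u
        by_contra hne
        have hz' : z' ≠ 0 := fun e => hne (by rw [e, ofAdd_zero, map_one])
        have hfixall : ∀ y, W.μ ^ i' * W.f^[j'] y = 1 * y → True := fun _ _ => trivial
        -- `h` acts on the line with a fixed point only if it is linear with factor one
        have hact : ∀ y : F, W.w ^ i' * W.d ^ j' * W.ι (Multiplicative.ofAdd y) * (W.w ^ i' * W.d ^ j')⁻¹ =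
            (W.ι u')⁻¹ * (h * W.ι (Multiplicative.ofAdd y) * h⁻¹) * W.ι u' := fun y => by rw [hh]; group
        have hdh : W.d ^ j' = 1 := by
          have h1 : p (W.d ^ j') = (p (W.w ^ i'))⁻¹ * p h := by
            rw [hh, map_mul, map_mul, hpA, one_mul, inv_mul_cancel_left]
          have h2 : p (W.d ^ j') ^ (orderOf W.w * q) = 1 := by
            have hc2 : Commute (p (W.d ^ j')) (p h) := ((hhd.symm.pow_left j').map p)
            have hc3 : Commute (p (W.w ^ i'))⁻¹ (p h) := by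
              have : p (W.w ^ i') = p h * (p (W.d ^ j'))⁻¹ := by rw [h1]; group
              rw [this]; exact ((Commute.refl (p h)).mul_left hc2.inv_left).inv_left
            rw [h1, hc3.mul_pow, inv_pow, ← map_pow, ← map_pow, ← pow_mul, show i' * (orderOf W.w * q) =
              orderOf W.w * (i' * q) by ring, pow_mul, pow_orderOf_eq_one, one_pow, map_one, inv_one, one_mul,
              pow_mul', ← hho, pow_orderOf_eq_one, one_pow, map_one]
          have h3 : p (W.d ^ j') = 1 := orderOf_eq_one_iff.1 (Nat.eq_one_of_dvd_coprimes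
            ((Nat.prime_three.coprime_iff_not_dvd.2 (fun hd => (Nat.prime_three.dvd_mul.1 hd).elim W.w_not_three
              fun e => hq3 ((Nat.prime_dvd_prime_iff_eq Nat.prime_three hqp).1 e).symm)).pow_left ka)
            (orderOf_dvd_of_pow_eq_one (by rw [← map_pow, ← pow_mul, mul_comm, pow_mul, hka, one_pow, map_one]))
            (orderOf_dvd_of_pow_eq_one h2))
          obtain ⟨u'', hu''⟩ := (hfixQ _ (by rw [map_pow, W.d_fix]) ((hp1 _).1 h3)).1
          exact W.d_pow_lin (mem_sup_left ⟨u'', hu''⟩)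
        have h4 := hact z'
        rw [hc1.symm.eq, mul_inv_cancel_right, hdh, mul_one, ← map_inv, ← map_mul, ← map_mul, mul_comm u'⁻¹,
          inv_mul_cancel_right] at h4
        have h5 := (W.conj_pow i' 0 z').1
        rw [pow_zero, mul_one, Function.iterate_zero_apply] at h5
        have h6 : W.μ ^ i' = 1 :=
          mul_left_eq_self₀.1 (Multiplicative.ofAdd.injective (W.ι_inj (h5.symm.trans h4))) |>.resolve_right hz'
        rw [hdh, W.μ_pow i' h6, mul_one, mul_one] at hh
        have h7 : orderOf h ∣ 3 := orderOf_dvd_of_pow_eq_one (by rw [hh, W.cube])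
        rw [hho] at h7
        exact hq3 ((Nat.prime_dvd_prime_iff_eq hqp Nat.prime_three).1 h7)
      rw [hu, map_one, one_mul] at hx' hx hxd hxh ⊢
      obtain ⟨y, hy, hyd, hyi, hyh⟩ := hlift i hxd hi hxh
      obtain ⟨m, hm⟩ := hQp ⟨i, hx.1⟩
      have hy3 : y ^ 3 ^ m = 1 := hkerπc _ (by
        rw [MonoidHom.mem_ker, map_pow, hy]; exact (congrArg Subtype.val hm :)) (hyd.pow_left _)
      have hymem := hE'.three y h ⟨m, hy3⟩ hyd hhf hhd (hho ▸ hqp) (hho ▸ Nat.minFac_dvd _) hyh
      obtain ⟨j, rfl⟩ := mem_zpowers_iff.1 hymem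
      rw [map_zpow, W.d_fix, eq_inv_iff_mul_eq_one] at hyi
      have := Outer.eq_one_of_sq W.odd hyi
      rw [this, map_one] at hy
      exact hy.symm
    have hph : p h ∈ zpowers (p W.w) := VData.fixed_mem D (by show τV (p h) = p h; rw [← hpτ, hhf])
      (fun hd => hq3 ((Nat.prime_dvd_prime_iff_eq Nat.prime_three hqp).1 (hho ▸ hd.trans (orderOf_map_dvd p h))).symm)
    have hbh : Commute (p h) b := by
      obtain ⟨l, hl⟩ := mem_zpowers_iff.1 hph
      rw [← hl]
      exact Commute.zpow_left hbw l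
    have hkerQ : ¬ q ∣ Nat.card p₂.ker := by
      rw [QuotientGroup.ker_mk']
      intro hd
      obtain ⟨j, hj⟩ := hQp.exists_card_eq
      rw [hj] at hd
      exact hq3 ((Nat.prime_dvd_prime_iff_eq hqp Nat.prime_three).1 (hqp.dvd_of_dvd_pow hd))
    obtain ⟨b₁, hb₁, hb₁h⟩ := exists_twist (QuotientGroup.mk'_surjective Q) hkerQ hπh (e := 1) (z := b)
      (by rw [pow_one]; exact hbh.eq)
    rw [pow_one] at hb₁h
    have hb₁h' : Commute b₁ (π h) := hb₁h.symm
    have hτh : τ' (π h) = π h := congrArg π hhf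
    have hb₁i : τ' b₁ = b₁⁻¹ := eq_inv_of_mul_eq_one_left (hQh _ ((QuotientGroup.eq_one_iff _).1 (by
        rw [QuotientGroup.mk_mul]
        show τV (p₂ b₁) * p₂ b₁ = 1
        rw [hb₁, hib, inv_mul_cancel]))
      ((show Commute (τ' b₁) (π h) by have := hb₁h'.map τ'; rwa [hτh] at this).mul_left hb₁h'))
    have hb₁d : Commute b₁ (π W.d) := by
      have hdh' : Commute (π W.d) (π h) := hhd.symm.map π
      have h1 := hQh (π W.d * b₁ * (π W.d)⁻¹ * b₁⁻¹) ((QuotientGroup.eq_one_iff _).1 (by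
          show p₂ (π W.d * b₁ * (π W.d)⁻¹ * b₁⁻¹) = 1
          rw [map_mul, map_mul, map_mul, map_inv, map_inv, hb₁]
          show p W.d * b * (p W.d)⁻¹ * b⁻¹ = 1
          rw [(show Commute (p W.d) b from hbd).eq]; group))
        (((hdh'.mul_left hb₁h').mul_left hdh'.inv_left).mul_left hb₁h'.inv_left)
      exact (mul_inv_eq_iff_eq_mul.1 (mul_inv_eq_one.1 h1)).symm
    obtain ⟨y, hy, hyd, hyi, hyh⟩ := hlift b₁ hb₁d hb₁i hb₁h'
    have hy1 := hE'.min_cent y h hhf hhd (hho ▸ hqp) (hho ▸ Nat.minFac_dvd _)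
      (fun r hr hrd => hho ▸ Nat.minFac_le_of_dvd hr.two_le hrd) hyi hyd hyh
    rw [hy1, map_one] at hy
    exact hb1 (by rw [← hb₁, ← hy, map_one])
  · -- a central element
    set s := orderOf z with hs
    obtain ⟨l, hl⟩ := mem_zpowers_iff.1 hzw
    have hzk : z ^ 3 ^ W.g = z := by
      have h1 : p W.d * z * (p W.d)⁻¹ = z := by
        rw [(show Commute (p W.d) z from hzd).eq, mul_inv_cancel_right]
      rw [← hl, ← conj_zpow, show p W.d * D.w * (p W.d)⁻¹ = D.w ^ 3 ^ W.g from D.dwd] at h1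
      calc z ^ 3 ^ W.g = (D.w ^ l) ^ 3 ^ W.g := by rw [hl]
        _ = (D.w ^ 3 ^ W.g) ^ l := by
            rw [← zpow_natCast (D.w ^ l), ← zpow_natCast D.w, ← zpow_mul, ← zpow_mul, mul_comm]
        _ = z := h1.trans hl
    have hzd' : s ∣ 3 ^ W.g - 1 := by
      refine orderOf_dvd_of_pow_eq_one (mul_right_cancel (b := z) ?_)
      rw [← pow_succ, Nat.sub_add_cancel (Nat.one_le_pow _ _ (by norm_num)), hzk, one_mul]
    have hs2 : s ≠ 2 := fun e => by
      have := hodd''.of_dvd_nat (orderOf_dvd_natCard z)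
      rw [← hs, e] at this
      exact absurd this (by decide)
    have hsN := hsub s hzs hs2 hzd'
    have hg : 3 ≤ W.g := W.g_three fun e => by
      rw [e] at hsN
      norm_num at hsN
      exact hzs.ne_one hsN
    have hE' := hE hg
    have hs3 : s ≠ 3 := fun e => by
      have : 3 ∣ 3 ^ W.g := dvd_pow_self 3 (by omega)
      have := Nat.one_le_pow W.g 3 (by norm_num)
      rw [e] at hzd'
      omega
    haveI := Fact.mk hzs
    obtain ⟨h, hhf, hhd, hho⟩ := hE'.exists_h s hzs hsN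
    have hπh : π h ^ s ^ 1 = 1 := by rw [pow_one, ← map_pow, ← hho, pow_orderOf_eq_one, map_one]
    have hph : p h ∈ zpowers (p W.w) := VData.fixed_mem D (by show τV (p h) = p h; rw [← hpτ, hhf])
      (fun hd => hs3 ((Nat.prime_dvd_prime_iff_eq Nat.prime_three hzs).1 (hho ▸ hd.trans (orderOf_map_dvd p h))).symm)
    have hh1 : h ≠ 1 := fun e => hzs.ne_one (by rw [← hho, e, orderOf_one])
    have hph1 : p h ≠ 1 := fun e => by
      have h1 := hQord h ((hp1 h).1 e) s (fun hd => hs3 ((Nat.prime_dvd_prime_iff_eq Nat.prime_three hzs).1 hd).symm)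
        (by rw [← hho, pow_orderOf_eq_one])
      exact hh1 (hπinj h hhf h1)
    have hphc : ∀ v, Commute v (p h) := by
      -- both generate the subgroup of order `s` of the torus
      obtain ⟨m, hm⟩ := mem_zpowers_iff.1 hph
      have hps' : orderOf (p h) = s := orderOf_eq_prime
        (by rw [← map_pow, ← hho, pow_orderOf_eq_one, map_one]) hph1
      have hmem : p h ∈ zpowers z := by
        have h1 : zpowers (p h) = zpowers z := by
          refine CfsgLib.Lie.TICount.cyclic_subgroup_unique (A := zpowers (p W.w)) inferInstance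
            (zpowers_le.2 hph) (zpowers_le.2 hzw) ?_
          rw [Nat.card_zpowers, Nat.card_zpowers, hps', hs]
        exact h1 ▸ mem_zpowers _
      obtain ⟨e, he⟩ := mem_zpowers_iff.1 hmem
      exact fun v => he ▸ Commute.zpow_right (hzc v) e
    have hkerQ : ¬ s ∣ Nat.card p₂.ker := by
      rw [QuotientGroup.ker_mk']
      intro hd
      obtain ⟨j, hj⟩ := hQp.exists_card_eq
      rw [hj] at hd
      exact hs3 ((Nat.prime_dvd_prime_iff_eq hzs Nat.prime_three).1 (hzs.dvd_of_dvd_pow hd))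
    have hkerπ : ¬ 3 ∣ Nat.card π.ker := by rw [QuotientGroup.ker_mk']; exact hO3
    have hkerπc : ∀ x ∈ π.ker, Commute x W.d → x = 1 := fun x hx =>
      W.cent_d_O hE' hg (by rwa [hπ, QuotientGroup.ker_mk'] at hx)
    have hnormal : ∀ (v : (Y ⧸ O) ⧸ Q), v * p W.d * v⁻¹ ∈ zpowers (p W.d) →
        Commute v (p W.d) ∧ ((∃ k, v ^ 3 ^ k = 1) → v ∈ zpowers (p W.d)) := by
      intro v hv
      obtain ⟨e, he⟩ := (isOfFinOrder_of_finite (p W.d)).mem_powers_iff_mem_zpowers.2 hv
      obtain ⟨v₁, hv₁, hv₁h⟩ := exists_twist (QuotientGroup.mk'_surjective Q) hkerQ hπh (e := 1) (z := v)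
        (by rw [pow_one]; exact (hphc v).symm.eq)
      rw [pow_one] at hv₁h
      have hv₁h' : Commute v₁ (π h) := hv₁h.symm
      have hdh' : Commute (π W.d) (π h) := hhd.symm.map π
      set c := v₁ * π W.d * v₁⁻¹ * (π W.d ^ e)⁻¹ with hc
      have hcQ : c ∈ Q := (QuotientGroup.eq_one_iff _).1 (by
        show p₂ c = 1
        rw [hc, map_mul, map_mul, map_mul, map_inv, map_inv, map_pow, hv₁]
        show v * p W.d * v⁻¹ * ((p W.d) ^ e)⁻¹ = 1
        rw [show v * p W.d * v⁻¹ = p W.d ^ e from he.symm, mul_inv_cancel])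
      have hch : Commute c (π h) :=
        (((hv₁h'.mul_left hdh').mul_left hv₁h'.inv_left).mul_left (hdh'.pow_left e).inv_left)
      -- `C_Q (h) = 1`
      have hc1 : c = 1 := by
        obtain ⟨cy, hcy⟩ := hπs c
        by_contra hne
        set R := Q ⊓ centralizer ({π h} : Set (Y ⧸ O))
        have hdR : ∀ m ∈ zpowers (π W.d), ∀ x ∈ R, m * x * m⁻¹ ∈ R := fun m hm x hx => by
          refine ⟨hQn.conj_mem x hx.1 m, mem_centralizer_singleton_iff.2 ?_⟩
          obtain ⟨i, rfl⟩ := mem_zpowers_iff.1 hm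
          have hmh : Commute (π W.d ^ i) (π h) := hdh'.zpow_left i
          exact ((hmh.mul_left (show Commute x (π h) from mem_centralizer_singleton_iff.1 hx.2)).mul_left
            hmh.inv_left).eq
        letI : MulAction (zpowers (π W.d)) R :=
          { smul := fun m x => ⟨(m : Y ⧸ O) * x * (m : Y ⧸ O)⁻¹, hdR m m.2 x x.2⟩
            one_smul := fun x => Subtype.ext (by show (1 : Y ⧸ O) * x * (1 : Y ⧸ O)⁻¹ = x; simp)
            mul_smul := fun m m' x => Subtype.ext (by
              show ((m * m' : zpowers (π W.d)) : Y ⧸ O) * x * ((m * m' : zpowers (π W.d)) : Y ⧸ O)⁻¹ =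
                (m : Y ⧸ O) * ((m' : Y ⧸ O) * x * (m' : Y ⧸ O)⁻¹) * (m : Y ⧸ O)⁻¹
              rw [Subgroup.coe_mul]; group) }
        have hpd : IsPGroup 3 (zpowers (π W.d)) := by
          obtain ⟨j, -, hj⟩ := (Nat.dvd_prime_pow Nat.prime_three).1
            (orderOf_dvd_of_pow_eq_one (show π W.d ^ 3 ^ ka = 1 by rw [← map_pow, hka, map_one]))
          exact IsPGroup.of_card (n := j) (by rw [Nat.card_zpowers, hj])
        have hR : R ≠ ⊥ := fun e' => hne (mem_bot.1 (e' ▸ ⟨hcQ, mem_centralizer_singleton_iff.2 hch.eq⟩ : c ∈ _))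
        have h3R : 3 ∣ Nat.card R := by
          obtain ⟨j, hj⟩ := (hQp.to_le (inf_le_left : R ≤ Q)).exists_card_eq
          rcases j with - | j
          · exact absurd (Subgroup.card_eq_one.1 (by rw [hj, pow_zero])) hR
          · rw [hj]; exact dvd_pow_self 3 j.succ_ne_zero
        have h1fix : (1 : R) ∈ MulAction.fixedPoints (zpowers (π W.d)) R := fun m => Subtype.ext (by
          show (m : Y ⧸ O) * 1 * (m : Y ⧸ O)⁻¹ = 1; group)
        obtain ⟨⟨x, hx⟩, hxfix, hx1⟩ := hpd.exists_fixed_point_of_prime_dvd_card_of_fixed_point (α := R) h3R h1fix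
        have hxd : π W.d * x = x * π W.d :=
          mul_inv_eq_iff_eq_mul.1 (congrArg Subtype.val (hxfix ⟨_, mem_zpowers _⟩) :)
        obtain ⟨y, hy, hyd⟩ := exists_twist (r := 3) hπs hkerπ hka (e := 1) (z := x) (by rw [pow_one]; exact hxd)
        rw [pow_one] at hyd
        have hyd' : Commute y W.d := hyd.symm
        have hyh : Commute y h := by
          have h2 : h * y * h⁻¹ * y⁻¹ = 1 := hkerπc _ (by
              rw [MonoidHom.mem_ker, map_mul, map_mul, map_mul, map_inv, map_inv, hy,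
                (show Commute x (π h) from mem_centralizer_singleton_iff.1 hx.2).symm.eq]
              group)
            (((hhd.mul_left hyd').mul_left hhd.inv_left).mul_left hyd'.inv_left)
          exact (mul_inv_eq_iff_eq_mul.1 (mul_inv_eq_one.1 h2)).symm
        obtain ⟨m, hm⟩ := hQp ⟨x, hx.1⟩
        have hy3 : y ^ 3 ^ m = 1 := hkerπc _ (by
          rw [MonoidHom.mem_ker, map_pow, hy]; exact (congrArg Subtype.val hm :)) (hyd'.pow_left _)
        obtain ⟨j, rfl⟩ := mem_zpowers_iff.1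
          (hE'.three y h ⟨m, hy3⟩ hyd' hhf hhd (hho ▸ hzs) (hho ▸ hsN) hyh)
        obtain ⟨j', hj'⟩ := (isOfFinOrder_of_finite W.d).mem_powers_iff_mem_zpowers.2
          (zpow_mem (mem_zpowers W.d) j)
        have hj'' : W.d ^ j' = W.d ^ j := hj'
        obtain ⟨u, hu⟩ := (hfixQ (W.d ^ j') (by rw [map_pow, W.d_fix]) (by rw [hj'', hy]; exact hx.1)).1
        have := W.d_pow_lin (j := j') (mem_sup_left ⟨u, hu⟩)
        exact hx1 (Subtype.ext (show (1 : Y ⧸ O) = x by rw [← hy, ← hj'', this, map_one]))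
      obtain ⟨y, hy, hyd⟩ := exists_twist (r := 3) hπs hkerπ hka (e := e) (z := v₁) (by
        rw [hc, mul_inv_eq_one, mul_inv_eq_iff_eq_mul] at hc1
        exact hc1.symm)
      have hycd := hE'.norm y e hyd
      refine ⟨by rw [← hv₁, ← hy]; exact hycd.map p, fun ⟨k, hk⟩ => ?_⟩
      have hv₁3 : v₁ ^ 3 ^ k ∈ Q := (QuotientGroup.eq_one_iff _).1 (by
        show p₂ (v₁ ^ 3 ^ k) = 1
        rw [map_pow, hv₁, hk])
      obtain ⟨m, hm⟩ := hQp ⟨_, hv₁3⟩
      have hy3 : y ^ 3 ^ (k + m) = 1 := hkerπc _ (by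
        rw [MonoidHom.mem_ker, map_pow, hy, pow_add, pow_mul]; exact (congrArg Subtype.val hm :)) (hycd.pow_left _)
      have hyh : Commute y h := by
        have h2 : h * y * h⁻¹ * y⁻¹ = 1 := hkerπc _ (by
            rw [MonoidHom.mem_ker, map_mul, map_mul, map_mul, map_inv, map_inv, hy, hv₁h'.symm.eq]; group)
          (((hhd.mul_left hycd).mul_left hhd.inv_left).mul_left hycd.inv_left)
        exact (mul_inv_eq_iff_eq_mul.1 (mul_inv_eq_one.1 h2)).symm
      obtain ⟨j, hj⟩ := mem_zpowers_iff.1 (hE'.three y h ⟨_, hy3⟩ hycd hhf hhd (hho ▸ hzs) (hho ▸ hsN) hyh)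
      exact mem_zpowers_iff.2 ⟨j, by rw [← map_zpow, hj, ← hv₁, ← hy]; rfl⟩
    -- Burnside
    set V := (Y ⧸ O) ⧸ Q
    have hdV : p W.d ^ 3 ^ ka = 1 := by rw [← map_pow, hka, map_one]
    have hP₀ : IsPGroup 3 (zpowers (p W.d)) := by
      obtain ⟨j, -, hj⟩ := (Nat.dvd_prime_pow Nat.prime_three).1 (orderOf_dvd_of_pow_eq_one hdV)
      exact IsPGroup.of_card (n := j) (by rw [Nat.card_zpowers, hj])
    obtain ⟨P, hP⟩ := hP₀.exists_le_sylow
    have hPeq : (P : Subgroup V) = zpowers (p W.d) := by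
      by_contra hne
      set K := (zpowers (p W.d)).subgroupOf (P : Subgroup V)
      haveI : Group.IsNilpotent (P : Subgroup V) := P.2.isNilpotent
      have hKtop : K < ⊤ := lt_top_iff_ne_top.2 fun e => hne (le_antisymm (subgroupOf_eq_top.1 e) hP)
      obtain ⟨⟨v, hvP⟩, hvN, hvK⟩ := SetLike.exists_of_lt (normalizerCondition_of_isNilpotent K hKtop)
      obtain ⟨k, hk⟩ := P.2 ⟨v, hvP⟩
      refine hvK (mem_subgroupOf.2 ((hnormal v ?_).2 ⟨k, congrArg Subtype.val hk⟩))
      have := (mem_normalizer_iff.1 hvN ⟨p W.d, hP (mem_zpowers _)⟩).1 (mem_subgroupOf.2 (mem_zpowers _))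
      exact mem_subgroupOf.1 this
    have hNC : normalizer ((P : Subgroup V) : Set V) ≤ centralizer ((P : Subgroup V) : Set V) := by
      intro v hv
      rw [hPeq] at hv ⊢
      have := (hnormal v ((mem_normalizer_iff.1 hv _).1 (mem_zpowers _))).1
      exact mem_centralizer_iff.2 fun x hx => by
        obtain ⟨i, rfl⟩ := mem_zpowers_iff.1 hx
        exact (this.zpow_right i).eq.symm
    let θ := MonoidHom.transferSylow P hNC
    haveI : IsMulCommutative (P : Subgroup V) := ⟨⟨fun a b => Subtype.ext (by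
      obtain ⟨i, hi⟩ := mem_zpowers_iff.1 (hPeq ▸ a.2 : (a : V) ∈ zpowers (p W.d))
      obtain ⟨j, hj⟩ := mem_zpowers_iff.1 (hPeq ▸ b.2 : (b : V) ∈ zpowers (p W.d))
      show (a : V) * b = b * a
      rw [← hi, ← hj]
      exact ((Commute.refl _).zpow_zpow i j).eq)⟩⟩
    have hidx : ¬ 3 ∣ (P : Subgroup V).index := P.not_dvd_index
    refine ⟨(P : Subgroup V), { (inferInstance : Group (P : Subgroup V)) with mul_comm := fun a b => mul_comm' a b },
      θ.comp p, fun y => ?_, fun h1 => hdne ?_⟩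
    · show θ (p (W.τ y)) = θ (p y)
      rw [hpτ]
      have hsurj : ∀ v, ∃ x ∈ (P : Subgroup V), θ x = θ v := fun v => by
        have hbij : Function.Bijective fun x : (P : Subgroup V) => x ^ (P : Subgroup V).index := by
          obtain ⟨j, hj⟩ := P.2.exists_card_eq
          exact (powCoprime (G := (P : Subgroup V)) (n := (P : Subgroup V).index)
            (by rw [hj]; exact (Nat.prime_three.coprime_iff_not_dvd.2 hidx).pow_left j)).bijective
        obtain ⟨x, hx⟩ := hbij.2 (θ v)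
        exact ⟨x, x.2, Subtype.ext (by
          rw [MonoidHom.transferSylow_eq_pow P hNC x x.2]; exact congrArg Subtype.val hx)⟩
      obtain ⟨x, hxP, hx⟩ := hsurj (p y)
      have hτx : τV x = x := by
        obtain ⟨i, rfl⟩ := mem_zpowers_iff.1 (hPeq ▸ hxP : x ∈ zpowers (p W.d))
        rw [map_zpow, ← hpτ, W.d_fix]
      obtain ⟨k, hkdef⟩ : ∃ k, k = x⁻¹ * p y := ⟨_, rfl⟩
      have hk : θ k = 1 := by rw [hkdef, map_mul, map_inv, hx, inv_mul_cancel]
      have hk3 : ¬ 3 ∣ orderOf k := fun hd => MonoidHom.not_dvd_card_ker_transferSylow P hNC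
        (hd.trans (Subgroup.orderOf_dvd_natCard _ (MonoidHom.mem_ker.2 hk)))
      have hτk : θ (τV k) = 1 := by
        obtain ⟨j, hj⟩ := P.2.exists_card_eq
        refine orderOf_eq_one_iff.1 (Nat.eq_one_of_dvd_coprimes ((Nat.prime_three.coprime_iff_not_dvd.2 hk3).pow_left j)
          (hj ▸ orderOf_dvd_natCard _) ?_)
        exact (orderOf_map_dvd θ (τV k)).trans (MulEquiv.orderOf_eq τV k).dvd
      rw [show p y = x * k by rw [hkdef, mul_inv_cancel_left], map_mul τV, hτx, map_mul, map_mul, hτk, hk]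
    · have h2 := MonoidHom.transferSylow_eq_pow P hNC (p W.d) (hP (mem_zpowers _))
      have h3 : (p W.d) ^ (P : Subgroup V).index = 1 := by
        have h4 : θ (p W.d) = 1 := h1
        rw [show MonoidHom.transferSylow P hNC (p W.d) = θ (p W.d) from rfl, h4] at h2
        exact (congrArg Subtype.val h2.symm :)
      exact orderOf_eq_one_iff.1 (Nat.eq_one_of_dvd_coprimes ((Nat.prime_three.coprime_iff_not_dvd.2 hidx).pow_left ka)
        (orderOf_dvd_of_pow_eq_one hdV) (orderOf_dvd_of_pow_eq_one h3))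

end Red

end CfsgLib.Walter.Three
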