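import Cfsg.Agent.Lib.Walter.Three.Local
import Cfsg.Agent.Lib.Walter.Three.Kill
import Cfsg.Agent.Lib.BGroup.FieldKill.Main
import Cfsg.Agent.Lib.Ree.LocalThree

/-!
# Rank three: what the centralizer of the field part provides

`C(D) / D` is a simple group of Ree type.
-/

set_option autoImplicit false
set_option linter.unusedSectionVars false
set_option linter.style.haveILetI false

namespace CfsgLib.Walter.Three

open Subgroup
open CfsgLib.BGroup.FieldKill (Frame)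

universe u

/-- An element of prime order in a torus of `PSL(2, q)` moving a given element of order three inside an
abelian group. -/
theorem exists_torus_elt {F : Type} [Field F] [Fintype F] {n : ℕ} (hq : Fintype.card F = 3 ^ n)
    {x : Matrix.ProjectiveSpecialLinearGroup (Fin 2) F} (hx : orderOf x = 3) {s : ℕ} (hs : s.Prime)
    (hs2 : s ≠ 2) (hsq : s ∣ 3 ^ n - 1) :
    ∃ h, orderOf h = s ∧ Commute (h * x * h⁻¹) x := by
  classical
  haveI : Fact (Nat.Prime 3) := ⟨Nat.prime_three⟩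
  haveI := Fact.mk hs
  have hodd : Odd (Fintype.card F) := hq ▸ (by decide : Odd 3).pow
  set U := (PslB.pU (F := F)).range
  have hU : Nat.card U = 3 ^ n := by
    rw [← Nat.card_congr (MonoidHom.ofInjective PslB.pU_injective).toEquiv, Nat.card_congr Multiplicative.toAdd,
      Nat.card_eq_fintype_card, hq]
  have hidx : ¬ 3 ∣ U.index := by
    intro hd
    have h := U.card_mul_index
    have h2 := BGroup.FieldKill.two_mul_card_psl (F := F) hodd
    rw [hU] at h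
    rw [← h, hq] at h2
    have h3 : 2 * U.index = (3 ^ n - 1) * (3 ^ n + 1) := Nat.eq_of_mul_eq_mul_left (Nat.pow_pos (by norm_num : 0 < 3)) (by
      rw [← h2]; ring)
    have hn0 : n ≠ 0 := fun e => by
      have := Fintype.one_lt_card (α := F)
      rw [hq, e, pow_zero] at this; omega
    obtain ⟨c, hc⟩ : 3 ∣ 3 ^ n := dvd_pow_self 3 hn0
    have h1 : 1 ≤ 3 ^ n := Nat.one_le_pow _ _ (by norm_num)
    rcases Nat.prime_three.dvd_mul.1 (h3 ▸ hd.mul_left 2 : 3 ∣ (3 ^ n - 1) * (3 ^ n + 1)) with h4 | h4 <;> omega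
  let US : Sylow 3 (Matrix.ProjectiveSpecialLinearGroup (Fin 2) F) :=
    (IsPGroup.of_card (p := 3) (n := n) hU : IsPGroup 3 U).toSylow hidx
  obtain ⟨k, hk⟩ := Invol.exists_conj_le_sylow
    (IsPGroup.of_card (p := 3) (n := 1) (by rw [Nat.card_zpowers, hx, pow_one]) : IsPGroup 3 (zpowers x)) US
  obtain ⟨u, hu⟩ : k * x * k⁻¹ ∈ U := hk x (mem_zpowers x)
  obtain ⟨z, rfl⟩ := Multiplicative.ofAdd.surjective u
  obtain ⟨ν, hν⟩ := IsCyclic.exists_generator (α := Fˣ)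
  have hνo : orderOf ν = 3 ^ n - 1 := by
    rw [orderOf_eq_card_of_forall_mem_zpowers hν, Nat.card_units, Nat.card_eq_fintype_card, hq]
  set ν' := ν ^ (orderOf ν / s)
  have hν' : orderOf ν' = s := orderOf_pow_orderOf_div (orderOf_pos ν).ne' (hνo ▸ hsq)
  have hD : orderOf (PslB.pD ν') = s := by
    refine orderOf_eq_prime (by rw [← map_pow, ← hν', pow_orderOf_eq_one, map_one]) fun e => ?_
    have h1 := PslB.pD_conj ν' 1
    rw [e, one_mul, inv_one, mul_one, mul_one] at h1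
    have h2 : ν' ^ 2 = 1 := Units.ext (by
      rw [Units.val_pow_eq_pow_val, Units.val_one]
      exact (Multiplicative.ofAdd.injective (PslB.pU_injective h1)).symm)
    have h3 := orderOf_dvd_of_pow_eq_one h2
    rw [hν'] at h3
    exact hs2 ((Nat.prime_dvd_prime_iff_eq hs Nat.prime_two).1 h3)
  refine ⟨k⁻¹ * PslB.pD ν' * k, ?_, ?_⟩
  · rw [show k⁻¹ * PslB.pD ν' * k = MulAut.conj k⁻¹ (PslB.pD ν') by simp, MulEquiv.orderOf_eq, hD]
  · have h1 := ((Commute.all (Multiplicative.ofAdd ((ν' : F) ^ 2 * z)) (Multiplicative.ofAdd z)).map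
      (PslB.pU (F := F))).map (MulAut.conj k⁻¹)
    rw [← PslB.pD_conj, hu] at h1
    simp only [MulAut.conj_apply, inv_inv] at h1
    rw [show k⁻¹ * (PslB.pD ν' * (k * x * k⁻¹) * (PslB.pD ν')⁻¹) * k =
      k⁻¹ * PslB.pD ν' * k * x * (k⁻¹ * PslB.pD ν' * k)⁻¹ by group,
      show k⁻¹ * (k * x * k⁻¹) * k = x by group] at h1
    exact h1

variable {G : Type u} [Group G] [Finite G] {Φ : Frame G}

theorem sect (h : Eight G) (Φ : Frame G) : Frame.Sect Φ Φ.D (centralizer (Φ.D : Set G)) where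
  D₁_le := le_rfl
  S_le := fun _ hs => mem_centralizer_iff.2 fun _ hd => (Φ.D_comm_S hd hs).eq
  D₁_mem := fun d hd => mem_centralizer_iff.2 fun e he => (Φ.D_comm he hd).eq
  N_le := le_rfl
  K_le := inf_le_right
  cent := fun x _ hxt => by
    obtain ⟨a, ha, k, hk, d, hd, hx⟩ := Φ.decomp x hxt
    exact ⟨a, ha, k, hk, d, hd, hx⟩
  fus := fun a ha ha1 => by
    obtain ⟨n, hn, hna⟩ := Outer.fus h Φ ha ha1
    exact ⟨n, Outer.normalizer_cent h Φ hn, hn, hna⟩
  invol := fun _ _ hx => hx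

/-- The normalizer of `D` centralizes it. -/
theorem Borel.commute_of_conj (B : Borel Φ) (h : Eight G) {y : G} {e : ℕ} (hy : B.d ^ e * y = y * B.d) :
    Commute y B.d := by
  have hmem : ∀ x ∈ Φ.D, y * x * y⁻¹ ∈ Φ.D := fun x hx => by
    rw [← B.d_gen] at hx ⊢
    obtain ⟨i, rfl⟩ := mem_zpowers_iff.1 hx
    rw [← conj_zpow, ← hy, mul_inv_cancel_right]
    exact zpow_mem (pow_mem (mem_zpowers _) _) _
  have hn : y ∈ normalizer (Φ.D : Set G) :=
    CfsgLib.Coprime.conjBy_eq_self_iff.1 (eq_of_le_of_card_ge (by rintro _ ⟨x, hx, rfl⟩; exact hmem x hx)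
      (CfsgLib.Coprime.card_conjBy y _).ge)
  obtain ⟨c, hc, hcy⟩ := BGroup.FieldKill.exists_mul_mem_normalizer Φ.S
    (H := centralizer (Φ.D : Set G)) (fun _ hs => mem_centralizer_iff.2 fun _ hd => (Φ.D_comm_S hd hs).eq)
    (n := y) fun s hs => by
      refine mem_centralizer_iff.2 fun d hd => ?_
      have hd' : y⁻¹ * d * y ∈ Φ.D := by
        have := (mem_normalizer_iff.1 (inv_mem hn) d).1 hd
        rwa [inv_inv] at this
      have h2 : Commute (y⁻¹ * d * y) s := Φ.D_comm_S hd' hs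
      calc d * (y * s * y⁻¹) = y * (y⁻¹ * d * y * s) * y⁻¹ := by group
        _ = y * (s * (y⁻¹ * d * y)) * y⁻¹ := by rw [h2.eq]
        _ = y * s * y⁻¹ * d := by group
  have h1 := mul_mem (inv_mem hc) (Outer.normalizer_cent h Φ hcy)
  rw [inv_mul_cancel_left] at h1
  exact (mem_centralizer_iff.1 h1 B.d B.d_mem).symm

/-- The map of `C(D)` onto a group of Ree type. -/
theorem Borel.exists_ree (B : Borel Φ) (h : Eight G) (hg : 3 ≤ B.g) :
    ∃ (M : Type u) (_ : Group M) (_ : Finite M) (π : ↥(centralizer (Φ.D : Set G)) →* M) (m : ℕ)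
      (T : ReeType.Setup M (3 ^ B.g) m ((3 ^ B.g - 1) / 2)),
      (∀ x, π x = 1 ↔ (x : G) ∈ Φ.D) ∧ ∀ ht, T.t = π ⟨Φ.t, ht⟩ := by
  classical
  haveI : Fact (Nat.Prime 2) := ⟨Nat.prime_two⟩
  have hs := sect h Φ
  haveI := hs.normal
  obtain ⟨Q, hQt, hQF, -⟩ := hs.exists_quot
  have hcard : Nat.card Φ.D = 3 ^ B.a := by rw [← B.d_gen, Nat.card_zpowers, B.d_order]
  have hF : Fintype.card Q.F = 3 ^ B.g := by
    refine Nat.pow_left_injective (show (3 ^ B.a : ℕ) ≠ 0 by positivity) ?_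
    show Fintype.card Q.F ^ 3 ^ B.a = (3 ^ B.g) ^ 3 ^ B.a
    rw [← hcard, hQF, B.hq, hcard, ← pow_mul, B.n_eq, mul_comm]
  obtain ⟨k, hk⟩ : Odd B.g := B.n_odd.of_dvd_nat ⟨3 ^ B.a, by rw [B.n_eq, mul_comm]⟩
  have hk1 : 1 ≤ k := by omega
  have hq : 27 ≤ Fintype.card Q.F := by
    rw [hF]; exact le_trans (by norm_num) (Nat.pow_le_pow_right (by norm_num) hg)
  haveI := Q.isSimpleGroup (by omega)
  have hodd : Odd (centralizer ({Q.t} : Set (_ ⧸ Φ.D.subgroupOf (centralizer (Φ.D : Set G))))).index := by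
    rw [Nat.odd_iff, ← Nat.two_dvd_ne_zero]
    exact fun h2 => Q.T.not_dvd_index (h2.trans (index_dvd_of_le fun s hs =>
      mem_centralizer_singleton_iff.2 (Q.comm hs Q.htT)))
  have hna : ¬ IsMulCommutative (↥(centralizer (Φ.D : Set G)) ⧸ Φ.D.subgroupOf (centralizer (Φ.D : Set G))) := by
    intro hc
    obtain ⟨c, -, -, a, -, hne⟩ := Q.exists_moving_cent
    exact hne (by rw [hc.is_comm.comm c a, mul_inv_cancel_right])
  obtain ⟨K, hKc, hKor, hKn, ⟨φ⟩⟩ := Q.exists_datum (by omega)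
  have h8 := Q.hmod
  have h4 : Fintype.card Q.F % 4 = 3 := by
    rw [hF, hk, pow_succ, pow_mul, Nat.mul_mod, Nat.pow_mod]
    norm_num
  obtain ⟨T⟩ := ReeType.exists_setup_of_kit hna Q.t K
    (ReeType.Kit.of_equiv (q := 3 ^ B.g) (m := (3 ^ B.g + 1) / 4) (n := (3 ^ B.g - 1) / 2) hk1 hF
      (by rw [hk]) (by rw [hF] at h4; omega) (by rw [hF] at h4; omega) φ) Q.ht hKc hKor hKn hodd
  obtain ⟨T', hT'⟩ := T.exists_setup Q.ht
  exact ⟨_, inferInstance, inferInstance, QuotientGroup.mk' _, _, T',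
    fun x => QuotientGroup.eq_one_iff x, fun ht => by rw [hT', hQt]⟩

/-- The data of the local subgroup. -/
theorem LocalData.exists_red {B : Borel Φ} (L : LocalData B) :
    ∃ W : Red L.Y Φ.F, (∀ y : L.Y, ((W.τ y : L.Y) : G) = Φ.t * y * Φ.t⁻¹) ∧
      ((W.d : L.Y) : G) = B.d ∧ ((W.w : L.Y) : G) = B.w ∧ (∀ x, ((W.ι x : L.Y) : G) = B.ι x) ∧ W.g = B.g := by
  haveI := B.char
  have htt := Φ.sq_t
  have et : Φ.t⁻¹ = Φ.t := inv_eq_of_mul_eq_one_right htt
  have hYt : ∀ y ∈ L.Y, Φ.t * y * Φ.t⁻¹ ∈ L.Y := fun y hy =>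
    (mem_normalizer_iff.1 (L.norm L.t_mem) y).1 hy
  have hττ : ∀ y : G, Φ.t * (Φ.t * y * Φ.t⁻¹) * Φ.t⁻¹ = y := fun y => by
    rw [show Φ.t * (Φ.t * y * Φ.t⁻¹) * Φ.t⁻¹ = (Φ.t * Φ.t) * y * (Φ.t⁻¹ * Φ.t⁻¹) by group, htt, et, htt,
      one_mul, mul_one]
  have hfixed : ∀ y : G, Commute y Φ.t → Φ.t * y * Φ.t⁻¹ = y := fun y hy => by
    rw [← hy.eq, mul_inv_cancel_right]
  have hι : ∀ x, B.ι x ∈ L.Y := fun x => L.R_le (L.AD_le (mem_sup_left ⟨x, rfl⟩))
  have hd : B.d ∈ L.Y := L.R_le (L.AD_le (mem_sup_right B.d_mem))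
  obtain ⟨x, hx1, hx⟩ := B.fixed
  refine ⟨{
    τ :=
      { toFun := fun y => ⟨Φ.t * y * Φ.t⁻¹, hYt y y.2⟩
        invFun := fun y => ⟨Φ.t * y * Φ.t⁻¹, hYt y y.2⟩
        left_inv := fun y => Subtype.ext (hττ y)
        right_inv := fun y => Subtype.ext (hττ y)
        map_mul' := fun a b => Subtype.ext (by push_cast; group) }
    invol := fun y => Subtype.ext (hττ y)
    odd := L.odd
    solvable := Cfsg.Agent.S0205.result L.odd
    n := B.n, g := B.g, a := B.a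
    hcard := by rw [Nat.card_eq_fintype_card, B.hq]
    n_eq := B.n_eq, a_pos := B.a_pos, n_odd := B.n_odd
    ι := B.ι.codRestrict L.Y hι
    ι_inj := fun a b e => B.ι_inj (congrArg Subtype.val e :)
    w := ⟨B.w, L.w_mem⟩, d := ⟨B.d, hd⟩
    μ := B.μ, μ_ne := B.μ_ne, μ_gen := B.μ_gen
    μ_pow := fun i hi => by
      have h3 : (B.w ^ i) ^ 3 = 1 := B.cube (B.w_pow_eq hi)
      refine Subtype.ext ?_
      show ((⟨B.w, L.w_mem⟩ : L.Y) ^ i : L.Y).1 = 1
      rw [Subgroup.coe_pow]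
      refine orderOf_eq_one_iff.1 (Nat.eq_one_of_dvd_coprimes (a := 3) (b := orderOf B.w) ?_
        (orderOf_dvd_of_pow_eq_one h3) (orderOf_pow_dvd i))
      refine Nat.prime_three.coprime_iff_not_dvd.2 fun hd3 => ?_
      rw [B.order_w, B.hq] at hd3
      obtain ⟨j, hj⟩ := B.n_odd
      have h31 : 3 ∣ 3 ^ B.n := dvd_pow_self 3 (by omega)
      have h32 := Nat.odd_iff.1 ((by decide : Odd 3).pow (n := B.n))
      revert hd3 h31 h32; generalize 3 ^ B.n = P; intro hd3 h31 h32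
      omega
    f := B.f
    w_act := fun x => Subtype.ext (B.w_act x)
    d_act := fun x => Subtype.ext (B.d_act x)
    f_semi := B.f_semi
    d_order := by rw [← Subgroup.orderOf_coe]; exact B.d_order
    w_order := by rw [← Subgroup.orderOf_coe]; exact B.order_w.trans (by rw [B.hq])
    ι_fix := fun x => Subtype.ext (hfixed _ (Φ.K_comm _ (B.ι_mem x)))
    w_fix := Subtype.ext (hfixed _ (Φ.K_comm _ B.w_mem))
    d_fix := Subtype.ext (hfixed _ (Φ.D_comm_t B.d_mem))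
    fixed := fun y hy => by
      have hyt : Commute (y : G) Φ.t := (mul_inv_eq_iff_eq_mul.1 (congrArg Subtype.val hy :)).symm
      obtain ⟨u, i, j, he⟩ := L.fixed y y.2 hyt
      exact ⟨u, i, j, Subtype.ext (by push_cast; exact he)⟩
    exists_fix := by
      obtain ⟨z, rfl⟩ := Multiplicative.ofAdd.surjective x
      refine ⟨z, fun e => hx1 (by rw [e, ofAdd_zero]), ?_⟩
      have h1 := B.d_act z
      rw [(hx _ B.d_mem).eq, mul_inv_cancel_right] at h1
      exact (Multiplicative.ofAdd.injective (B.ι_inj h1)).symm }, fun _ => rfl, rfl, rfl, fun _ => rfl, rfl⟩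

/-- The facts about the centralizer of the field part. -/
theorem LocalData.extra {B : Borel Φ} (L : LocalData B) (h : Eight G) (W : Red L.Y Φ.F)
    (hτ : ∀ y : L.Y, ((W.τ y : L.Y) : G) = Φ.t * y * Φ.t⁻¹) (hd : ((W.d : L.Y) : G) = B.d)
    (hι : ∀ x, ((W.ι x : L.Y) : G) = B.ι x) (hg : W.g = B.g) (hg3 : 3 ≤ W.g) : W.Extra := by
  classical
  obtain ⟨M, _, _, π, m, T, hπ, hTt⟩ := B.exists_ree h (hg ▸ hg3)
  rw [hg] at hg3
  have hN0odd : ¬ 2 ∣ (3 ^ B.g - 1) / 2 := T.kit.data.two_not_mo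
  have hN03 : ¬ 3 ∣ (3 ^ B.g - 1) / 2 := T.kit.three_not_n
  have hDcard : Nat.card Φ.D = 3 ^ B.a := by rw [← B.d_gen, Nat.card_zpowers, B.d_order]
  have hD3 : ∀ x ∈ Φ.D, ∀ s : ℕ, s.Prime → s ≠ 3 → orderOf x ≠ s := fun x hx s hs hs3 e => by
    have := Subgroup.orderOf_dvd_natCard _ hx
    rw [e, hDcard] at this
    exact hs3 ((Nat.prime_dvd_prime_iff_eq hs Nat.prime_three).1 (hs.dvd_of_dvd_pow this))
  have hmem : ∀ y : L.Y, Commute y W.d → (y : G) ∈ centralizer (Φ.D : Set G) := fun y hy => by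
    refine mem_centralizer_iff.2 fun e he => ?_
    rw [← B.d_gen] at he
    obtain ⟨i, rfl⟩ := mem_zpowers_iff.1 he
    have h1 : Commute (y : G) B.d := hd ▸ hy.map L.Y.subtype
    exact (h1.zpow_right i).eq.symm
  have hτfix : ∀ y : L.Y, W.τ y = y → Commute (y : G) Φ.t := fun y hy =>
    (mul_inv_eq_iff_eq_mul.1 ((hτ y).symm.trans (congrArg Subtype.val hy) :)).symm
  have htC : Φ.t ∈ centralizer (Φ.D : Set G) := mem_centralizer_iff.2 fun e he => (Φ.D_comm_t he).eq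
  have hord : ∀ (x : G) (hx : x ∈ centralizer (Φ.D : Set G)) (s : ℕ), s.Prime → s ≠ 3 → orderOf x = s →
      orderOf (π ⟨x, hx⟩) = s := by
    intro x hx s hs hs3 ho
    haveI := Fact.mk hs
    exact orderOf_eq_prime (by
      rw [← map_pow, show (⟨x, hx⟩ : centralizer (Φ.D : Set G)) ^ s = 1 from Subtype.ext (by
        rw [Subgroup.coe_pow, ← ho, pow_orderOf_eq_one]; rfl), map_one])
      fun e => hD3 x ((hπ _).1 e) s hs hs3 ho
  refine ⟨?_, ?_, ?_, ?_, ?_⟩
  · -- elements of the torus centralized by `D`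
    intro s hs hsN
    rw [hg] at hsN
    obtain ⟨F₁, _, _, hF₁, ⟨e₁⟩⟩ := Φ.cent_sub (le_refl Φ.D)
    have hF : Fintype.card F₁ = 3 ^ B.g := by
      refine Nat.pow_left_injective (show (3 ^ B.a : ℕ) ≠ 0 by positivity) ?_
      show Fintype.card F₁ ^ 3 ^ B.a = (3 ^ B.g) ^ 3 ^ B.a
      rw [← hDcard, hF₁, B.hq, hDcard, ← pow_mul, B.n_eq, mul_comm]
    obtain ⟨x, hx1, hx⟩ := B.fixed
    have hxm : B.ι x ∈ Φ.K ⊓ centralizer (Φ.D : Set G) :=
      ⟨B.ι_mem x, mem_centralizer_iff.2 fun e he => (hx e he).eq⟩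
    have hxo : orderOf (e₁ ⟨B.ι x, hxm⟩) = 3 := by
      rw [MulEquiv.orderOf_eq, Subgroup.orderOf_mk]
      haveI : Fact (Nat.Prime 3) := ⟨Nat.prime_three⟩
      exact orderOf_eq_prime (B.cube ⟨x, rfl⟩) fun e => hx1 (B.ι_inj (e.trans (map_one _).symm))
    obtain ⟨t₁, ht₁, htc⟩ := exists_torus_elt hF hxo hs (fun e => hN0odd (e ▸ hsN))
      (hsN.trans (Nat.div_dvd_of_dvd (by
        have := Nat.odd_iff.1 ((by decide : Odd 3).pow (n := B.g))
        omega)))
    obtain ⟨k, rfl⟩ := e₁.surjective t₁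
    rw [MulEquiv.orderOf_eq, ← Subgroup.orderOf_coe] at ht₁
    have hkx : Commute ((k : G) * B.ι x * (k : G)⁻¹) (B.ι x) := by
      rw [← map_inv, ← map_mul, ← map_mul] at htc
      have h1 := htc.map e₁.symm
      rw [e₁.symm_apply_apply, e₁.symm_apply_apply] at h1
      exact congrArg Subtype.val h1.eq
    obtain ⟨u, hu⟩ := B.cent _ (mul_mem (mul_mem k.2.1 (B.ι_mem x)) (inv_mem k.2.1)) x hx1 hkx
    obtain ⟨y, i, hk⟩ := B.norm (k : G) k.2.1 x hx1 ⟨u, hu⟩
    have hkY : (k : G) ∈ L.Y := by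
      rw [hk]; exact mul_mem (L.R_le (L.AD_le (mem_sup_left ⟨y, rfl⟩))) (pow_mem L.w_mem _)
    refine ⟨⟨k, hkY⟩, Subtype.ext ?_, Subtype.ext ?_, by rw [Subgroup.orderOf_mk]; exact ht₁⟩
    · rw [hτ]
      show Φ.t * (k : G) * Φ.t⁻¹ = k
      rw [← (Φ.K_comm _ k.2.1).eq, mul_inv_cancel_right]
    · show (k : G) * W.d = W.d * k
      rw [hd]
      exact (mem_centralizer_iff.1 k.2.2 B.d B.d_mem).symm
  · -- no element of order `3 s`
    rintro x y ⟨j, hxj⟩ hxd hyf hyd hys hyN hxy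
    rw [hg] at hyN
    set s := orderOf y with hs
    haveI := Fact.mk hys
    haveI : Fact (Nat.Prime 3) := ⟨Nat.prime_three⟩
    by_contra hxD
    have hx1 : π ⟨(x : G), hmem x hxd⟩ ≠ 1 := fun e => hxD (by
      obtain ⟨i, hi⟩ := mem_zpowers_iff.1 (B.d_gen.symm ▸ (hπ _).1 e : (x : G) ∈ zpowers B.d)
      exact mem_zpowers_iff.2 ⟨i, Subtype.ext (by rw [Subgroup.coe_zpow, hd]; exact hi)⟩)
    set X := π ⟨(x : G), hmem x hxd⟩ with hX
    have hXj : X ^ 3 ^ j = 1 := by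
      rw [hX, ← map_pow, show (⟨(x : G), hmem x hxd⟩ : centralizer (Φ.D : Set G)) ^ 3 ^ j = 1 from Subtype.ext (by
        rw [Subgroup.coe_pow]; exact congrArg Subtype.val hxj), map_one]
    obtain ⟨c, -, hc⟩ := (Nat.dvd_prime_pow Nat.prime_three).1 (orderOf_dvd_of_pow_eq_one hXj)
    have hc3 : 3 ∣ orderOf X := by
      rw [hc]; exact dvd_pow_self 3 fun e => hx1 (orderOf_eq_one_iff.1 (by rw [hc, e, pow_zero]))
    have hcomm : Commute X (π ⟨(y : G), hmem y hyd⟩) :=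
      (show Commute (⟨(x : G), hmem x hxd⟩ : centralizer (Φ.D : Set G)) ⟨(y : G), hmem y hyd⟩ from
        Subtype.ext (congrArg Subtype.val hxy.eq :)).map π
    exact T.no_three_mul (p := s) (fun e => hN0odd (e ▸ hyN)) (fun e => hN03 (e ▸ hyN))
      (orderOf_pow_orderOf_div (orderOf_pos X).ne' hc3)
      (hord _ _ s hys (fun e => hN03 (e ▸ hyN)) (Subgroup.orderOf_coe y)) (hcomm.pow_left _)
  · -- the least prime
    intro x y hyf hyd hys hyN hmin hxi hxd hxy
    rw [hg] at hyN hmin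
    set s := orderOf y with hs
    haveI := Fact.mk hys
    set v := π ⟨(y : G), hmem y hyd⟩ with hvdef
    have hvo : orderOf v = s := hord _ _ s hys (fun e => hN03 (e ▸ hyN)) (Subgroup.orderOf_coe y)
    have hvt : Commute v T.t := by
      rw [hTt htC]
      exact (show Commute (⟨(y : G), hmem y hyd⟩ : centralizer (Φ.D : Set G)) ⟨Φ.t, htC⟩ from
        Subtype.ext (hτfix y hyf).eq).map π
    have hv1 : v ≠ 1 := fun e => hys.one_lt.ne' (by rw [← hvo, e, orderOf_one])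
    obtain ⟨u, hu, hut, huv⟩ := T.exists_inverter hvt hv1 (hvo ▸ hyN)
    obtain ⟨N, hNv, -⟩ := T.exists_nframe hvt hv1 (hvo ▸ hyN) hu hut huv
    have hxv : Commute (π ⟨(x : G), hmem x hxd⟩) N.v := by
      rw [hNv]
      exact (show Commute (⟨(x : G), hmem x hxd⟩ : centralizer (Φ.D : Set G)) ⟨(y : G), hmem y hyd⟩ from
        Subtype.ext (congrArg Subtype.val hxy.eq :)).map π
    have hxt := (N.cent_N (hNv ▸ hvo) hmin hxv).1
    rw [hTt htC] at hxt
    have hxt' : Commute (x : G) Φ.t := by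
      refine (sect h Φ).lift_commute (hmem x hxd) htC Φ.ht ?_
      exact (hπ (⟨(x : G), hmem x hxd⟩ * ⟨Φ.t, htC⟩ * ⟨(x : G), hmem x hxd⟩⁻¹ * ⟨Φ.t, htC⟩⁻¹)).1 (by
        rw [map_mul, map_mul, map_mul, map_inv, map_inv, hxt.eq]; group)
    have h1 : x * x = 1 := by
      have h2 : W.τ x = x := Subtype.ext (by rw [hτ, ← hxt'.eq, mul_inv_cancel_right])
      rw [h2] at hxi
      exact eq_inv_iff_mul_eq_one.1 hxi
    exact Outer.eq_one_of_sq W.odd h1
  · -- the `3'`-part of the centralizer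
    intro x y hxi hx3 hxd hy1 hyA hyd hxy
    by_contra hx1
    obtain ⟨s, hs, hsd⟩ := Nat.exists_prime_and_dvd (fun e => hx1 (orderOf_eq_one_iff.1 e))
    haveI := Fact.mk hs
    have hs2 : s ≠ 2 := fun e => by
      have h2 := (hsd.trans (orderOf_dvd_natCard x))
      rw [e] at h2
      exact Nat.not_even_iff_odd.2 W.odd (even_iff_two_dvd.2 h2)
    set x' := x ^ (orderOf x / s)
    have hx'o : orderOf x' = s := orderOf_pow_orderOf_div (orderOf_pos x).ne' hsd
    have hs3 : s ≠ 3 := fun e => hx3 (e ▸ hsd)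
    obtain ⟨z, hz⟩ := hyA
    have hyB : (y : G) = B.ι z := by rw [← hz, hι]
    have hY3 : orderOf (π ⟨(y : G), hmem y hyd⟩) = 3 := by
      haveI : Fact (Nat.Prime 3) := ⟨Nat.prime_three⟩
      refine orderOf_eq_prime ?_ fun e => ?_
      · rw [← map_pow, show (⟨(y : G), hmem y hyd⟩ : centralizer (Φ.D : Set G)) ^ 3 = 1 from Subtype.ext (by
          rw [Subgroup.coe_pow, hyB]; exact B.cube ⟨z, rfl⟩), map_one]
      · have h1 := Φ.disj 1 (Or.inl rfl) (B.ι z) (B.ι_mem z) (by rw [one_mul, ← hyB]; exact (hπ _).1 e)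
        rw [one_mul] at h1
        exact hy1 (Subtype.ext (hyB.trans h1))
    exact T.no_three_mul (p := s) hs2 hs3 hY3
      (hord _ (hmem x' (hxd.pow_left _)) s hs hs3 ((Subgroup.orderOf_coe x').trans hx'o))
      ((show Commute (⟨(y : G), hmem y hyd⟩ : centralizer (Φ.D : Set G)) ⟨(x' : G), hmem x' (hxd.pow_left _)⟩ from
        Subtype.ext (congrArg Subtype.val (hxy.symm.pow_right _).eq :)).map π)
  · -- the normalizer of `D`
    intro y e hy
    refine Subtype.ext ?_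
    show (y : G) * W.d = W.d * y
    rw [hd]
    exact (B.commute_of_conj h (e := e) (by rw [← hd]; exact congrArg Subtype.val hy)).eq

/-- The field part of a `3`-group in characteristic three is trivial. -/
theorem false_of_three (h : Eight G) (Φ : Frame G) (hD : Φ.D ≠ ⊥)
    (hthree : ∀ l : ℕ, l.Prime → l ∣ Nat.card Φ.D → l = 3) (h3 : 3 ∣ Fintype.card Φ.F) : False := by
  obtain ⟨B⟩ := exists_borelD Φ hD hthree h3
  haveI := B.char
  obtain ⟨L⟩ := exists_localData h B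
  obtain ⟨W, hτ, hd, -, hι, hg⟩ := L.exists_red
  obtain ⟨M, _, χ, hχτ, hχd⟩ := W.exists_hom fun hg3 => L.extra h W hτ hd hι hg hg3
  refine L.false_of_hom χ (fun y hy => ?_) fun hdY h1 => hχd ?_
  · rw [← hχτ y]
    exact congrArg χ (Subtype.ext (hτ y).symm)
  · rw [← h1]
    exact congrArg χ (Subtype.ext hd)

end CfsgLib.Walter.Three
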