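import Cfsg.Agent.Lib.Walter.Three.CentForm
import Cfsg.Agent.Lib.Walter.Three.Ext
import Cfsg.Agent.Lib.Walter.Core.Main

/-!
# Rank three: the centralizer form, given that field automorphisms have order three
-/

set_option autoImplicit false
set_option linter.unusedSectionVars false
set_option linter.style.haveILetI false

namespace CfsgLib.Walter

open Subgroup
open CfsgLib.BGroup.FieldKill (Frame)

universe u

variable {G : Type u} [Group G] [Finite G]

/-- A field element for every prime divisor of `|D|`. -/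
theorem Three.exists_fieldElt_prime (Φ : Frame G) {l : ℕ} (hl : l.Prime) (hld : l ∣ Nat.card Φ.D) :
    ∃ E : FieldElt (Three.toCentralizer Φ), E.l = l := by
  haveI := Fact.mk hl
  obtain ⟨E⟩ := Three.exists_fieldElt Φ fun e => hl.ne_one (by
    rw [e, Subgroup.card_bot, Nat.dvd_one] at hld; exact hld)
  obtain ⟨d, hd⟩ := exists_prime_orderOf_dvd_card' (G := Φ.D) l hld
  have hdK : (d : G) ∉ Φ.K := fun hk => by
    have h1 := Φ.disj 1 (Or.inl rfl) _ hk (by rw [one_mul]; exact d.2)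
    rw [one_mul] at h1
    rw [show d = 1 from Subtype.ext h1, orderOf_one] at hd
    exact hl.ne_one hd.symm
  -- the four group is centralized by all of `D`
  obtain ⟨a, b, ha, hb, haK, hbK, ha2, hb2, hab⟩ : ∃ a b, a ∈ (Φ.S : Subgroup G) ∧ b ∈ (Φ.S : Subgroup G) ∧
      a ∈ Φ.K ∧ b ∈ Φ.K ∧ orderOf a = 2 ∧ orderOf b = 2 ∧ a ≠ b := by
    obtain ⟨k, hk, hkn, s, hs, hne⟩ := Φ.moves
    obtain ⟨c, hc, k₁, hk₁, rfl⟩ := Three.mem_S_decomp Φ hs
    have hcS : c ∈ (Φ.S : Subgroup G) := by rcases hc with rfl | rfl; exacts [one_mem _, Φ.htS]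
    have hk₁S : k₁ ∈ (Φ.S : Subgroup G) := by
      have := mul_mem (inv_mem hcS) hs
      rwa [inv_mul_cancel_left] at this
    have hkc : Commute k c := by
      rcases hc with rfl | rfl
      exacts [Commute.one_right _, Φ.K_comm k hk]
    have hne' : k * k₁ * k⁻¹ ≠ k₁ := fun e => hne (by
      rw [show k * (c * k₁) * k⁻¹ = k * c * k⁻¹ * (k * k₁ * k⁻¹) by group, hkc.eq, mul_inv_cancel_right, e])
    have hk1 : k₁ ≠ 1 := fun e => hne' (by rw [e]; group)
    refine ⟨k * k₁ * k⁻¹, k₁, (mem_normalizer_iff.1 hkn _).1 hk₁S, hk₁S,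
      mul_mem (mul_mem hk hk₁) (inv_mem hk), hk₁, ?_, ?_, hne'⟩
    · exact Invol.invol_iff.2 ⟨by rw [← pow_two]; exact Φ.hS.2 _ ((mem_normalizer_iff.1 hkn _).1 hk₁S),
        fun e => hk1 (conj_eq_one_iff.1 e)⟩
    · exact Invol.invol_iff.2 ⟨by rw [← pow_two]; exact Φ.hS.2 _ hk₁S, hk1⟩
  exact ⟨{
    l := l
    d := d
    a := a
    b := b
    prime := hl
    order_d := by rw [Subgroup.orderOf_coe]; exact hd
    d_mem := show (d : G) ∈ Φ.K ⊔ Φ.D from le_sup_right (a := Φ.K) d.2
    d_not_mem := hdK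
    a_mem := haK
    b_mem := hbK
    order_a := ha2
    order_b := hb2
    a_ne_b := hab
    comm_ab := congrArg Subtype.val (Φ.hS.1.is_comm.comm ⟨a, ha⟩ ⟨b, hb⟩)
    comm_da := Φ.D_comm_S d.2 ha
    comm_db := Φ.D_comm_S d.2 hb }, rfl⟩

/-- Rank three, given that field automorphisms have order three in characteristic three. -/
theorem Eight.centForm_of_three (h : Eight G) (hsec : SectionsOK G) {t : G} (ht : orderOf t = 2)
    (hns : ¬ Group.IsSolvable ↥(centralizer ({t} : Set G)))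
    (hfield : ∀ T : Centralizer G t, ∀ E : FieldElt T, E.l = 3 ∧ 3 ∣ Fintype.card T.F) : CentForm G := by
  obtain ⟨Φ, rfl⟩ := h.exists_frame ht hns (h.core_eq_bot hsec ht hns)
  refine Or.inr (Three.reeForm Φ h ?_)
  by_contra hD
  obtain ⟨E⟩ := Three.exists_fieldElt Φ hD
  refine Three.false_of_three h Φ hD (fun l hl hld => ?_) (hfield _ E).2
  obtain ⟨E', rfl⟩ := Three.exists_fieldElt_prime Φ hl hld
  exact (hfield _ E').1

end CfsgLib.Walter
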