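import Cfsg.Agent.Lib.Lie.PSL2Two

/-!
# The Borel subgroup of `PSL(2, 3 ^ n)`, `n` odd
-/

set_option autoImplicit false
set_option linter.style.haveILetI false
set_option linter.unusedSectionVars false

open Subgroup

namespace CfsgLib.Walter.Three

universe u

open CfsgLib.PSL2Two

/-- A copy of the additive group, an element of odd order acting on it as a multiplication, and their properties. -/
structure BorelKit (K : Type u) [Group K] (F : Type) [Field F] where
  a : Multiplicative F →* K
  w : K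
  lam : F
  a_inj : Function.Injective a
  lam_ord : 2 * orderOf lam + 1 = Nat.card F
  w_ord : 2 * orderOf w + 1 = Nat.card F
  conj_w : ∀ x : F, w * a (Multiplicative.ofAdd x) * w⁻¹ = a (Multiplicative.ofAdd (lam * x))
  cent : ∀ x ∈ a.range, x ≠ 1 → ∀ y, Commute x y → y ∈ a.range
  norm : ∀ g, (∀ x ∈ a.range, g * x * g⁻¹ ∈ a.range) → ∃ x ∈ a.range, ∃ i : ℕ, g = x * w ^ i
  odd_sub : ∀ X : Subgroup K, Odd (Nat.card X) → a.range ≤ X → ∀ g ∈ X, ∀ x ∈ a.range, g * x * g⁻¹ ∈ a.range

section Models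

variable {F : Type} [Field F]

/-- An upper unitriangular matrix. -/
def unip (x : F) : SL2 F := ⟨!![1, x; 0, 1], by simp [Matrix.det_fin_two]⟩

/-- A diagonal matrix. -/
def diagSL (p : Fˣ) : SL2 F := ⟨!![(p : F), 0; 0, ((p⁻¹ : Fˣ) : F)], by simp [Matrix.det_fin_two]⟩

theorem unip_val (x : F) : (unip x).1 = !![1, x; 0, 1] := rfl

theorem diagSL_val (p : Fˣ) : (diagSL p).1 = !![(p : F), 0; 0, ((p⁻¹ : Fˣ) : F)] := rfl

theorem unip_mul (x y : F) : unip x * unip y = unip (y + x) := Subtype.ext (by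
  rw [val_mul, unip_val, unip_val, unip_val]
  ext i j
  fin_cases i <;> fin_cases j <;> simp [Matrix.mul_apply, Fin.sum_univ_two])

/-- The image of the unitriangular group. -/
def unipHom (F : Type) [Field F] : Multiplicative F →* PSL2 F where
  toFun x := π (unip (Multiplicative.toAdd x))
  map_one' := π_eq_one_iff.2 (Or.inl (by
    rw [unip_val, toAdd_one]
    ext i j
    fin_cases i <;> fin_cases j <;> simp))
  map_mul' x y := by
    rw [← map_mul π, unip_mul, toAdd_mul, add_comm]

theorem unipHom_apply (x : F) : unipHom F (Multiplicative.ofAdd x) = π (unip x) := rfl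

theorem mem_unipHom_range {z : PSL2 F} : z ∈ (unipHom F).range ↔ ∃ x : F, π (unip x) = z :=
  ⟨fun ⟨x, e⟩ => ⟨Multiplicative.toAdd x, e⟩, fun ⟨x, e⟩ => ⟨Multiplicative.ofAdd x, e⟩⟩

/-- The diagonal hom. -/
def diagHom (F : Type) [Field F] : Fˣ →* SL2 F where
  toFun := diagSL
  map_one' := Subtype.ext (by
    rw [diagSL_val]
    ext i j
    fin_cases i <;> fin_cases j <;> simp)
  map_mul' p q := Subtype.ext (by
    rw [val_mul, diagSL_val, diagSL_val, diagSL_val]
    ext i j
    fin_cases i <;> fin_cases j <;> simp [Matrix.mul_apply, Fin.sum_univ_two, mul_comm])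

theorem diag_conj (p : Fˣ) (x : F) : diagSL p * unip x = unip ((p : F) ^ 2 * x) * diagSL p := Subtype.ext (by
  rw [val_mul, val_mul, diagSL_val, unip_val, unip_val]
  ext i j
  fin_cases i <;> fin_cases j <;> simp [Matrix.mul_apply, Fin.sum_univ_two]
  field_simp)

theorem π_diag_eq_one_iff {p : Fˣ} : π (diagSL p) = 1 ↔ (p : F) ^ 2 = 1 := by
  rw [π_eq_one_iff, diagSL_val, sq_eq_one_iff]
  constructor
  · rintro (h | h)
    · exact Or.inl (by simpa using congrFun (congrFun h 0) 0)
    · exact Or.inr (by simpa using congrFun (congrFun h 0) 0)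
  · rintro (h | h)
    · left
      ext i j
      fin_cases i <;> fin_cases j <;> simp [h]
    · right
      ext i j
      fin_cases i <;> fin_cases j <;> simp [h, inv_neg]

variable (h2 : (2 : F) ≠ 0)
include h2

theorem unipHom_injective : Function.Injective (unipHom F) := by
  rw [injective_iff_map_eq_one]
  intro x hx
  rcases π_eq_one_iff.1 hx with h | h
  · exact Multiplicative.toAdd.injective (by simpa [unip_val] using congrFun (congrFun h 0) 1)
  · have h1 : (1 : F) = -1 := by simpa [unip_val] using congrFun (congrFun h 0) 0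
    exact absurd (by linear_combination h1) h2

/-- The centralizer of a non-trivial unipotent element. -/
theorem mem_of_commute {x : F} (hx : x ≠ 0) {z : PSL2 F} (h : Commute (π (unip x)) z) :
    z ∈ (unipHom F).range := by
  obtain ⟨Y, rfl⟩ := π_surjective z
  have hd := Y.2
  rw [Matrix.det_fin_two] at hd
  have h' : π (unip x * Y) = π (Y * unip x) := by rw [map_mul, map_mul]; exact h.eq
  rcases π_eq_iff.1 h' with e | e
  · have e00 := congrFun (congrFun e 0) 0
    have e01 := congrFun (congrFun e 0) 1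
    simp [val_mul, unip_val, Matrix.mul_apply, Fin.sum_univ_two, hx] at e00 e01
    have ht : Y.1 1 1 = Y.1 0 0 := mul_left_cancel₀ hx (by linear_combination e01)
    rw [e00, mul_zero, sub_zero, ht] at hd
    have hp : Y.1 0 0 ^ 2 = 1 := by rw [pow_two]; exact hd
    refine mem_unipHom_range.2 ⟨Y.1 0 0 * Y.1 0 1, π_eq_iff.2 ?_⟩
    rcases sq_eq_one_iff.1 hp with q | q
    · left
      rw [unip_val]
      ext i j
      fin_cases i <;> fin_cases j <;> simp [e00, ht, q]
    · right
      rw [unip_val]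
      ext i j
      fin_cases i <;> fin_cases j <;> simp [e00, ht, q]
  · exfalso
    have e10 := congrFun (congrFun e 1) 0
    have e00 := congrFun (congrFun e 0) 0
    simp [val_mul, unip_val, Matrix.mul_apply, Fin.sum_univ_two] at e10 e00
    have hs : Y.1 1 0 = 0 :=
      (mul_eq_zero.1 (show (2 : F) * Y.1 1 0 = 0 by linear_combination e10)).resolve_left h2
    rw [hs, mul_zero, add_zero] at e00
    have hp : Y.1 0 0 = 0 :=
      (mul_eq_zero.1 (show (2 : F) * Y.1 0 0 = 0 by linear_combination e00)).resolve_left h2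
    rw [hs, hp] at hd
    simp at hd

/-- An element normalizing the unipotent group is triangular. -/
theorem low_eq_zero {Y : SL2 F} (h : ∀ z ∈ (unipHom F).range, π Y * z * (π Y)⁻¹ ∈ (unipHom F).range) :
    Y.1 1 0 = 0 := by
  obtain ⟨z, hz⟩ := mem_unipHom_range.1 (h _ (mem_unipHom_range.2 ⟨1, rfl⟩))
  rw [eq_mul_inv_iff_mul_eq, ← map_mul, ← map_mul] at hz
  rcases π_eq_iff.1 hz with e | e
  · have e11 := congrFun (congrFun e 1) 1
    simp [val_mul, unip_val, Matrix.mul_apply, Fin.sum_univ_two] at e11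
    exact e11
  · have e10 := congrFun (congrFun e 1) 0
    simp [val_mul, unip_val, Matrix.mul_apply, Fin.sum_univ_two] at e10
    exact (mul_eq_zero.1 (show (2 : F) * Y.1 1 0 = 0 by linear_combination e10)).resolve_left h2

end Models

/-- The Borel kit of `PSL(2, 3 ^ n)`. -/
theorem exists_borel {K : Type u} [Group K] [Finite K] {F : Type} [Field F] [Fintype F] {n : ℕ} (hn : Odd n)
    (hF : Fintype.card F = 3 ^ n) (e : K ≃* Matrix.ProjectiveSpecialLinearGroup (Fin 2) F) :
    Nonempty (BorelKit K F) := by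
  classical
  have hodd : Fintype.card F % 2 = 1 := by rw [hF]; exact Nat.odd_iff.1 (Odd.pow (by decide))
  have h2 := two_ne_zero_of_odd hodd
  obtain ⟨g, hg⟩ := IsCyclic.exists_generator (α := Fˣ)
  have hgo : orderOf g = Fintype.card F - 1 := by
    rw [orderOf_eq_card_of_forall_mem_zpowers hg, Nat.card_eq_fintype_card, Fintype.card_units]
  have hpos : 3 ≤ Fintype.card F := by
    rw [hF]
    obtain ⟨j, rfl⟩ := hn
    calc 3 = 3 ^ 1 := rfl
      _ ≤ 3 ^ (2 * j + 1) := Nat.pow_le_pow_right (by norm_num) (by omega)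
  set lam : F := ((g ^ 2 : Fˣ) : F) with hlam
  set w0 : PSL2 F := π (diagSL g) with hw0
  have hlo : 2 * orderOf lam + 1 = Nat.card F := by
    rw [hlam, orderOf_units, orderOf_pow, hgo, Nat.card_eq_fintype_card,
      Nat.gcd_eq_right (show 2 ∣ Fintype.card F - 1 by omega)]
    omega
  have hwpow : ∀ k : ℕ, w0 ^ k = π (diagSL (g ^ k)) := fun k => by
    rw [hw0, ← map_pow]
    exact congrArg π (map_pow (diagHom F) g k).symm
  have hwo : orderOf w0 = orderOf lam := orderOf_eq_orderOf_iff.2 fun k => by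
    rw [hwpow, π_diag_eq_one_iff, hlam, ← Units.val_pow_eq_pow_val, ← Units.val_pow_eq_pow_val, ← pow_mul, ← pow_mul,
      mul_comm]
  let b : Multiplicative F →* K := e.symm.toMonoidHom.comp (unipHom F)
  have hb : ∀ {z : K}, z ∈ b.range ↔ e z ∈ (unipHom F).range := by
    intro z
    constructor
    · rintro ⟨x, rfl⟩; exact ⟨x, (e.apply_symm_apply _).symm⟩
    · rintro ⟨x, hx⟩; exact ⟨x, by show e.symm (unipHom F x) = z; rw [hx, e.symm_apply_apply]⟩
  have hnorm : ∀ k : K, (∀ x ∈ b.range, k * x * k⁻¹ ∈ b.range) →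
      ∀ z ∈ (unipHom F).range, e k * z * (e k)⁻¹ ∈ (unipHom F).range := by
    intro k hk z hz
    have h1 := hb.1 (hk (e.symm z) (hb.2 (by rwa [e.apply_symm_apply])))
    rwa [map_mul, map_mul, map_inv, e.apply_symm_apply] at h1
  refine ⟨⟨b, e.symm w0, lam, e.symm.injective.comp (unipHom_injective h2), hlo, ?_, ?_, ?_, ?_, ?_⟩⟩
  · rw [MulEquiv.orderOf_eq, hwo, hlo]
  · intro x
    show e.symm w0 * e.symm (unipHom F _) * (e.symm w0)⁻¹ = e.symm (unipHom F _)
    rw [← map_inv, ← map_mul, ← map_mul, unipHom_apply, unipHom_apply, hw0, mul_inv_eq_iff_eq_mul.2]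
    rw [← map_mul, ← map_mul, diag_conj, hlam, Units.val_pow_eq_pow_val]
  · intro x hx hx1 y hxy
    obtain ⟨u, hu⟩ := mem_unipHom_range.1 (hb.1 hx)
    refine hb.2 (mem_of_commute h2 (x := u) ?_ ?_)
    · rintro rfl
      refine hx1 (e.injective ?_)
      rw [← hu, map_one]
      exact map_one (unipHom F)
    · rw [hu]; exact hxy.map e
  · intro k hk
    obtain ⟨Y, hY⟩ := π_surjective (e k)
    have hs : Y.1 1 0 = 0 := low_eq_zero h2 (fun z hz => by rw [hY]; exact hnorm k hk z hz)
    have hd := Y.2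
    rw [Matrix.det_fin_two, hs, mul_zero, sub_zero] at hd
    obtain ⟨i, hi⟩ : ∃ i : ℕ, g ^ i = Units.mk0 (Y.1 0 0) (left_ne_zero_of_mul_eq_one hd) :=
      Submonoid.mem_powers_iff _ _ |>.1 (mem_powers_iff_mem_zpowers.2 (hg _))
    refine ⟨e.symm (π (unip (Y.1 0 1 * Y.1 0 0))), hb.2 (by
      rw [e.apply_symm_apply]; exact mem_unipHom_range.2 ⟨_, rfl⟩), i, e.injective ?_⟩
    rw [map_mul, map_pow, e.apply_symm_apply, e.apply_symm_apply, hwpow, hi, ← map_mul, ← hY]
    refine congrArg π (Subtype.ext ?_)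
    rw [val_mul, unip_val, diagSL_val]
    have ht : Y.1 1 1 = (Y.1 0 0)⁻¹ := eq_inv_of_mul_eq_one_right hd
    have hp := left_ne_zero_of_mul_eq_one hd
    ext i j
    fin_cases i <;> fin_cases j <;> simp [Matrix.mul_apply, Fin.sum_univ_two, hs, ht, hp]
  · intro X hX hbX k hk x hx
    obtain ⟨Y, hY⟩ := π_surjective (e k)
    have hs : Y.1 1 0 = 0 := by
      by_contra hs
      obtain ⟨u, eu⟩ : ∃ u : F, u * Y.1 1 0 = -(Y.1 0 0) := ⟨_, div_mul_cancel₀ _ hs⟩
      obtain ⟨v, ev⟩ : ∃ v : F, v * Y.1 1 0 = -(Y.1 1 1) := ⟨_, div_mul_cancel₀ _ hs⟩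
      set J : SL2 F := unip u * Y * unip v with hJ
      have hm : ∀ c : F, e.symm (π (unip c)) ∈ X := fun c => hbX (hb.2 (by
        rw [e.apply_symm_apply]; exact mem_unipHom_range.2 ⟨_, rfl⟩))
      have hJX : e.symm (π J) ∈ X := by
        rw [hJ, map_mul, map_mul, map_mul, map_mul, hY, e.symm_apply_apply]
        exact mul_mem (mul_mem (hm u) hk) (hm v)
      have hJv : J.1 = (unip u).1 * Y.1 * (unip v).1 := rfl
      have h00 : J.1 0 0 = 0 := by
        rw [hJv]
        rw [Matrix.eta_fin_two Y.1]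
        simp [unip_val, Matrix.mul_fin_two]
        linear_combination eu
      have h11 : J.1 1 1 = 0 := by
        rw [hJv]
        rw [Matrix.eta_fin_two Y.1]
        simp [unip_val, Matrix.mul_fin_two]
        linear_combination ev
      have hJd := J.2
      rw [Matrix.det_fin_two, h00, h11] at hJd
      have hJ1 : π J ≠ 1 := fun h => by
        rcases π_eq_one_iff.1 h with h' | h' <;>
          · have := congrFun (congrFun h' 0) 0
            simp [h00] at this
      have hJ2 : π J * π J = 1 := by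
        rw [← map_mul]
        refine π_eq_one_iff.2 (Or.inr ?_)
        rw [val_mul]
        ext i j
        fin_cases i <;> fin_cases j <;> simp [Matrix.mul_apply, Fin.sum_univ_two, h00, h11] <;>
          linear_combination -hJd
      have hord : orderOf (e.symm (π J)) = 2 :=
        orderOf_eq_prime (by rw [pow_two, ← map_mul, hJ2, map_one]) fun h => hJ1 (e.symm.injective (h.trans (map_one _).symm))
      exact Nat.not_even_iff_odd.2 hX (even_iff_two_dvd.2 (hord ▸ Subgroup.orderOf_dvd_natCard X hJX))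
    obtain ⟨c, hc⟩ := mem_unipHom_range.1 (hb.1 hx)
    refine hb.2 (mem_unipHom_range.2 ⟨(Y.1 0 0) ^ 2 * c, ?_⟩)
    rw [map_mul, map_mul, map_inv, ← hY, ← hc, eq_mul_inv_iff_mul_eq, ← map_mul, ← map_mul]
    refine congrArg π (Subtype.ext ?_)
    have hd := Y.2
    rw [Matrix.det_fin_two, hs, mul_zero, sub_zero] at hd
    rw [val_mul, val_mul, unip_val, unip_val]
    ext i j
    fin_cases i <;> fin_cases j <;> simp [Matrix.mul_apply, Fin.sum_univ_two, hs]
    linear_combination (Y.1 0 0 * c) * hd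

end CfsgLib.Walter.Three
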