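import Cfsg.Agent.Lib.Walter.Three.PslBorel
import Cfsg.Agent.Lib.Walter.Three.Centralizer
import Mathlib.FieldTheory.Finite.GaloisField

/-!
# Rank three: a Borel subgroup of `K` with the field part acting semilinearly
-/

set_option autoImplicit false
set_option linter.unusedSectionVars false
set_option linter.style.haveILetI false

namespace CfsgLib.Walter.Three

open Subgroup
open CfsgLib.BGroup.FieldKill (Frame)

universe u

variable {G : Type u} [Group G] [Finite G]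

/-- A unipotent subgroup `A` of `K`, a torus generator and a generator of `D`. -/
structure Borel (Φ : Frame G) where
  n : ℕ
  g : ℕ
  a : ℕ
  hq : Fintype.card Φ.F = 3 ^ n
  n_eq : n = 3 ^ a * g
  a_pos : 1 ≤ a
  n_odd : Odd n
  char : CharP Φ.F 3
  ι : Multiplicative Φ.F →* G
  ι_inj : Function.Injective ι
  ι_mem : ∀ x, ι x ∈ Φ.K
  w : G
  w_mem : w ∈ Φ.K
  μ : Φ.F
  μ_ne : μ ≠ 0
  μ_gen : ∀ c, 1 ≤ c → c ≤ n → ∀ L : Subfield Φ.F, μ ^ c ∈ L → L = ⊤
  w_act : ∀ x, w * ι (Multiplicative.ofAdd x) * w⁻¹ = ι (Multiplicative.ofAdd (μ * x))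
  order_w : orderOf w = (Fintype.card Φ.F - 1) / 2
  cent : ∀ k ∈ Φ.K, ∀ x, x ≠ 1 → Commute k (ι x) → k ∈ ι.range
  norm : ∀ k ∈ Φ.K, ∀ x, x ≠ 1 → k * ι x * k⁻¹ ∈ ι.range → ∃ y, ∃ i : ℕ, k = ι y * w ^ i
  no_invol : ∀ k ∈ Φ.K, ∀ x, x ≠ 1 → k * ι x * k⁻¹ ∈ ι.range → k * k = 1 → k = 1
  exists_invol : ∀ k ∈ Φ.K, (∀ y, ∀ i : ℕ, k ≠ ι y * w ^ i) →
    ∃ x y, orderOf (ι x * (k * ι y * k⁻¹)) = 2
  sylow : ∀ X : Subgroup G, X ≤ Φ.K → IsPGroup 3 X → ∃ k ∈ Φ.K, ∀ x ∈ X, k * x * k⁻¹ ∈ ι.range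
  d : G
  d_mem : d ∈ Φ.D
  d_gen : zpowers d = Φ.D
  d_order : orderOf d = 3 ^ a
  f : Φ.F → Φ.F
  d_act : ∀ x, d * ι (Multiplicative.ofAdd x) * d⁻¹ = ι (Multiplicative.ofAdd (f x))
  f_semi : ∀ c x, f (c * x) = c ^ 3 ^ g * f x
  fixed : ∃ x, x ≠ 1 ∧ ∀ e ∈ Φ.D, Commute e (ι x)

theorem sq_pow_eq {F : Type*} [Field F] [Fintype F] {n : ℕ} (hq : Fintype.card F = 3 ^ n) (c : F) (m : ℕ) :
    c ^ 3 ^ m = c ^ 3 ^ (m % n) := by
  have hstep : ∀ i : ℕ, c ^ 3 ^ (n * i) = c := fun i => by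
    induction i with
    | zero => simp
    | succ i ih => rw [Nat.mul_succ, pow_add, pow_mul, ih, ← hq, FiniteField.pow_card]
  conv_lhs => rw [← Nat.div_add_mod m n, pow_add, pow_mul, hstep]

/-- The degree divides the exponents fixing everything. -/
theorem dvd_of_forall_pow {F : Type*} [Field F] [Fintype F] [CharP F 3] {n m : ℕ}
    (hq : Fintype.card F = 3 ^ n) (h : ∀ c : F, c ^ 3 ^ m = c) : n ∣ m := by
  classical
  haveI : Fact (Nat.Prime 3) := ⟨Nat.prime_three⟩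
  letI := ZMod.algebra F 3
  have hr : Module.finrank (ZMod 3) F = n := by
    have := Module.card_eq_pow_finrank (K := ZMod 3) (V := F)
    rw [ZMod.card, hq] at this
    exact (Nat.pow_right_injective (le_refl 2 |>.trans (by norm_num)) this).symm
  have hfr : ∀ (i : ℕ) (c : F),
      ((FiniteField.frobeniusAlgEquivOfAlgebraic (ZMod 3) F) ^ i) c = c ^ 3 ^ i := by
    intro i
    induction i with
    | zero => intro c; simp
    | succ i ih =>
      intro c
      rw [pow_succ', AlgEquiv.mul_apply, ih, FiniteField.coe_frobeniusAlgEquivOfAlgebraic, ZMod.card]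
      show (c ^ 3 ^ i) ^ 3 = _
      rw [← pow_mul, ← pow_succ]
  rw [← hr, ← FiniteField.orderOf_frobeniusAlgEquivOfAlgebraic (K := ZMod 3) (L := F)]
  exact orderOf_dvd_of_pow_eq_one (AlgEquiv.ext fun c => by rw [hfr, h]; rfl)

/-- A semilinear map is a power of the Frobenius up to a factor. -/
theorem exists_frobenius_exp {F : Type*} [Field F] [Fintype F] [CharP F 3] {μ : F} {e : ℕ}
    (hμ : ∀ L : Subfield F, μ ∈ L → L = ⊤) (f : F →+ F) (hf : Function.Injective f)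
    (h : ∀ x, f (μ * x) = μ ^ e * f x) : ∃ j : ℕ, ∀ c x, f (c * x) = c ^ 3 ^ j * f x := by
  classical
  haveI : Fact (Nat.Prime 3) := ⟨Nat.prime_three⟩
  let R : Subring F :=
    { carrier := {c | ∃ c', ∀ x, f (c * x) = c' * f x}
      mul_mem' := fun {a b} ⟨a', ha⟩ ⟨b', hb⟩ => ⟨a' * b', fun x => by rw [mul_assoc, ha, hb, mul_assoc]⟩
      one_mem' := ⟨1, fun x => by rw [one_mul, one_mul]⟩
      add_mem' := fun {a b} ⟨a', ha⟩ ⟨b', hb⟩ => ⟨a' + b', fun x => by rw [add_mul, map_add, ha, hb, add_mul]⟩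
      zero_mem' := ⟨0, fun x => by rw [zero_mul, map_zero, zero_mul]⟩
      neg_mem' := fun {a} ⟨a', ha⟩ => ⟨-a', fun x => by rw [neg_mul, map_neg, ha, neg_mul]⟩ }
  have hinv : ∀ a ∈ R, a⁻¹ ∈ R := fun a ha => by
    by_cases h0 : a = 0
    · rw [h0, inv_zero]; exact zero_mem _
    have h1 := Fintype.one_lt_card (α := F)
    rw [show a⁻¹ = a ^ (Fintype.card F - 2) by
      refine (eq_inv_of_mul_eq_one_left ?_).symm
      rw [← pow_succ, show Fintype.card F - 2 + 1 = Fintype.card F - 1 by omega,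
        FiniteField.pow_card_sub_one_eq_one a h0]]
    exact pow_mem ha _
  have hall : ∀ c, ∃ c', ∀ x, f (c * x) = c' * f x := fun c => by
    have htop : ({ R with inv_mem' := hinv } : Subfield F) = ⊤ := hμ _ ⟨μ ^ e, h⟩
    exact (htop ▸ Subfield.mem_top c : c ∈ ({ R with inv_mem' := hinv } : Subfield F))
  choose σ hσ using hall
  have h1 : f 1 ≠ 0 := fun e0 => one_ne_zero (hf (e0.trans (map_zero f).symm))
  have huniq : ∀ c c', (∀ x, f (c * x) = c' * f x) → σ c = c' := fun c c' hc =>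
    mul_right_cancel₀ h1 ((hσ c 1).symm.trans (hc 1))
  letI := ZMod.algebra F 3
  let s : F →+* F :=
    { toFun := σ
      map_one' := huniq 1 1 fun x => by rw [one_mul, one_mul]
      map_mul' := fun a b => huniq _ _ fun x => by rw [mul_assoc, hσ, hσ, mul_assoc]
      map_zero' := huniq 0 0 fun x => by rw [zero_mul, map_zero, zero_mul]
      map_add' := fun a b => huniq _ _ fun x => by rw [add_mul, map_add, hσ, hσ, add_mul] }
  let sa : F →ₐ[ZMod 3] F := { s with commutes' := fun r => RingHom.congr_fun (RingHom.ext_zmod (s.comp (algebraMap (ZMod 3) F)) (algebraMap (ZMod 3) F)) r }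
  obtain ⟨j, hj⟩ := (FiniteField.bijective_frobeniusAlgHom_pow (ZMod 3) F).2 sa
  refine ⟨j, fun c x => ?_⟩
  have hfr : ∀ (i : ℕ) (c : F), ((FiniteField.frobeniusAlgHom (ZMod 3) F) ^ i) c = c ^ 3 ^ i := by
    intro i
    induction i with
    | zero => intro c; simp
    | succ i ih =>
      intro c
      rw [pow_succ', AlgHom.mul_apply, ih, FiniteField.coe_frobeniusAlgHom, ZMod.card]
      show (c ^ 3 ^ i) ^ 3 = _
      rw [← pow_mul, ← pow_succ]
  rw [hσ, ← hfr (j : ℕ) c]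
  exact congrArg (· * f x) (DFunLike.congr_fun hj c).symm

variable (Φ : Frame G)

/-- A Borel subgroup exists when `D` is a nontrivial `3`-group and `3 ∣ q`. -/
theorem exists_borelD (hD : Φ.D ≠ ⊥) (hthree : ∀ l : ℕ, l.Prime → l ∣ Nat.card Φ.D → l = 3)
    (h3 : 3 ∣ Fintype.card Φ.F) : Nonempty (Borel Φ) := by
  classical
  haveI : Fact (Nat.Prime 3) := ⟨Nat.prime_three⟩
  obtain ⟨p, hp⟩ := CharP.exists Φ.F
  obtain ⟨⟨n, hn0⟩, hpp, hpn⟩ := FiniteField.card Φ.F p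
  replace hpn : Fintype.card Φ.F = p ^ n := hpn
  obtain rfl : p = 3 := ((Nat.prime_dvd_prime_iff_eq Nat.prime_three hpp).1
    (Nat.prime_three.dvd_of_dvd_pow (hpn ▸ h3))).symm
  set q := Fintype.card Φ.F with hq
  have hnodd : Odd n := by
    rcases Nat.even_or_odd n with ⟨i, rfl⟩ | h
    · exfalso
      have : q % 8 = 1 := by rw [hpn, ← two_mul, pow_mul, Nat.pow_mod]; norm_num
      have := Φ.mod_eight
      omega
    · exact h
  have hq4 : q % 4 = 3 := by
    obtain ⟨i, rfl⟩ := hnodd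
    rw [hpn, pow_succ, pow_mul, Nat.mul_mod, Nat.pow_mod]
    norm_num
  -- the order of `D`
  haveI := Φ.D_cyc
  obtain ⟨a, b, hb, hcard⟩ := Nat.exists_eq_pow_mul_and_not_dvd (Nat.card_pos (α := Φ.D)).ne' 3 (by norm_num)
  have hb1 : b = 1 := by
    by_contra hne
    obtain ⟨l, hl, hlb⟩ := Nat.exists_prime_and_dvd hne
    exact hb (hthree l hl (hcard ▸ hlb.mul_left _) ▸ hlb)
  rw [hb1, mul_one] at hcard
  have ha : 1 ≤ a := Nat.one_le_iff_ne_zero.2 fun h0 => hD (Subgroup.card_eq_one.1 (by rw [hcard, h0, pow_zero]))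
  obtain ⟨F₁, _, _, hF₁, ⟨e₁⟩⟩ := Φ.cent_sub (le_refl Φ.D)
  obtain ⟨g, -, hg⟩ := (Nat.dvd_prime_pow Nat.prime_three).1 (show Fintype.card F₁ ∣ 3 ^ n from
    hpn ▸ hq ▸ hF₁ ▸ dvd_pow_self _ Nat.card_pos.ne')
  have hng : n = 3 ^ a * g := by
    rw [hg, hcard, ← pow_mul, ← hq, hpn] at hF₁
    rw [mul_comm]
    exact (Nat.pow_right_injective (by norm_num) hF₁).symm
  have hn3 : 3 ≤ n := Nat.le_of_dvd hn0 (hng ▸ (dvd_pow_self 3 (by omega)).mul_right g)
  -- the element fixed by `D`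
  obtain ⟨x₀, hx₀⟩ := exists_prime_orderOf_dvd_card' (G := ↥(Φ.K ⊓ centralizer (Φ.D : Set G))) 3 (by
    rw [Nat.card_congr e₁.toEquiv]
    refine BGroup.FieldKill.three_dvd_card_psl ?_
    exact Φ.two_ne.of_dvd_nat (hF₁ ▸ dvd_pow_self _ Nat.card_pos.ne'))
  obtain ⟨x₀K, hx₀D⟩ := mem_inf.1 x₀.2
  -- the unipotent subgroup
  let U : Subgroup Φ.K := (PslB.pU (F := Φ.F)).range.comap Φ.e.toMonoidHom
  have hcardU : Nat.card U = q := by
    show Nat.card ((PslB.pU (F := Φ.F)).range.comap Φ.e.toMonoidHom) = q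
    rw [show Nat.card ((PslB.pU (F := Φ.F)).range.comap Φ.e.toMonoidHom) = Nat.card (PslB.pU (F := Φ.F)).range
        from Nat.card_congr (Φ.e.toEquiv.subtypeEquiv fun _ => Iff.rfl),
      ← Nat.card_congr (MonoidHom.ofInjective PslB.pU_injective).toEquiv, Nat.card_congr Multiplicative.toAdd,
      Nat.card_eq_fintype_card]
  have hKcard : 2 * Nat.card Φ.K = q * ((q - 1) * (q + 1)) := by
    rw [Nat.card_congr Φ.e.toEquiv]
    exact BGroup.FieldKill.two_mul_card_psl Φ.two_ne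
  have hnd : ¬ 3 ∣ (q - 1) * (q + 1) := by
    obtain ⟨c, hc⟩ := h3
    have h5 := Φ.five_le
    intro hd
    rcases Nat.prime_three.dvd_mul.1 hd with h | h <;> omega
  have hUidx : ¬ 3 ∣ U.index := by
    intro hd
    have h := U.card_mul_index
    rw [hcardU] at h
    refine hnd ?_
    have : 2 * U.index = (q - 1) * (q + 1) := Nat.eq_of_mul_eq_mul_left Fintype.card_pos (by
      rw [← hKcard, ← h]; ring)
    exact this ▸ hd.mul_left 2
  let US : Sylow 3 Φ.K := (IsPGroup.of_card (p := 3) (n := n) (hcardU.trans hpn) : IsPGroup 3 U).toSylow hUidx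
  have hx₀o : orderOf (⟨x₀, x₀K⟩ : Φ.K) = 3 := by rw [Subgroup.orderOf_mk, Subgroup.orderOf_coe, hx₀]
  obtain ⟨k₀, hk₀⟩ := Invol.exists_conj_le_sylow
    (IsPGroup.of_card (p := 3) (n := 1) (by rw [Nat.card_zpowers, pow_one, hx₀o]) :
      IsPGroup 3 (zpowers (⟨x₀, x₀K⟩ : Φ.K))) US
  let e' : Φ.K ≃* Matrix.ProjectiveSpecialLinearGroup (Fin 2) Φ.F := (MulAut.conj k₀).trans Φ.e
  let ι : Multiplicative Φ.F →* G := Φ.K.subtype.comp (e'.symm.toMonoidHom.comp PslB.pU)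
  have hι : ∀ x, e' ⟨ι x, (e'.symm (PslB.pU x)).2⟩ = PslB.pU x := fun x => e'.apply_symm_apply _
  have hrange : ∀ k : Φ.K, e' k ∈ (PslB.pU (F := Φ.F)).range → (k : G) ∈ ι.range := by
    rintro k ⟨y, hy⟩
    exact ⟨y, show ((e'.symm (PslB.pU y) : Φ.K) : G) = k by rw [hy, e'.symm_apply_apply]⟩
  have hrange' : ∀ k : Φ.K, (k : G) ∈ ι.range → e' k ∈ (PslB.pU (F := Φ.F)).range := by
    rintro k ⟨y, hy⟩
    exact ⟨y, by rw [show k = e'.symm (PslB.pU y) from Subtype.ext hy.symm, e'.apply_symm_apply]⟩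
  -- the torus
  obtain ⟨ν, hν⟩ := IsCyclic.exists_generator (α := Φ.Fˣ)
  let w : G := ((e'.symm (PslB.pD ν) : Φ.K) : G)
  set μ : Φ.F := ((ν : Φ.F)) ^ 2 with hμdef
  have hνord : orderOf ν = q - 1 := by
    rw [orderOf_eq_card_of_forall_mem_zpowers hν, Nat.card_units, Nat.card_eq_fintype_card]
  have hμord : ∀ c : ℕ, μ ^ c = 1 → (q - 1) ∣ 2 * c := fun c hc => by
    rw [← hνord]
    refine orderOf_dvd_of_pow_eq_one (Units.ext ?_)
    rw [Units.val_pow_eq_pow_val, pow_mul]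
    exact hc
  have hμgen : ∀ c, 1 ≤ c → c ≤ n → ∀ L : Subfield Φ.F, μ ^ c ∈ L → L = ⊤ := by
    intro c hc1 hcn L hL
    haveI : Fintype L := Fintype.ofFinite _
    obtain ⟨j, -, hj⟩ : ∃ j, j ≤ n ∧ Fintype.card L = 3 ^ j := by
      haveI : CharP L 3 := inferInstance
      obtain ⟨⟨j, hj0⟩, -, hjc⟩ := FiniteField.card L 3
      refine ⟨j, ?_, hjc⟩
      have : Fintype.card L ≤ q := Fintype.card_le_of_injective _ Subtype.val_injective
      rw [hjc, hpn] at this
      exact (Nat.pow_le_pow_iff_right (by norm_num)).1 this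
    have hdeg : Module.finrank L Φ.F * j = n := by
      have h := Module.card_eq_pow_finrank (K := L) (V := Φ.F)
      rw [hj, ← hq, hpn, ← pow_mul, mul_comm] at h
      exact (Nat.pow_right_injective (by norm_num) h).symm
    set r := Module.finrank L Φ.F with hr
    have hr0 : 0 < r := Module.finrank_pos
    rcases (show r = 1 ∨ 3 ≤ r by
      have : Odd r := hnodd.of_dvd_nat ⟨j, hdeg.symm⟩
      obtain ⟨i, hi⟩ := this
      omega) with hr1 | hr3
    · rw [hr1, one_mul] at hdeg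
      refine eq_top_iff.2 fun x _ => ?_
      have hsurj : Function.Surjective (Subtype.val : L → Φ.F) :=
        ((Fintype.bijective_iff_injective_and_card _).2 ⟨Subtype.val_injective, by rw [hj, hdeg, ← hq, hpn]⟩).2
      obtain ⟨y, rfl⟩ := hsurj x
      exact y.2
    exfalso
    have hμc : (⟨μ ^ c, hL⟩ : L) ≠ 0 := fun e0 => pow_ne_zero c (pow_ne_zero 2 ν.ne_zero) (congrArg Subtype.val e0)
    have h1 : (μ ^ c) ^ (3 ^ j - 1) = 1 := by
      have := congrArg Subtype.val (FiniteField.pow_card_sub_one_eq_one _ hμc)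
      rwa [hj] at this
    rw [← pow_mul] at h1
    have h2 := hμord _ h1
    rw [hpn] at h2
    have hj1 : 1 ≤ j := Nat.pos_of_ne_zero fun e0 => by rw [e0, mul_zero] at hdeg; omega
    have h3j : 3 ≤ 3 ^ j := by
      calc 3 = 3 ^ 1 := (pow_one 3).symm
        _ ≤ 3 ^ j := Nat.pow_le_pow_right (by norm_num) hj1
    have hle := Nat.le_of_dvd (Nat.mul_pos two_pos (Nat.mul_pos hc1 (by omega))) h2
    -- `3 ^ n` is too large
    have hmn : ∀ i, 3 ≤ i → 2 * i < 3 ^ (i - 1) := by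
      intro i hi
      induction i, hi using Nat.le_induction with
      | base => norm_num
      | succ i hi ih =>
        rw [show i + 1 - 1 = i - 1 + 1 by omega, pow_succ]
        omega
    have h5 : 2 * (c * (3 ^ j - 1)) ≤ 2 * n * (3 ^ j - 1) := by
      rw [mul_assoc]; exact Nat.mul_le_mul_left 2 (Nat.mul_le_mul_right _ hcn)
    have h6 : 2 * n * 3 ^ j < 3 ^ n := by
      have hsplit : 3 ^ (3 * j) ≤ 3 ^ n := Nat.pow_le_pow_right (by norm_num)
        (by rw [← hdeg]; exact Nat.mul_le_mul_right j hr3)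
      have h7 : 3 * (n - j) ≥ 2 * n := by
        have : 3 * j ≤ n := by rw [← hdeg]; exact Nat.mul_le_mul_right j hr3
        omega
      have h8 : 2 * n < 3 ^ (n - j) := by
        have h9 : 3 * j ≤ n := by rw [← hdeg]; exact Nat.mul_le_mul_right j hr3
        have h10 := hmn (n - j + 1) (by omega)
        rw [Nat.add_sub_cancel] at h10
        rcases Nat.lt_or_ge n 9 with hlt | hge
        · interval_cases n <;> first | omega | (have : j ≤ 2 := by omega
                                                interval_cases j <;> first | omega | norm_num)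
        · -- `2 n ≤ 3 (n - j) ≤ 3 ^ (n - j)`
          have hexp : ∀ i, 3 ≤ i → 3 * i < 3 ^ i := by
            intro i hi
            induction i, hi using Nat.le_induction with
            | base => norm_num
            | succ i hi ih => rw [pow_succ]; omega
          have := hexp (n - j) (by omega)
          omega
      calc 2 * n * 3 ^ j < 3 ^ (n - j) * 3 ^ j := Nat.mul_lt_mul_of_pos_right h8 (by positivity)
        _ = 3 ^ n := by rw [← pow_add, Nat.sub_add_cancel (by omega)]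
    have h11 : 2 * n * (3 ^ j - 1) + 2 * n = 2 * n * 3 ^ j := by
      rw [← Nat.mul_succ, Nat.succ_eq_add_one, Nat.sub_add_cancel (by omega)]
    omega
  have hwact : ∀ x, w * ι (Multiplicative.ofAdd x) * w⁻¹ = ι (Multiplicative.ofAdd (μ * x)) := fun x => by
    show ((e'.symm (PslB.pD ν) * e'.symm (PslB.pU (Multiplicative.ofAdd x)) * (e'.symm (PslB.pD ν))⁻¹ : Φ.K) : G) =
      ((e'.symm (PslB.pU (Multiplicative.ofAdd (μ * x))) : Φ.K) : G)
    rw [← map_inv, ← map_mul, ← map_mul, PslB.pD_conj]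
  have hιinj : Function.Injective ι :=
    Φ.K.subtype_injective.comp (e'.symm.injective.comp PslB.pU_injective)
  have hDpow : ∀ c : Φ.Fˣ, ∃ i : ℕ, PslB.pD c = PslB.pD ν ^ i := fun c => by
    obtain ⟨i, hi⟩ := (isOfFinOrder_of_finite ν).mem_powers_iff_mem_zpowers.2 (hν c)
    exact ⟨i, by rw [← map_pow]; exact congrArg _ hi.symm⟩
  have hnorm : ∀ k ∈ Φ.K, ∀ x, x ≠ 1 → k * ι x * k⁻¹ ∈ ι.range → ∃ y, ∃ i : ℕ, k = ι y * w ^ i := by
    intro k hk x hx hkx
    have h : e' (⟨k, hk⟩ * e'.symm (PslB.pU x) * (⟨k, hk⟩ : Φ.K)⁻¹) ∈ (PslB.pU (F := Φ.F)).range :=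
      hrange' _ hkx
    rw [map_mul, map_mul, map_inv, e'.apply_symm_apply] at h
    obtain ⟨x', rfl⟩ := Multiplicative.ofAdd.surjective x
    obtain ⟨y, c, hyc⟩ := PslB.eq_mul_of_conj_mem (x := x') (fun e0 => hx (by rw [e0, ofAdd_zero])) h
    obtain ⟨i, hi⟩ := hDpow c
    refine ⟨y, i, ?_⟩
    have : (⟨k, hk⟩ : Φ.K) = e'.symm (PslB.pU y) * e'.symm (PslB.pD ν) ^ i := e'.injective (by
      rw [map_mul, map_pow, e'.apply_symm_apply, e'.apply_symm_apply, hyc, hi])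
    exact congrArg Subtype.val this
  have horder : orderOf w = (q - 1) / 2 := by
    have hw2 : ∀ i : ℕ, w ^ i = 1 ↔ μ ^ i = 1 := by
      intro i
      constructor
      · intro hi
        have hit : ∀ j : ℕ, w ^ j * ι (Multiplicative.ofAdd 1) * (w ^ j)⁻¹ = ι (Multiplicative.ofAdd (μ ^ j)) := by
          intro j
          induction j with
          | zero => simp
          | succ j ih =>
            rw [show w ^ (j + 1) * ι (Multiplicative.ofAdd 1) * (w ^ (j + 1))⁻¹ =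
              w * (w ^ j * ι (Multiplicative.ofAdd 1) * (w ^ j)⁻¹) * w⁻¹ by rw [pow_succ']; group, ih, hwact,
              pow_succ']
        have h := hit i
        rw [hi, one_mul, inv_one, mul_one] at h
        exact (Multiplicative.ofAdd.injective (hιinj h)).symm
      · intro hi
        have hc : ((ν : Φ.F) ^ i) * ((ν : Φ.F) ^ i) = 1 := by rw [← pow_add, ← two_mul, pow_mul, ← hμdef]; exact hi
        have : PslB.pD ν ^ i = 1 := by
          rw [← map_pow]
          refine (QuotientGroup.eq_one_iff _).2 (Matrix.SpecialLinearGroup.mem_center_iff.2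
            ⟨(ν : Φ.F) ^ i, by simpa [pow_two] using hc, ?_⟩)
          have hinv : (((ν ^ i)⁻¹ : Φ.Fˣ) : Φ.F) = (ν : Φ.F) ^ i := by
            rw [Units.val_inv_eq_inv_val, Units.val_pow_eq_pow_val]; exact inv_eq_of_mul_eq_one_left hc
          ext r s
          fin_cases r <;> fin_cases s <;> simp [PslB.slD_val, inv_pow, inv_eq_of_mul_eq_one_left hc]
        show ((e'.symm (PslB.pD ν) : Φ.K) : G) ^ i = 1
        rw [← Subgroup.coe_pow, ← map_pow, this, map_one, Subgroup.coe_one]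
    refine (orderOf_eq_orderOf_iff.2 hw2).trans ?_
    rw [hμdef, orderOf_pow' _ two_ne_zero, orderOf_units, hνord,
      Nat.gcd_eq_right (show 2 ∣ q - 1 by omega)]
  -- `D` normalizes the unipotent subgroup
  have hcent : ∀ k ∈ Φ.K, ∀ x, x ≠ 1 → Commute k (ι x) → k ∈ ι.range := by
    intro k hk x hx hc
    have hc' : Commute (e' ⟨k, hk⟩) (PslB.pU x) := by
      rw [← hι x]
      exact (show Commute (⟨k, hk⟩ : Φ.K) ⟨ι x, (e'.symm (PslB.pU x)).2⟩ from Subtype.ext hc.eq).map e'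
    obtain ⟨x', rfl⟩ := Multiplicative.ofAdd.surjective x
    exact hrange ⟨k, hk⟩ (PslB.cent (fun e0 => hx (by rw [e0, ofAdd_zero])) hc')
  obtain ⟨z₀, hz₀⟩ : (x₀ : G) ∈ ι.range := by
    refine hrange ⟨x₀, x₀K⟩ ?_
    exact hk₀ ⟨x₀, x₀K⟩ (mem_zpowers _)
  have hz₀1 : z₀ ≠ 1 := fun e0 => by
    rw [e0, map_one] at hz₀
    rw [← Subgroup.orderOf_coe, ← hz₀, orderOf_one] at hx₀
    exact absurd hx₀ (by norm_num)
  have hfix : ∀ e ∈ Φ.D, Commute e (ι z₀) := fun e he => hz₀ ▸ mem_centralizer_iff.1 hx₀D e he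
  have hDn : ∀ e ∈ Φ.D, ∀ x, ∃ y, e * ι x * e⁻¹ = ι y := by
    intro e he x
    have hK : e * ι x * e⁻¹ ∈ Φ.K := Φ.K_conj (Φ.D_comm_t he) (e'.symm (PslB.pU x)).2
    obtain ⟨y, hy⟩ := hcent _ hK z₀ hz₀1 (by
      have h := ((Commute.all x z₀).map ι).map (MulAut.conj e)
      rwa [MulAut.conj_apply, MulAut.conj_apply, (hfix e he).eq, mul_inv_cancel_right] at h)
    exact ⟨y, hy.symm⟩
  obtain ⟨z, hz⟩ := IsCyclic.exists_generator (α := Φ.D)
  have hzord : orderOf (z : G) = 3 ^ a := by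
    rw [Subgroup.orderOf_coe, orderOf_eq_card_of_forall_mem_zpowers hz, hcard]
  choose φ hφ using hDn (z : G) z.2
  let f : Φ.F →+ Φ.F := AddMonoidHom.mk' (fun x => Multiplicative.toAdd (φ (Multiplicative.ofAdd x)))
    fun x y => by
      refine Multiplicative.ofAdd.injective (hιinj ?_)
      rw [ofAdd_add (Multiplicative.toAdd _), map_mul, ofAdd_toAdd, ofAdd_toAdd, ofAdd_toAdd, ← hφ, ← hφ, ← hφ,
        ofAdd_add, map_mul]
      group
  have hf : ∀ x, (z : G) * ι (Multiplicative.ofAdd x) * (z : G)⁻¹ = ι (Multiplicative.ofAdd (f x)) := fun x => hφ _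
  have hfinj : Function.Injective f := fun x y hxy => by
    have h := hf x
    rw [hxy, ← hf y] at h
    exact Multiplicative.ofAdd.injective (hιinj (mul_left_cancel (mul_right_cancel h)))
  obtain ⟨y₁, e₁', hy₁⟩ := hnorm _ (Φ.K_conj (Φ.D_comm_t z.2) (e'.symm (PslB.pD ν)).2) z₀ hz₀1 (by
    have h := hfix (z : G) z.2
    have e1 : (z : G) * w * (z : G)⁻¹ * ι z₀ * ((z : G) * w * (z : G)⁻¹)⁻¹ = z * (w * ι z₀ * w⁻¹) * (z : G)⁻¹ := by
      rw [show (z : G) * w * (z : G)⁻¹ * ι z₀ * ((z : G) * w * (z : G)⁻¹)⁻¹ =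
        z * (w * ((z : G)⁻¹ * (ι z₀ * z)) * w⁻¹) * (z : G)⁻¹ by group, ← h.eq, inv_mul_cancel_left]
    obtain ⟨x', rfl⟩ := Multiplicative.ofAdd.surjective z₀
    rw [e1, hwact, hφ]
    exact ⟨_, rfl⟩)
  have hwe : ∀ x, f (μ * x) = μ ^ e₁' * f x := fun x => by
    have hit : ∀ (j : ℕ) (y : Φ.F), w ^ j * ι (Multiplicative.ofAdd y) * (w ^ j)⁻¹ =
        ι (Multiplicative.ofAdd (μ ^ j * y)) := by
      intro j
      induction j with
      | zero => simp
      | succ j ih =>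
        intro y
        rw [show w ^ (j + 1) * ι (Multiplicative.ofAdd y) * (w ^ (j + 1))⁻¹ =
          w * (w ^ j * ι (Multiplicative.ofAdd y) * (w ^ j)⁻¹) * w⁻¹ by rw [pow_succ']; group, ih, hwact,
          pow_succ', mul_assoc]
    refine Multiplicative.ofAdd.injective (hιinj ?_)
    rw [← hf, ← hwact, show (z : G) * (w * ι (Multiplicative.ofAdd x) * w⁻¹) * (z : G)⁻¹ =
      ((z : G) * w * (z : G)⁻¹) * ((z : G) * ι (Multiplicative.ofAdd x) * (z : G)⁻¹) *
        ((z : G) * w * (z : G)⁻¹)⁻¹ by group, hf, show ((z : G) * w * (z : G)⁻¹) = ι y₁ * w ^ e₁' from hy₁,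
      show ι y₁ * w ^ e₁' * ι (Multiplicative.ofAdd (f x)) * (ι y₁ * w ^ e₁')⁻¹ =
        ι y₁ * (w ^ e₁' * ι (Multiplicative.ofAdd (f x)) * (w ^ e₁')⁻¹) * (ι y₁)⁻¹ by group, hit,
      ← map_inv, ← map_mul, ← map_mul, mul_comm y₁, mul_inv_cancel_right]
  obtain ⟨j, hj⟩ := exists_frobenius_exp (e := e₁') (fun L hL => hμgen 1 le_rfl (by omega) L (by rwa [pow_one]))
    f hfinj hwe
  have hiter : ∀ (i : ℕ) (x : Φ.F), (z : G) ^ i * ι (Multiplicative.ofAdd x) * ((z : G) ^ i)⁻¹ =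
      ι (Multiplicative.ofAdd (f^[i] x)) ∧ ∀ c, f^[i] (c * x) = c ^ 3 ^ (j * i) * f^[i] x := by
    intro i
    induction i with
    | zero => intro x; simp
    | succ i ih =>
      intro x
      refine ⟨?_, fun c => ?_⟩
      · rw [Function.iterate_succ_apply', ← hf, ← (ih x).1, pow_succ']; group
      · rw [Function.iterate_succ_apply', (ih x).2 c, hj, ← Function.iterate_succ_apply' f, ← pow_mul, ← pow_add,
          Nat.mul_succ]
  have hf1 : ∀ i, f^[i] (1 : Φ.F) ≠ 0 := fun i e0 =>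
    one_ne_zero (α := Φ.F) (hfinj.iterate i (e0.trans (iterate_map_zero f i).symm))
  have hdvd : n ∣ j * 3 ^ a := by
    refine dvd_of_forall_pow (F := Φ.F) hpn fun c => ?_
    have hid : ∀ x, f^[3 ^ a] x = x := fun x => by
      have h := (hiter (3 ^ a) x).1
      rw [← hzord, pow_orderOf_eq_one, one_mul, inv_one, mul_one] at h
      exact (Multiplicative.ofAdd.injective (hιinj (h.trans (by rw [hzord])))).symm
    have h := (hiter (3 ^ a) 1).2 c
    rwa [hid, hid, mul_one, mul_one, eq_comm] at h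
  obtain ⟨u, rfl⟩ : g ∣ j := by
    rw [hng, mul_comm j] at hdvd
    exact Nat.dvd_of_mul_dvd_mul_left (by positivity) hdvd
  have hu : ¬ 3 ∣ u := by
    intro hu3
    obtain ⟨u', rfl⟩ := hu3
    set i := 3 ^ (a - 1) with hi
    have hi3 : 3 * i = 3 ^ a := by rw [hi, ← pow_succ', Nat.sub_add_cancel ha]
    have hlin : ∀ c x, f^[i] (c * x) = c * f^[i] x := fun c x => by
      rw [(hiter i x).2 c, sq_pow_eq hpn c, show g * (3 * u') * i = n * u' by rw [hng, ← hi3]; ring,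
        Nat.mul_mod_right, pow_zero, pow_one]
    have hν1 : f^[i] (1 : Φ.F) = 1 := by
      have h3i : f^[3 * i] (1 : Φ.F) = 1 := by
        have h := (hiter (3 * i) 1).1
        rw [hi3, ← hzord, pow_orderOf_eq_one, one_mul, inv_one, mul_one, hzord, ← hi3] at h
        exact (Multiplicative.ofAdd.injective (hιinj h)).symm
      set r := f^[i] (1 : Φ.F) with hr
      have e1 : ∀ x, f^[i] x = x * r := fun x => by rw [← hlin, mul_one]
      rw [show 3 * i = i + (i + i) by omega, Function.iterate_add_apply, Function.iterate_add_apply, e1, e1, ← hr]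
        at h3i
      haveI : ExpChar Φ.F 3 := ExpChar.prime Nat.prime_three
      have h1 : (r - 1) ^ 3 = 0 := by rw [sub_pow_expChar, one_pow, sub_eq_zero, ← h3i]; ring
      exact sub_eq_zero.1 (eq_zero_of_pow_eq_zero h1)
    have hdle : Φ.D.subtype (z ^ i) ∈ Φ.D := (z ^ i).2
    obtain ⟨F₂, _, _, hF₂, ⟨e₂⟩⟩ := Φ.cent ((z : G) ^ i) (pow_mem z.2 _)
    have hzi : orderOf ((z : G) ^ i) = 3 := by
      rw [orderOf_pow, hzord, Nat.gcd_eq_right ⟨3, by rw [← hi3]; ring⟩, ← hi3, Nat.mul_div_cancel _ (by positivity)]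
    rw [hzi, ← hq, hpn] at hF₂
    obtain ⟨b', -, hb'⟩ := (Nat.dvd_prime_pow Nat.prime_three).1
      (show Fintype.card F₂ ∣ 3 ^ n from hF₂ ▸ dvd_pow_self _ (by norm_num))
    rw [hb', ← pow_mul] at hF₂
    have hnb : b' * 3 = n := Nat.pow_right_injective (by norm_num) hF₂
    have hle : ι.range ≤ Φ.K ⊓ centralizer ({(z : G) ^ i} : Set G) := by
      rintro _ ⟨x, rfl⟩
      obtain ⟨x', rfl⟩ := Multiplicative.ofAdd.surjective x
      refine mem_inf.2 ⟨(e'.symm (PslB.pU _)).2, mem_centralizer_singleton_iff.2 ?_⟩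
      have h := (hiter i x').1
      rw [show f^[i] x' = x' by rw [← mul_one x', hlin, hν1]] at h
      exact ((mul_inv_eq_iff_eq_mul.1 h).symm : _)
    have h := card_dvd_of_le hle
    rw [← Nat.card_congr (MonoidHom.ofInjective hιinj).toEquiv, Nat.card_congr Multiplicative.toAdd,
      Nat.card_eq_fintype_card, ← hq, hpn, Nat.card_congr e₂.toEquiv] at h
    have h2 := h.mul_left 2
    rw [BGroup.FieldKill.two_mul_card_psl (Φ.two_ne.of_dvd_nat (hq ▸ hpn ▸ hb' ▸ pow_dvd_pow 3 (by omega))),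
      hb'] at h2
    have hcop : (3 ^ n).Coprime ((3 ^ b' - 1) * (3 ^ b' + 1)) := by
      refine Nat.Coprime.pow_left n (Nat.prime_three.coprime_iff_not_dvd.2 fun hd => ?_)
      obtain ⟨e3, he3⟩ := dvd_pow_self 3 (show b' ≠ 0 by omega)
      have : 1 ≤ 3 ^ b' := Nat.one_le_pow _ _ (by norm_num)
      rcases Nat.prime_three.dvd_mul.1 hd with h' | h' <;> omega
    have h3 := hcop.dvd_of_dvd_mul_right h2
    have := (Nat.pow_dvd_pow_iff_le_right (by norm_num : 1 < 3)).1 h3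
    omega
  obtain ⟨v, hv⟩ : ∃ v, u * v % 3 ^ a = 1 := by
    obtain ⟨v, hv⟩ := Nat.exists_mul_mod_eq_one_of_coprime
      ((Nat.prime_three.coprime_iff_not_dvd.2 hu).symm.pow_right a) (Nat.one_lt_pow (by omega) (by norm_num))
    exact ⟨v, hv.2⟩
  have hv3 : ¬ 3 ∣ v := fun hd => by
    have h1 := (Nat.dvd_mod_iff (dvd_pow_self 3 (show a ≠ 0 by omega))).2 (hd.mul_left u)
    rw [hv] at h1
    norm_num at h1
  have hdord : orderOf ((z : G) ^ v) = 3 ^ a := by
    rw [orderOf_pow, hzord,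
      Nat.Coprime.gcd_eq_one ((Nat.prime_three.coprime_iff_not_dvd.2 hv3).pow_left a), Nat.div_one]
  refine ⟨{
    n := n, g := g, a := a, hq := hpn, n_eq := hng, a_pos := ha, n_odd := hnodd, char := hp
    ι := ι, ι_inj := hιinj, ι_mem := fun x => (e'.symm (PslB.pU x)).2
    w := w, w_mem := (e'.symm (PslB.pD ν)).2
    μ := μ, μ_ne := pow_ne_zero 2 ν.ne_zero, μ_gen := hμgen, w_act := hwact, order_w := horder
    cent := hcent, norm := hnorm
    no_invol := ?_, exists_invol := ?_, sylow := ?_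
    d := (z : G) ^ v, d_mem := pow_mem z.2 v
    d_gen := eq_of_le_of_card_ge (zpowers_le.2 (pow_mem z.2 v)) (by rw [Nat.card_zpowers, hdord, hcard])
    d_order := hdord
    f := fun x => f^[v] x, d_act := fun x => (hiter v x).1
    f_semi := fun c x => ?_
    fixed := ⟨z₀, hz₀1, hfix⟩ }⟩
  · intro k hk x hx hkx hk2
    obtain ⟨y, i, rfl⟩ := hnorm k hk x hx hkx
    have hm : e' ⟨ι y * w ^ i, hk⟩ = PslB.pU y * PslB.pD (ν ^ i) := by
      rw [show (⟨ι y * w ^ i, hk⟩ : Φ.K) = e'.symm (PslB.pU y) * e'.symm (PslB.pD ν) ^ i from rfl, map_mul,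
        map_pow, e'.apply_symm_apply, e'.apply_symm_apply, map_pow]
    have h1 : PslB.pU y * PslB.pD (ν ^ i) * (PslB.pU y * PslB.pD (ν ^ i)) = 1 := by
      rw [← hm, ← map_mul, show (⟨ι y * w ^ i, hk⟩ : Φ.K) * ⟨ι y * w ^ i, hk⟩ = 1 from Subtype.ext hk2, map_one]
    exact congrArg Subtype.val (e'.map_eq_one_iff.1 (hm.trans (PslB.eq_one_of_sq hq4 h1)))
  · intro k hk hne
    obtain ⟨y, hy1, hy2⟩ := PslB.exists_invol (p := e' ⟨k, hk⟩) fun y c hc => by
      obtain ⟨i, hi⟩ := hDpow c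
      refine hne y i (congrArg Subtype.val (e'.injective (a₁ := ⟨k, hk⟩)
        (a₂ := e'.symm (PslB.pU y) * e'.symm (PslB.pD ν) ^ i) ?_))
      rw [map_mul, map_pow, e'.apply_symm_apply, e'.apply_symm_apply, hc, hi]
    refine ⟨y, Multiplicative.ofAdd 1, ?_⟩
    have hm : e' (e'.symm (PslB.pU y) * (⟨k, hk⟩ * e'.symm (PslB.pU (Multiplicative.ofAdd 1)) * ⟨k, hk⟩⁻¹)) =
        PslB.pU y * (e' ⟨k, hk⟩ * PslB.pU (Multiplicative.ofAdd 1) * (e' ⟨k, hk⟩)⁻¹) := by
      simp only [map_mul, map_inv, e'.apply_symm_apply]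
    show orderOf ((e'.symm (PslB.pU y) *
      (⟨k, hk⟩ * e'.symm (PslB.pU (Multiplicative.ofAdd 1)) * ⟨k, hk⟩⁻¹) : Φ.K) : G) = 2
    rw [Subgroup.orderOf_coe, ← e'.orderOf_eq, hm]
    exact orderOf_eq_prime hy2 hy1
  · intro X hX hXp
    obtain ⟨k, hk⟩ := Invol.exists_conj_le_sylow (hXp.comap_of_injective Φ.K.subtype Φ.K.subtype_injective :
      IsPGroup 3 (X.subgroupOf Φ.K)) US
    refine ⟨(k₀⁻¹ * k : Φ.K), (k₀⁻¹ * k).2, fun x hx => ?_⟩
    have h : Φ.e (k * ⟨x, hX hx⟩ * k⁻¹) ∈ (PslB.pU (F := Φ.F)).range := hk ⟨x, hX hx⟩ hx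
    refine hrange ((k₀⁻¹ * k) * ⟨x, hX hx⟩ * (k₀⁻¹ * k)⁻¹) ?_
    show Φ.e (MulAut.conj k₀ _) ∈ _
    rw [MulAut.conj_apply, show k₀ * ((k₀⁻¹ * k) * (⟨x, hX hx⟩ : Φ.K) * (k₀⁻¹ * k)⁻¹) * k₀⁻¹ =
      k * ⟨x, hX hx⟩ * k⁻¹ by group]
    exact h
  · have hmod : g * u * v % n = g % n := by
      have hm := Nat.mul_mod_mul_left g (u * v) (3 ^ a)
      rw [hv, mul_one, mul_comm g (3 ^ a), ← hng, ← mul_assoc] at hm
      rw [hm]
      refine (Nat.mod_eq_of_lt ?_).symm
      rw [hng]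
      exact lt_mul_of_one_lt_left (Nat.pos_of_ne_zero fun e0 => by rw [e0, mul_zero] at hng; omega)
        (Nat.one_lt_pow (by omega) (by norm_num))
    show f^[v] (c * x) = _
    rw [(hiter v x).2 c, sq_pow_eq hpn c (g * u * v), hmod, ← sq_pow_eq hpn c g]

end CfsgLib.Walter.Three
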