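import Cfsg.Agent.Lib.Walter.Three.Fusion
import Cfsg.Agent.Lib.BGroup.FieldKill.Main

/-!
# Rank three: the centralizer form, given trivial odd cores and no field automorphisms
-/

set_option autoImplicit false
set_option linter.unusedSectionVars false
set_option linter.style.haveILetI false

namespace CfsgLib.Walter

open Subgroup
open CfsgLib.BGroup.FieldKill (Frame)

universe u

variable {G : Type u} [Group G] [Finite G]

namespace Three

variable (Φ : Frame G)

/-- A non-trivial field part yields a field automorphism. -/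
theorem exists_fieldElt (hD : Φ.D ≠ ⊥) : Nonempty (FieldElt (toCentralizer Φ)) := by
  classical
  obtain ⟨l, hl, hld⟩ := Nat.exists_prime_and_dvd (fun e => hD (Subgroup.card_eq_one.1 e))
  haveI := Fact.mk hl
  obtain ⟨d, hd⟩ := exists_prime_orderOf_dvd_card' (G := Φ.D) l hld
  have hdK : (d : G) ∉ Φ.K := fun hk => by
    have h1 := Φ.disj 1 (Or.inl rfl) _ hk (by rw [one_mul]; exact d.2)
    rw [one_mul] at h1
    rw [show d = 1 from Subtype.ext h1, orderOf_one] at hd
    exact hl.ne_one hd.symm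
  -- two involutions of `S ∩ K`
  obtain ⟨a, ha, haK, ha1⟩ : ∃ a ∈ (Φ.S : Subgroup G), a ∈ Φ.K ∧ a ≠ 1 := by
    by_contra hc
    push Not at hc
    have hinj : Function.Injective (fun s : (Φ.S : Subgroup G) => decide ((s : G) = 1)) := by
      have hall : ∀ s ∈ (Φ.S : Subgroup G), s = 1 ∨ s = Φ.t := by
        intro s hs
        obtain ⟨c, hc', k, hk, rfl⟩ := mem_S_decomp Φ hs
        have hcS : c ∈ (Φ.S : Subgroup G) := by rcases hc' with rfl | rfl; exacts [one_mem _, Φ.htS]
        have hkS : k ∈ (Φ.S : Subgroup G) := by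
          have := mul_mem (inv_mem hcS) hs
          rwa [inv_mul_cancel_left] at this
        rwa [hc k hkS hk, mul_one]
      intro s r hsr
      rcases hall s s.2 with e | e <;> rcases hall r r.2 with e' | e'
      · exact Subtype.ext (e.trans e'.symm)
      · simp [e, e', Invol.invol_ne_one Φ.ht] at hsr
      · simp [e, e', Invol.invol_ne_one Φ.ht] at hsr
      · exact Subtype.ext (e.trans e'.symm)
    have := Nat.card_le_card_of_injective _ hinj
    rw [Φ.h8] at this
    simp at this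
  obtain ⟨b, hb, hbK, hb1, hba⟩ : ∃ b ∈ (Φ.S : Subgroup G), b ∈ Φ.K ∧ b ≠ 1 ∧ b ≠ a := by
    by_contra hc
    push Not at hc
    have hall : ∀ s : (Φ.S : Subgroup G), ∃ i : Bool × Bool,
        (if i.1 then Φ.t else 1) * (if i.2 then a else 1) = (s : G) := by
      rintro ⟨s, hs⟩
      obtain ⟨c, hc', k, hk, rfl⟩ := mem_S_decomp Φ hs
      have hcS : c ∈ (Φ.S : Subgroup G) := by rcases hc' with rfl | rfl; exacts [one_mem _, Φ.htS]
      have hkS : k ∈ (Φ.S : Subgroup G) := by
        have := mul_mem (inv_mem hcS) hs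
        rwa [inv_mul_cancel_left] at this
      obtain ⟨i, hi⟩ : ∃ i : Bool, (if i then Φ.t else 1) = c := by
        rcases hc' with rfl | rfl
        exacts [⟨false, rfl⟩, ⟨true, rfl⟩]
      by_cases hk1 : k = 1
      · exact ⟨(i, false), by simp [hi, hk1]⟩
      · exact ⟨(i, true), by simp [hi, hc k hkS hk hk1]⟩
    choose f hf using hall
    have := Nat.card_le_card_of_injective f (fun s r e => Subtype.ext (by rw [← hf s, ← hf r, e]))
    rw [Φ.h8] at this
    simp at this
  exact ⟨{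
    l := l
    d := d
    a := a
    b := b
    prime := hl
    order_d := by rw [Subgroup.orderOf_coe]; exact hd
    d_mem := show (d : G) ∈ Φ.K ⊔ Φ.D from le_sup_right (a := Φ.K) d.2
    d_not_mem := hdK
    a_mem := haK
    b_mem := hbK
    order_a := Invol.invol_iff.2 ⟨by rw [← pow_two]; exact Φ.hS.2 a ha, ha1⟩
    order_b := Invol.invol_iff.2 ⟨by rw [← pow_two]; exact Φ.hS.2 b hb, hb1⟩
    a_ne_b := Ne.symm hba
    comm_ab := congrArg Subtype.val (Φ.hS.1.is_comm.comm ⟨a, ha⟩ ⟨b, hb⟩)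
    comm_da := Φ.D_comm_S d.2 ha
    comm_db := Φ.D_comm_S d.2 hb }⟩

/-- Without field part the group has the Janko or Ree form. -/
theorem reeForm (h : Eight G) (hD : Φ.D = ⊥) : ReeForm G := by
  haveI := h.simple
  have hsect : Frame.Sect Φ ⊥ ⊤ := by
    refine ⟨bot_le, le_top, bot_le, fun x _ => mem_centralizer_iff.2 fun d hd => ?_, le_top, ?_, ?_,
      fun _ _ _ => mem_top _⟩
    · rw [SetLike.mem_coe, mem_bot] at hd; rw [hd, one_mul, mul_one]
    · intro x _ hxt
      obtain ⟨a, ha, k, hk, d, hd, he⟩ := Φ.decomp x hxt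
      exact ⟨a, ha, k, hk, d, hD ▸ hd, he⟩
    · intro a ha ha1
      obtain ⟨n, hn, hna⟩ := h.exists_normalizer_conj Φ.S Φ.htS (Invol.invol_ne_one Φ.ht) ha ha1
      exact ⟨n, mem_top _, hn, hna⟩
  haveI := hsect.normal
  obtain ⟨Q, hQt, hQF, -⟩ := hsect.exists_quot
  rw [Subgroup.card_bot, pow_one] at hQF
  let η : (⊤ : Subgroup G) ⧸ (⊥ : Subgroup G).subgroupOf ⊤ ≃* G :=
    ((QuotientGroup.quotientMulEquivOfEq (bot_subgroupOf ⊤)).trans QuotientGroup.quotientBot).trans topEquiv
  have hηt : η Q.t = Φ.t := by rw [hQt]; rfl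
  have hmap : (centralizer ({Q.t} : Set ((⊤ : Subgroup G) ⧸ (⊥ : Subgroup G).subgroupOf ⊤))).map
      η.toMonoidHom = centralizer ({Φ.t} : Set G) := by
    rw [← hηt]
    exact BGroup.FieldKill.map_centralizer_equiv η Q.t
  let θ : centralizer ({Φ.t} : Set G) ≃*
      Multiplicative (ZMod 2) × Matrix.ProjectiveSpecialLinearGroup (Fin 2) Q.F :=
    ((η.subgroupMap _).trans (MulEquiv.subgroupCongr hmap)).symm.trans Q.e
  have h5 := Φ.five_le
  have hab : ∀ P : Sylow 2 G, ∀ a b : P, a * b = b * a := fun P a b =>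
    Subtype.ext (h.comm P a.2 b.2)
  refine ⟨h.sylow, Φ.t, Φ.ht, Q.F, inferInstance, inferInstance, ?_, ⟨θ⟩⟩
  haveI := Fintype.ofFinite G
  rcases JTh.main_univ (fun _ _ _ _ T5 => ReeType.Five.Setup.false_of_torus _ T5) hab (by omega) Φ.t Φ.ht
    ⟨θ⟩ with ⟨m, hm, hF, -⟩ | ⟨h45, -⟩
  · exact Or.inr ⟨m, hm, hF⟩
  · left; omega

end Three

/-- Rank three with trivial odd cores and no field automorphisms: the centralizer form. -/
theorem Eight.centForm_of (h : Eight G) {t : G} (ht : orderOf t = 2)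
    (hns : ¬ Group.IsSolvable ↥(centralizer ({t} : Set G)))
    (hcore : Cfsg.oddCore ↥(centralizer ({t} : Set G)) = ⊥)
    (hfield : ∀ T : Centralizer G t, FieldElt T → False) : CentForm G := by
  obtain ⟨Φ, rfl⟩ := h.exists_frame ht hns hcore
  refine Or.inr (Three.reeForm Φ h ?_)
  by_contra hD
  obtain ⟨E⟩ := Three.exists_fieldElt Φ hD
  exact hfield _ E

end CfsgLib.Walter
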