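import Mathlib.FieldTheory.Finite.GaloisField
import Mathlib.Algebra.Ring.Subring.Basic
import Mathlib.FieldTheory.Galois.Basic
import Mathlib.Algebra.Module.ZMod

/-!
# Commuting semisimple operators permuted by a primitive multiplication

A set of commuting semisimple additive endomorphisms of a finite field of order `3 ^ n` that is invariant
under conjugation by a multiplication, all of whose powers up to `n` generate the field, consists of
multiplications.
-/

set_option autoImplicit false
set_option linter.unusedSectionVars false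
set_option linter.style.haveILetI false

namespace CfsgLib.Walter.Three

variable {F : Type*} [Field F] [Finite F]

/-- Multiplication by an element. -/
def mulEnd (g : F) : AddMonoid.End F := AddMonoidHom.mulLeft g

@[simp] theorem mulEnd_apply (g u : F) : mulEnd g u = g * u := rfl

theorem end_mul_apply (x y : AddMonoid.End F) (u : F) : (x * y) u = x (y u) := rfl

theorem end_one_apply (u : F) : (1 : AddMonoid.End F) u = u := rfl

theorem mulEnd_mul (g h : F) : mulEnd g * mulEnd h = mulEnd (g * h) :=
  DFunLike.ext _ _ fun u => (mul_assoc g h u).symm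

theorem mulEnd_pow (g : F) (c : ℕ) : mulEnd g ^ c = mulEnd (g ^ c) := by
  induction c with
  | zero => exact DFunLike.ext _ _ fun u => by rw [pow_zero, pow_zero, end_one_apply, mulEnd_apply, one_mul]
  | succ c ih => rw [pow_succ, pow_succ, ih, mulEnd_mul]

/-- An operator commuting with a generating multiplication is a multiplication. -/
theorem eq_mulEnd_of_commute {ν : F} (hν : ∀ K : Subfield F, ν ∈ K → K = ⊤) {x : AddMonoid.End F}
    (hx : Commute x (mulEnd ν)) : x = mulEnd (x 1) := by
  let R : Subring F :=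
    { carrier := {g | ∀ u, x (g * u) = g * x u}
      mul_mem' := fun {a b} ha hb u => by rw [mul_assoc, ha, hb, mul_assoc]
      one_mem' := fun u => by rw [one_mul, one_mul]
      add_mem' := fun {a b} ha hb u => by rw [add_mul, map_add, ha, hb, add_mul]
      zero_mem' := fun u => by rw [zero_mul, map_zero, zero_mul]
      neg_mem' := fun {a} ha u => by rw [neg_mul, map_neg, ha, neg_mul] }
  have hinv : ∀ a ∈ R, a⁻¹ ∈ R := fun a ha u => by
    by_cases h0 : a = 0
    · rw [h0, inv_zero, zero_mul, map_zero, zero_mul]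
    have h := ha (a⁻¹ * u)
    rw [← mul_assoc, mul_inv_cancel₀ h0, one_mul] at h
    rw [h, ← mul_assoc, inv_mul_cancel₀ h0, one_mul]
  have htop : ({ R with inv_mem' := hinv } : Subfield F) = ⊤ :=
    hν _ fun u => DFunLike.congr_fun hx.eq u
  refine DFunLike.ext _ _ fun u => ?_
  have hu : u ∈ ({ R with inv_mem' := hinv } : Subfield F) := htop ▸ Subfield.mem_top u
  have := hu 1
  rw [mul_one] at this
  rw [this, mulEnd_apply, mul_comm]

/-- The statement. -/
theorem forall_eq_mulEnd [CharP F 3] {n : ℕ} (hcard : Nat.card F = 3 ^ n) {μ : F} (hμ0 : μ ≠ 0)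
    (hμ : ∀ c, 1 ≤ c → c ≤ n → ∀ K : Subfield F, μ ^ c ∈ K → K = ⊤) (S : Set (AddMonoid.End F))
    (hcomm : ∀ x ∈ S, ∀ y ∈ S, x * y = y * x) {m : ℕ} (hm : 1 ≤ m) (hss : ∀ x ∈ S, x ^ 3 ^ m = x)
    (hL : ∀ x ∈ S, mulEnd μ * x * mulEnd μ⁻¹ ∈ S) : ∀ x ∈ S, x = mulEnd (x 1) := by
  classical
  haveI : Fact (Nat.Prime 3) := ⟨Nat.prime_three⟩
  haveI : Finite (AddMonoid.End F) := Finite.of_injective (fun f : AddMonoid.End F => (f : F → F))
    DFunLike.coe_injective
  letI : Algebra (ZMod 3) F := ZMod.algebra F 3
  set R := Subring.closure S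
  letI : CommRing R := Subring.closureCommRingOfComm hcomm
  have hinv : mulEnd μ⁻¹ * mulEnd μ = 1 := DFunLike.ext _ _ fun u => by
    simp [end_mul_apply, end_one_apply, hμ0]
  have hinv' : mulEnd μ * mulEnd μ⁻¹ = 1 := DFunLike.ext _ _ fun u => by
    simp [end_mul_apply, end_one_apply, hμ0]
  -- conjugation
  let cj : AddMonoid.End F →+* AddMonoid.End F :=
    { toFun := fun x => mulEnd μ * x * mulEnd μ⁻¹
      map_one' := by rw [mul_one, hinv']
      map_mul' := fun a b => by
        calc mulEnd μ * (a * b) * mulEnd μ⁻¹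
            = mulEnd μ * a * (mulEnd μ⁻¹ * mulEnd μ) * b * mulEnd μ⁻¹ := by
              rw [hinv, mul_one]; simp only [mul_assoc]
          _ = _ := by simp only [mul_assoc]
      map_zero' := by rw [mul_zero, zero_mul]
      map_add' := fun a b => by rw [mul_add, add_mul] }
  have hcjR : ∀ x ∈ R, cj x ∈ R := fun x hx =>
    (Subring.closure_le.2 (fun y hy => Subring.mem_comap.2 (Subring.subset_closure (hL y hy))) :
      R ≤ R.comap cj) hx
  let φ : R →+* R := (cj.comp R.subtype).codRestrict R fun x => hcjR x x.2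
  have hφ : ∀ x : R, ((φ x : R) : AddMonoid.End F) = mulEnd μ * x * mulEnd μ⁻¹ := fun x => rfl
  have hφinj : Function.Injective φ := fun a b h => by
    have h' := congrArg (fun z : R => mulEnd μ⁻¹ * (z : AddMonoid.End F) * mulEnd μ) h
    simp only [hφ] at h'
    have e : ∀ z : AddMonoid.End F, mulEnd μ⁻¹ * (mulEnd μ * z * mulEnd μ⁻¹) * mulEnd μ = z := fun z => by
      calc mulEnd μ⁻¹ * (mulEnd μ * z * mulEnd μ⁻¹) * mulEnd μ
          = mulEnd μ⁻¹ * mulEnd μ * z * (mulEnd μ⁻¹ * mulEnd μ) := by simp only [mul_assoc]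
        _ = z := by rw [hinv, one_mul, mul_one]
    rw [e, e] at h'
    exact Subtype.ext h'
  -- semisimplicity
  have h3 : (3 : R) = 0 := by
    refine Subtype.ext (DFunLike.ext _ _ fun u => ?_)
    show (3 : AddMonoid.End F) u = 0
    rw [show (3 : AddMonoid.End F) = 1 + 1 + 1 by norm_num]
    show u + u + u = 0
    have : (3 : F) = 0 := CharP.cast_eq_zero F 3
    linear_combination u * this
  haveI : Nontrivial R := ⟨1, 0, fun h => one_ne_zero (α := F) (DFunLike.congr_fun (congrArg Subtype.val h) 1)⟩
  haveI : CharP R 3 := (CharP.charP_iff_prime_eq_zero Nat.prime_three).2 (by exact_mod_cast h3)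
  have hfrob : ∀ x : R, x ^ 3 ^ m = x := by
    intro x
    let Q : Subring R := RingHom.eqLocus (iterateFrobenius R 3 m) (RingHom.id R)
    have hQ : ∀ x : R, x ∈ Q := by
      intro x
      obtain ⟨x, hx⟩ := x
      induction hx using Subring.closure_induction with
      | mem y hy =>
        show (⟨y, _⟩ : R) ^ 3 ^ m = _
        exact Subtype.ext (by rw [SubmonoidClass.coe_pow]; exact hss y hy)
      | zero => exact Q.zero_mem
      | one => exact Q.one_mem
      | add a b ha hb iha ihb => exact Q.add_mem iha ihb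
      | neg a ha iha => exact Q.neg_mem iha
      | mul a b ha hb iha ihb => exact Q.mul_mem iha ihb
    have := hQ x
    rwa [RingHom.mem_eqLocus, RingHom.id_apply, iterateFrobenius_def] at this
  have h3m : 3 ≤ 3 ^ m := Nat.le_self_pow (by omega) 3
  -- idempotents
  have hidem : ∀ e : R, e * e = e → e ≠ 0 → e = 1 := by
    intro f hf hf0
    let rk : R → ℕ := fun e => Nat.card (Set.range fun u => (e : AddMonoid.End F) u)
    obtain ⟨e, ⟨he, he0⟩, hmin⟩ := Set.exists_min_image {e : R | e * e = e ∧ e ≠ 0} rk (Set.toFinite _)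
      ⟨f, hf, hf0⟩
    have hprod : ∀ a : R, a * a = a → ∀ b : R, b * b = b → b ≠ 0 → rk b ≤ rk e → a * b ≠ 0 → a * b = b := by
      intro a ha b hb _ hrb hab
      have hid : (a * b) * (a * b) = a * b := by rw [mul_mul_mul_comm, ha, hb]
      have hsub : (Set.range fun u => ((a * b : R) : AddMonoid.End F) u) ⊆
          Set.range fun u => (b : AddMonoid.End F) u := by
        rintro _ ⟨u, rfl⟩
        exact ⟨(a : AddMonoid.End F) u, by show _ = ((a * b : R) : AddMonoid.End F) u; rw [mul_comm a b]; rfl⟩
      have heq := Set.eq_of_subset_of_ncard_le hsub (by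
        rw [← Nat.card_coe_set_eq, ← Nat.card_coe_set_eq]
        exact hrb.trans (hmin _ ⟨hid, hab⟩)) (Set.toFinite _)
      refine Subtype.ext (DFunLike.ext _ _ fun u => ?_)
      obtain ⟨v, hv⟩ : (b : AddMonoid.End F) u ∈ Set.range fun u => ((a * b : R) : AddMonoid.End F) u :=
        heq ▸ ⟨u, rfl⟩
      have h1 : ((a * b : R) : AddMonoid.End F) ((b : AddMonoid.End F) u) = (b : AddMonoid.End F) u := by
        rw [← hv]
        exact DFunLike.congr_fun (congrArg Subtype.val hid) v
      rw [← h1]
      exact DFunLike.congr_fun (congrArg Subtype.val (show (a * b : R) = (a * b) * b by rw [mul_assoc, hb])) u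
    let es : ℕ → R := fun i => φ^[i] e
    have hes : ∀ i, es i * es i = es i ∧ es i ≠ 0 ∧ rk (es i) = rk e := by
      intro i
      induction i with
      | zero => exact ⟨he, he0, rfl⟩
      | succ i ih =>
        have hs : es (i + 1) = φ (es i) := Function.iterate_succ_apply' φ i e
        rw [hs]
        refine ⟨by rw [← map_mul, ih.1], fun h => ih.2.1 (hφinj (h.trans (map_zero φ).symm)), ?_⟩
        rw [← ih.2.2]
        have : (Set.range fun u => ((φ (es i) : R) : AddMonoid.End F) u) =
            (μ * ·) '' Set.range fun u => ((es i : R) : AddMonoid.End F) u := by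
          ext y
          simp only [hφ, end_mul_apply, mulEnd_apply, Set.mem_range, Set.mem_image, exists_exists_eq_and]
          exact ⟨fun ⟨u, hu⟩ => ⟨μ⁻¹ * u, hu⟩, fun ⟨u, hu⟩ => ⟨μ * u, by
            rw [← mul_assoc, inv_mul_cancel₀ hμ0, one_mul]; exact hu⟩⟩
        show Nat.card _ = Nat.card _
        rw [this]
        exact Nat.card_image_of_injective (mul_right_injective₀ hμ0) _
    obtain ⟨c, hc1, hcn, hc⟩ : ∃ c, 1 ≤ c ∧ c ≤ n ∧ es c = e := by
      by_contra hno
      push Not at hno
      have horth : ∀ i j : Fin (n + 1), i ≠ j → es i * es j = 0 := by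
        intro i j hij
        by_contra h0
        have h1 := hprod _ (hes i).1 _ (hes j).1 (hes j).2.1 (hes j).2.2.le h0
        have h2 := hprod _ (hes j).1 _ (hes i).1 (hes i).2.1 (hes i).2.2.le (mul_comm (es i) (es j) ▸ h0)
        rw [mul_comm] at h2
        have heq : es i = es j := h2.symm.trans h1
        have key : ∀ a b : ℕ, a < b → b ≤ n → es a = es b → False := fun a b hab hbn h => by
          have h' : φ^[a] (es (b - a)) = φ^[a] e := by
            show φ^[a] (φ^[b - a] e) = φ^[a] e
            rw [← Function.iterate_add_apply, Nat.add_sub_cancel' hab.le]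
            exact h.symm
          exact hno (b - a) (by omega) (by omega) (hφinj.iterate a h')
        rcases lt_or_gt_of_ne (Fin.val_ne_of_ne hij) with h | h
        · exact key _ _ h (Nat.lt_succ_iff.1 j.2) heq
        · exact key _ _ h (Nat.lt_succ_iff.1 i.2) heq.symm
      have hne : ∀ i : Fin (n + 1), ∃ u, (es i : AddMonoid.End F) u ≠ 0 := fun i => by
        by_contra h
        push Not at h
        exact (hes i).2.1 (Subtype.ext (DFunLike.ext _ _ h))
      choose u hu using hne
      let g : (Fin (n + 1) → ZMod 3) → F := fun a => ∑ i, a i • (es i : AddMonoid.End F) (u i)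
      have hg : Function.Injective g := by
        intro a b hab
        funext j
        have h := congrArg (fun v => (es j : AddMonoid.End F) v) hab
        have key : ∀ a : Fin (n + 1) → ZMod 3,
            (es j : AddMonoid.End F) (g a) = a j • (es j : AddMonoid.End F) (u j) := by
          intro a
          simp only [g, map_sum]
          rw [Finset.sum_eq_single j]
          · rw [ZMod.map_smul, ← end_mul_apply, show (es j : AddMonoid.End F) * es j = es j from
              congrArg Subtype.val (hes j).1]
          · intro i _ hij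
            rw [ZMod.map_smul, ← end_mul_apply, show (es j : AddMonoid.End F) * es i = 0 from
              congrArg Subtype.val (horth j i hij.symm)]
            exact smul_zero _
          · exact fun h => absurd (Finset.mem_univ j) h
        simp only [key] at h
        exact smul_left_injective _ (hu j) h
      have := Nat.card_le_card_of_injective g hg
      rw [hcard, Nat.card_fun, Nat.card_zmod, Nat.card_fin] at this
      exact absurd this (not_le.2 (Nat.pow_lt_pow_right (by norm_num) (by omega)))
    -- `e` commutes with `μ ^ c`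
    have hpow : ∀ i, ((es i : R) : AddMonoid.End F) = mulEnd μ ^ i * e * mulEnd μ⁻¹ ^ i := by
      intro i
      induction i with
      | zero => simp [es]
      | succ i ih =>
        rw [show es (i + 1) = φ (es i) from Function.iterate_succ_apply' φ i e, hφ, ih, pow_succ' (mulEnd μ),
          pow_succ (mulEnd μ⁻¹)]
        simp only [mul_assoc]
    have hce : Commute (e : AddMonoid.End F) (mulEnd (μ ^ c)) := by
      have h := hpow c
      rw [hc, mulEnd_pow, mulEnd_pow] at h
      show (e : AddMonoid.End F) * mulEnd (μ ^ c) = mulEnd (μ ^ c) * e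
      conv_lhs => rw [h]
      rw [mul_assoc, mulEnd_mul, ← mul_pow, inv_mul_cancel₀ hμ0, one_pow]
      exact DFunLike.ext _ _ fun u => by simp [end_mul_apply]
    have hem := eq_mulEnd_of_commute (hμ c hc1 hcn) hce
    have he1 : e = 1 := by
      refine Subtype.ext (DFunLike.ext _ _ fun u => ?_)
      show (e : AddMonoid.End F) u = u
      have hsq : (e : AddMonoid.End F) 1 * (e : AddMonoid.End F) 1 = (e : AddMonoid.End F) 1 := by
        have h1 : (e : AddMonoid.End F) ((e : AddMonoid.End F) 1) = (e : AddMonoid.End F) 1 :=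
          DFunLike.congr_fun (congrArg Subtype.val he) 1
        conv_rhs => rw [← h1, hem]
        simp
      rcases eq_or_ne ((e : AddMonoid.End F) 1) 0 with h0 | h0
      · exact absurd (Subtype.ext (DFunLike.ext _ _ fun v => by rw [hem, mulEnd_apply, h0, zero_mul]; rfl)) he0
      · rw [hem, mulEnd_apply, (mul_eq_left₀ h0).1 hsq, one_mul]
    have hrk : rk f ≤ rk e := by
      refine Nat.card_mono (Set.toFinite _) ?_
      rintro _ ⟨u, rfl⟩
      exact ⟨(f : AddMonoid.End F) u, by rw [he1]; rfl⟩
    have := hprod e he f hf hf0 hrk (by rw [he1, one_mul]; exact hf0)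
    have h2 : rk e ≤ rk f := hmin f ⟨hf, hf0⟩
    have h3 := hprod f hf e he he0 le_rfl (by rw [he1, mul_one]; exact hf0)
    rw [he1, mul_one] at h3
    exact h3
  -- `R` is a field
  have hunit : ∀ x : R, x ≠ 0 → ∃ y, x * y = 1 := by
    intro x hx
    obtain ⟨k, hk⟩ : ∃ k, 3 ^ m = k + 2 := ⟨3 ^ m - 2, by omega⟩
    have hxk : x ^ (k + 2) = x := hk ▸ hfrob x
    refine ⟨x ^ k, hidem _ ?_ fun h => hx ?_⟩
    · calc x * x ^ k * (x * x ^ k) = x ^ k * x ^ (k + 2) := by ring
        _ = x * x ^ k := by rw [hxk]; ring
    · rw [← hxk, pow_succ, pow_succ', h, zero_mul]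
  letI : Field R := IsField.toField ⟨exists_pair_ne R, mul_comm, fun {a} ha => hunit a ha⟩
  let ev : R → F := fun x => (x : AddMonoid.End F) 1
  have hev : Function.Injective ev := fun a b h => by
    by_contra hab
    obtain ⟨y, hy⟩ := hunit (a - b) (sub_ne_zero.2 hab)
    have h0 : ((a - b : R) : AddMonoid.End F) 1 = 0 := sub_eq_zero.2 h
    have hyy : ((y * (a - b) : R) : AddMonoid.End F) 1 = 1 := by rw [mul_comm, hy]; rfl
    rw [Subring.coe_mul, end_mul_apply, h0, map_zero] at hyy
    exact zero_ne_one hyy
  letI : Algebra (ZMod 3) R := ZMod.algebra R 3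
  haveI : Finite R := Subtype.finite
  haveI : FiniteDimensional (ZMod 3) R := Module.Finite.of_finite
  set c := Module.finrank (ZMod 3) R with hcdef
  have hcn : c ≤ n := by
    have h1 := Nat.card_le_card_of_injective ev hev
    rw [hcard, Module.natCard_eq_pow_finrank (K := ZMod 3), Nat.card_zmod] at h1
    exact (Nat.pow_le_pow_iff_right (by norm_num)).1 h1
  have hc1 : 1 ≤ c := Module.finrank_pos
  let ψ : R ≃ₐ[ZMod 3] R := AlgEquiv.ofRingEquiv
    (f := RingEquiv.ofBijective φ (Finite.injective_iff_bijective.1 hφinj)) (fun r =>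
      RingHom.congr_fun (Subsingleton.elim (φ.comp (algebraMap (ZMod 3) R)) (algebraMap (ZMod 3) R)) r)
  have hψc : ψ ^ c = 1 := by
    have := pow_card_eq_one' (G := R ≃ₐ[ZMod 3] R) (x := ψ)
    rw [IsGalois.card_aut_eq_finrank] at this
    convert this using 3
    exact Subsingleton.elim _ _
  intro x hx
  have hiter : ∀ i, (((ψ ^ i) ⟨x, Subring.subset_closure hx⟩ : R) : AddMonoid.End F) =
      mulEnd μ ^ i * x * mulEnd μ⁻¹ ^ i := by
    intro i
    induction i with
    | zero => simp
    | succ i ih =>
      rw [pow_succ', AlgEquiv.mul_apply, pow_succ' (mulEnd μ), pow_succ (mulEnd μ⁻¹)]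
      show ((φ ((ψ ^ i) ⟨x, Subring.subset_closure hx⟩) : R) : AddMonoid.End F) = _
      rw [hφ, ih]
      simp only [mul_assoc]
  refine eq_mulEnd_of_commute (hμ c hc1 hcn) ?_
  have h := hiter c
  rw [hψc, mulEnd_pow, mulEnd_pow] at h
  show x * mulEnd (μ ^ c) = mulEnd (μ ^ c) * x
  have h' : x = mulEnd (μ ^ c) * x * mulEnd (μ⁻¹ ^ c) := h
  conv_lhs => rw [h']
  rw [mul_assoc, mulEnd_mul, ← mul_pow, inv_mul_cancel₀ hμ0, one_pow]
  exact DFunLike.ext _ _ fun u => by simp [end_mul_apply]

end CfsgLib.Walter.Three
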