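import Cfsg.Agent.Lib.Walter.Three.Centralizer
import Cfsg.Agent.Lib.Invol.LargePrimeMix.Count

/-!
# Rank three: the normalizer of a Sylow `2`-subgroup is transitive on its involutions
-/

set_option autoImplicit false
set_option linter.unusedSectionVars false
set_option linter.style.haveILetI false

namespace CfsgLib.Walter.Eight

open Subgroup

universe u

variable {G : Type u} [Group G] [Finite G] (h : Eight G)
include h

theorem comm (S : Sylow 2 G) {a b : G} (ha : a ∈ (S : Subgroup G)) (hb : b ∈ (S : Subgroup G)) :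
    a * b = b * a := by
  have h1 := (h.sylow S).2 _ (mul_mem ha hb)
  have hai : a⁻¹ = a := inv_eq_of_mul_eq_one_left ((h.sylow S).2 a ha)
  have hbi : b⁻¹ = b := inv_eq_of_mul_eq_one_left ((h.sylow S).2 b hb)
  calc a * b = (a * b)⁻¹ := (inv_eq_of_mul_eq_one_left h1).symm
    _ = b * a := by rw [mul_inv_rev, hai, hbi]

/-- An element of `S` fixed by the normalizer is trivial. -/
theorem eq_one_of_normalizer_fix (S : Sylow 2 G) {z : G} (hz : z ∈ (S : Subgroup G))
    (hfix : ∀ n ∈ normalizer ((S : Subgroup G) : Set G), n⁻¹ * z * n = z) : z = 1 := by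
  haveI : Fact (Nat.Prime 2) := ⟨Nat.prime_two⟩
  letI : CommGroup ↥(S : Subgroup G) :=
    { (inferInstance : Group ↥(S : Subgroup G)) with
      mul_comm := fun a b => Subtype.ext (h.comm S a.2 b.2) }
  haveI : IsMulCommutative (S : Subgroup G) := ⟨⟨fun a b => Subtype.ext (h.comm S a.2 b.2)⟩⟩
  have key : ∀ (k : ℕ) (g₀ : G), g₀⁻¹ * z ^ k * g₀ ∈ (S : Subgroup G) →
      g₀⁻¹ * z ^ k * g₀ = z ^ k := fun k g₀ hg => by
    obtain ⟨n, hn, hne⟩ := S.conj_eq_normalizer_conj_of_mem (z ^ k) g₀ (pow_mem hz k) hg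
    rw [hne]
    have hc : Commute n z := (inv_mul_eq_iff_eq_mul.1 (by rw [← mul_assoc]; exact hfix n hn)).symm
    rw [mul_assoc, ← (hc.pow_right k).eq, inv_mul_cancel_left]
  have h1 := MonoidHom.transfer_eq_pow (MonoidHom.id ↥(S : Subgroup G)) z key
  haveI := h.simple
  have htop : commutator G = ⊤ := by
    rcases (inferInstance : (commutator G).Normal).eq_bot_or_eq_top with hb | ht
    · exfalso
      refine h.noncomm ⟨⟨fun a b => ?_⟩⟩
      have hc : a * b * a⁻¹ * b⁻¹ ∈ commutator G := commutator_mem_commutator (mem_top a) (mem_top b)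
      rw [hb, mem_bot] at hc
      exact mul_inv_eq_iff_eq_mul.1 (mul_inv_eq_one.1 hc)
    · exact ht
  have h2 : MonoidHom.transfer (MonoidHom.id ↥(S : Subgroup G)) z = 1 :=
    Abelianization.commutator_subset_ker (MonoidHom.transfer (MonoidHom.id ↥(S : Subgroup G)))
      (htop ▸ mem_top z)
  rw [h2, MonoidHom.id_apply] at h1
  have h4 : z ^ (S : Subgroup G).index = 1 := (congrArg Subtype.val h1).symm
  refine orderOf_eq_one_iff.1 (Nat.eq_one_of_dvd_coprimes ?_
    (orderOf_dvd_of_pow_eq_one (n := 2) (by rw [pow_two]; exact (h.sylow S).2 z hz))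
    (orderOf_dvd_of_pow_eq_one h4))
  exact Nat.prime_two.coprime_iff_not_dvd.2 S.not_dvd_index

/-- The normalizer is transitive on the involutions. -/
theorem exists_normalizer_conj (S : Sylow 2 G) {a b : G} (ha : a ∈ (S : Subgroup G)) (ha1 : a ≠ 1)
    (hb : b ∈ (S : Subgroup G)) (hb1 : b ≠ 1) :
    ∃ n ∈ normalizer ((S : Subgroup G) : Set G), n * a * n⁻¹ = b := by
  classical
  haveI : Fact (Nat.Prime 2) := ⟨Nat.prime_two⟩
  haveI := Fintype.ofFinite G
  set N := normalizer ((S : Subgroup G) : Set G) with hN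
  set P : Finset G := Finset.univ.filter (fun x => x ∈ (S : Subgroup G) ∧ x ≠ 1) with hP
  set O : G → Finset G :=
    fun x => (Finset.univ.filter (fun n => n ∈ N)).image (fun n => n * x * n⁻¹) with hO
  have hmemO : ∀ x y, y ∈ O x ↔ ∃ n ∈ N, n * x * n⁻¹ = y := fun x y => by simp [hO]
  have hmemP : ∀ x, x ∈ P ↔ x ∈ (S : Subgroup G) ∧ x ≠ 1 := fun x => by simp [hP]
  have hPcard : P.card = 7 := by
    have h1 : (Finset.univ.filter (fun x => x ∈ (S : Subgroup G))).card = 8 := by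
      rw [← (h.sylow S).1, Nat.card_eq_fintype_card, Fintype.card_subtype]
    have h2 : P = (Finset.univ.filter (fun x => x ∈ (S : Subgroup G))).erase 1 := by
      ext x; simp [hP]; tauto
    rw [h2, Finset.card_erase_of_mem (by simp [one_mem]), h1]
  have hsub : ∀ x ∈ P, O x ⊆ P := by
    intro x hx y hy
    obtain ⟨hxS, hx1⟩ := (hmemP x).1 hx
    obtain ⟨n, hn, rfl⟩ := (hmemO x y).1 hy
    exact (hmemP _).2 ⟨(mem_normalizer_iff.1 hn x).1 hxS, fun e => hx1 (conj_eq_one_iff.1 e)⟩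
  -- orbits have odd size, at least three
  have hsize : ∀ x ∈ P, Odd (O x).card ∧ 3 ≤ (O x).card := by
    intro x hx
    obtain ⟨hxS, hx1⟩ := (hmemP x).1 hx
    let xN : N := ⟨x, le_normalizer hxS⟩
    have hset := CfsgLib.LargePrimeMix.card_conjugates (G := N) (t := xN) rfl
      {y | ∃ n : N, n * xN * n⁻¹ = y} (fun y => Iff.rfl)
    have heq : Nat.card ({y : N | ∃ n : N, n * xN * n⁻¹ = y} : Set N) = (O x).card := by
      rw [← Nat.card_eq_finsetCard]
      refine Nat.card_congr (Equiv.ofBijective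
        (fun y => (⟨((y : N) : G), ?_⟩ : {z // z ∈ O x})) ⟨fun p q e => ?_, fun z => ?_⟩)
      · obtain ⟨n, hn⟩ := y.2
        exact (hmemO x _).2 ⟨n, n.2, congrArg Subtype.val hn⟩
      · exact Subtype.ext (Subtype.ext (congrArg Subtype.val e :))
      · obtain ⟨n, hn, hnz⟩ := (hmemO x z).1 z.2
        exact ⟨⟨⟨n, hn⟩ * xN * (⟨n, hn⟩ : N)⁻¹, ⟨⟨n, hn⟩, rfl⟩⟩, Subtype.ext hnz⟩
    rw [heq] at hset
    have hodd : Odd (O x).card := by
      rw [Nat.odd_iff, ← Nat.two_dvd_ne_zero]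
      intro h2
      have hSC : ((S.subtype le_normalizer : Sylow 2 N) : Subgroup N) ≤ centralizer ({xN} : Set N) :=
        fun s hs => mem_centralizer_singleton_iff.2 (Subtype.ext (h.comm S hs hxS))
      have h8 : 8 ∣ Nat.card (centralizer ({xN} : Set N)) := by
        refine dvd_trans (dvd_of_eq ?_) (card_dvd_of_le hSC)
        rw [Sylow.coe_subtype, Nat.card_congr (subgroupOfEquivOfLe le_normalizer).toEquiv, (h.sylow S).1]
      have h16 : 2 ^ 4 ∣ Nat.card G :=
        ((mul_dvd_mul h2 h8).trans (hset ▸ dvd_rfl)).trans (card_subgroup_dvd_card N)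
      obtain ⟨k, hk⟩ := Sylow.exists_subgroup_card_pow_prime 2 h16
      obtain ⟨T, hT⟩ := (IsPGroup.of_card (p := 2) (n := 4) hk : IsPGroup 2 k).exists_le_sylow
      have := card_dvd_of_le hT
      rw [hk, (h.sylow T).1] at this
      norm_num at this
    refine ⟨hodd, ?_⟩
    by_contra hlt
    push Not at hlt
    have hone : (O x).card = 1 := by obtain ⟨j, hj⟩ := hodd; omega
    refine hx1 (h.eq_one_of_normalizer_fix S hxS fun n hn => ?_)
    have h1 : n⁻¹ * x * n ∈ O x := (hmemO x _).2 ⟨n⁻¹, inv_mem hn, by rw [inv_inv]⟩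
    have h2 : x ∈ O x := (hmemO x _).2 ⟨1, one_mem _, by group⟩
    exact Finset.card_le_one.1 hone.le _ h1 _ h2
  -- one orbit
  have hne : ∀ x ∈ P, P ⊆ O x := by
    intro x hx y hy
    by_contra hxy
    have hdisj : Disjoint (O x) (O y) := by
      rw [Finset.disjoint_left]
      intro z hz1 hz2
      obtain ⟨n, hn, rfl⟩ := (hmemO x z).1 hz1
      obtain ⟨m, hm, hme⟩ := (hmemO y _).1 hz2
      exact hxy ((hmemO x y).2 ⟨m⁻¹ * n, mul_mem (inv_mem hm) hn, by
        calc m⁻¹ * n * x * (m⁻¹ * n)⁻¹ = m⁻¹ * (n * x * n⁻¹) * m := by group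
          _ = y := by rw [← hme]; group⟩)
    set R := P \ (O x ∪ O y) with hR
    have hu : O x ∪ O y ⊆ P := Finset.union_subset (hsub x hx) (hsub y hy)
    have hc := Finset.card_sdiff_add_card_eq_card hu
    rw [← hR, Finset.card_union_of_disjoint hdisj, hPcard] at hc
    obtain ⟨⟨j, hj⟩, hx3⟩ := hsize x hx
    obtain ⟨⟨i, hi⟩, hy3⟩ := hsize y hy
    obtain ⟨z, hz⟩ : R.Nonempty := Finset.card_pos.1 (by omega)
    obtain ⟨hzP, hzU⟩ := Finset.mem_sdiff.1 hz
    have hsubR : O z ⊆ R := by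
      intro w hw
      refine Finset.mem_sdiff.2 ⟨hsub z hzP hw, fun hwU => hzU ?_⟩
      obtain ⟨n, hn, rfl⟩ := (hmemO z w).1 hw
      rcases Finset.mem_union.1 hwU with hw' | hw' <;>
        obtain ⟨m, hm, hme⟩ := (hmemO _ _).1 hw' <;> refine Finset.mem_union.2 ?_
      · exact Or.inl ((hmemO _ _).2 ⟨n⁻¹ * m, mul_mem (inv_mem hn) hm, by
          rw [show n⁻¹ * m * x * (n⁻¹ * m)⁻¹ = n⁻¹ * (m * x * m⁻¹) * n by group, hme]; group⟩)
      · exact Or.inr ((hmemO _ _).2 ⟨n⁻¹ * m, mul_mem (inv_mem hn) hm, by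
          rw [show n⁻¹ * m * y * (n⁻¹ * m)⁻¹ = n⁻¹ * (m * y * m⁻¹) * n by group, hme]; group⟩)
    have := Finset.card_le_card hsubR
    have := (hsize z hzP).2
    omega
  exact (hmemO a b).1 (hne a ((hmemP a).2 ⟨ha, ha1⟩) ((hmemP b).2 ⟨hb, hb1⟩))

end CfsgLib.Walter.Eight
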