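import Cfsg.Agent.Lib.Walter.Outer.Invert
import Mathlib.Algebra.Group.Subgroup.Basic
import Mathlib.Algebra.Field.ZMod
import Mathlib.Tactic.NoncommRing

/-!
# An involution acting with small fixed points on a module in characteristic three

`U` is an elementary abelian `3`-group, `T` an involution of `U`, `B` a commutative `T`-invariant group of
operators of order prime to three. For an inverted `b` the operator `b + b⁻¹` preserves the fixed points
of `T`; if these operators are scalar there, they determine `b` up to inversion.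
-/

set_option autoImplicit false
set_option linter.unusedSectionVars false

namespace CfsgLib.Walter.Three

universe u v

/-- The hypotheses. -/
structure Mod3 (X : Type u) [Group X] (U : Type v) [AddCommGroup U] where
  τ : MulAut X
  invol : ∀ x, τ (τ x) = x
  ρ : X →* AddMonoid.End U
  inj : Function.Injective ρ
  T : AddMonoid.End U
  sq : ∀ u, T (T u) = u
  compat : ∀ x u, T (ρ x (T u)) = ρ (τ x) u
  three : ∀ u : U, u + u + u = 0

namespace Mod3

variable {X : Type u} [Group X] {U : Type v} [AddCommGroup U] (M : Mod3 X U)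

/-- `b + b⁻¹`. -/
def gam (x : X) : AddMonoid.End U := M.ρ x + M.ρ x⁻¹

theorem gam_apply (x : X) (u : U) : M.gam x u = M.ρ x u + M.ρ x⁻¹ u := rfl

theorem mul_apply' (x y : X) (u : U) : M.ρ (x * y) u = M.ρ x (M.ρ y u) := by
  rw [map_mul]; rfl

theorem one_apply' (u : U) : M.ρ 1 u = u := by rw [map_one]; rfl

theorem inv_apply' (x : X) (u : U) : M.ρ x⁻¹ (M.ρ x u) = u := by
  rw [← M.mul_apply', inv_mul_cancel, M.one_apply']

theorem apply_inv' (x : X) (u : U) : M.ρ x (M.ρ x⁻¹ u) = u := by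
  rw [← M.mul_apply', mul_inv_cancel, M.one_apply']

theorem T_apply (x : X) (u : U) : M.T (M.ρ x u) = M.ρ (M.τ x) (M.T u) := by
  rw [← M.compat, M.sq]

theorem gam_T {b : X} (hb : M.τ b = b⁻¹) (u : U) : M.T (M.gam b u) = M.gam b (M.T u) := by
  rw [gam_apply, gam_apply, map_add, T_apply, T_apply, hb, map_inv M.τ, hb, inv_inv, add_comm]

theorem gam_one (u : U) : M.gam 1 u = u + u := by rw [gam_apply, inv_one, M.one_apply']

theorem gam_inv (x : X) : M.gam x⁻¹ = M.gam x := by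
  refine DFunLike.ext _ _ fun u => ?_
  rw [gam_apply, gam_apply, inv_inv, add_comm]

theorem gam_conj (g x : X) (u : U) : M.gam (g * x * g⁻¹) u = M.ρ g (M.gam x (M.ρ g⁻¹ u)) := by
  rw [gam_apply, gam_apply, map_add, show (g * x * g⁻¹)⁻¹ = g * x⁻¹ * g⁻¹ by group, M.mul_apply',
    M.mul_apply', M.mul_apply', M.mul_apply']

include M in
theorem three_smul_end (f : AddMonoid.End U) : f + f + f = 0 := DFunLike.ext _ _ fun u => M.three (f u)

theorem gam_pow (x : X) : ∀ j : ℕ, M.gam x ^ 3 ^ j = M.gam (x ^ 3 ^ j) := by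
  intro j
  induction j with
  | zero => rw [pow_zero, pow_one, pow_one]
  | succ j ih =>
    rw [pow_succ, pow_mul, ih, pow_mul]
    set y := x ^ 3 ^ j
    clear_value y
    rw [gam, gam, ← inv_pow, map_pow, map_pow]
    have hc : M.ρ y * M.ρ y⁻¹ = M.ρ y⁻¹ * M.ρ y := by rw [← map_mul, ← map_mul, mul_inv_cancel, inv_mul_cancel]
    have expand : ∀ a b : AddMonoid.End U, a * b = b * a →
        (a + b) ^ 3 = a ^ 3 + b ^ 3 + ((a * a * b + a * b * b) + (a * a * b + a * b * b) + (a * a * b + a * b * b)) := by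
      intro a b h
      have h1 : a * b * a = a * a * b := by rw [mul_assoc, ← h, ← mul_assoc]
      have h2 : b * a * a = a * a * b := by rw [← h, h1]
      have h3 : b * b * a = a * b * b := by rw [mul_assoc, ← h, ← mul_assoc, ← h]
      have h4 : b * a * b = a * b * b := by rw [← h]
      calc (a + b) ^ 3 = a ^ 3 + b ^ 3 + (a * a * b + a * b * a + a * b * b + b * a * a + b * a * b + b * b * a) := by
            noncomm_ring
        _ = _ := by rw [h1, h2, h3, h4]; abel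
    rw [expand _ _ hc, M.three_smul_end, add_zero]

variable [Finite X] [Finite U]

/-- Semisimplicity. -/
theorem fix_of_sq_fix {x : X} (hx : ¬ 3 ∣ orderOf x) {u : U}
    (h : M.ρ x (M.ρ x u - u) - (M.ρ x u - u) = 0) : M.ρ x u = u := by
  rw [sub_eq_zero] at h
  set d := M.ρ x u - u with hd
  have hfix : ∀ i : ℕ, M.ρ (x ^ i) d = d := by
    intro i
    induction i with
    | zero => rw [pow_zero, M.one_apply']
    | succ i ih => rw [pow_succ, M.mul_apply', h, ih]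
  have hk : ∀ i : ℕ, M.ρ (x ^ i) u = u + i • d := by
    intro i
    induction i with
    | zero => rw [pow_zero, M.one_apply', zero_smul, add_zero]
    | succ i ih =>
      rw [pow_succ, M.mul_apply', show M.ρ x u = u + d by rw [hd]; abel, map_add, ih, hfix, succ_nsmul]
      abel
  have h0 := hk (orderOf x)
  rw [pow_orderOf_eq_one, M.one_apply'] at h0
  have h1 : orderOf x • d = 0 := by simpa using h0.symm
  have h3 : 3 • d = 0 := by rw [show 3 • d = d + d + d by abel, M.three]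
  have hd0 : d = 0 := by
    have h2 : addOrderOf d ∣ Nat.gcd (orderOf x) 3 :=
      Nat.dvd_gcd (addOrderOf_dvd_iff_nsmul_eq_zero.2 h1) (addOrderOf_dvd_iff_nsmul_eq_zero.2 h3)
    rw [((Nat.prime_three.coprime_iff_not_dvd.2 hx).symm).gcd_eq_one, Nat.dvd_one] at h2
    exact AddMonoid.addOrderOf_eq_one_iff.1 h2
  exact sub_eq_zero.1 hd0

/-- The hypotheses on `B`. -/
structure Sub (B : Subgroup X) : Prop where
  comm : ∀ a ∈ B, ∀ b ∈ B, Commute a b
  stable : ∀ a ∈ B, M.τ a ∈ B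
  coprime : ∀ a ∈ B, ¬ 3 ∣ orderOf a
  scalar : ∀ b ∈ B, M.τ b = b⁻¹ → ∀ u₀, M.T u₀ = u₀ → u₀ ≠ 0 → M.gam b u₀ = u₀ + u₀ →
    ∀ u, M.T u = u → M.gam b u = u + u

/-- An invariant subgroup. -/
def Inv (B : Subgroup X) (W : AddSubgroup U) : Prop := ∀ a ∈ B, ∀ u ∈ W, M.ρ a u ∈ W

variable {B : Subgroup X} (hB : M.Sub B)
include hB

omit [Finite X] [Finite U] in
theorem ker_inv (a : X) (ha : a ∈ B) (W : AddSubgroup U) (hW : M.Inv B W) :
    M.Inv B (W ⊓ (M.ρ a - 1 : AddMonoid.End U).ker) := by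
  rintro e he u ⟨huW, hu⟩
  refine ⟨hW e he u huW, ?_⟩
  have hu' : M.ρ a u = u := sub_eq_zero.1 hu
  refine sub_eq_zero.2 ?_
  show M.ρ a (M.ρ e u) = M.ρ e u
  rw [← M.mul_apply', (hB.comm a ha e he).eq, M.mul_apply', hu']

/-- A minimal invariant subgroup on which `b` is fixed point free. -/
theorem exists_minimal {b : X} (hb : b ∈ B) (hb1 : b ≠ 1) : ∃ W : AddSubgroup U, W ≠ ⊥ ∧ M.Inv B W ∧
    (∀ W' : AddSubgroup U, W' ≤ W → W' ≠ ⊥ → M.Inv B W' → W' = W) ∧
    ∀ u ∈ W, M.ρ b u = u → u = 0 := by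
  set I := (M.ρ b - 1 : AddMonoid.End U).range with hI
  have hIne : I ≠ ⊥ := fun h => hb1 (M.inj (DFunLike.ext _ _ fun u => by
    have : (M.ρ b - 1 : AddMonoid.End U) u ∈ I := ⟨u, rfl⟩
    rw [h, AddSubgroup.mem_bot] at this
    rw [map_one]
    exact sub_eq_zero.1 this))
  have hIinv : M.Inv B I := by
    rintro a ha _ ⟨u, rfl⟩
    refine ⟨M.ρ a u, ?_⟩
    show M.ρ b (M.ρ a u) - M.ρ a u = M.ρ a (M.ρ b u - u)
    rw [map_sub, ← M.mul_apply', ← M.mul_apply', (hB.comm a ha b hb).eq]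
  obtain ⟨W, ⟨hWI, hWne, hWinv⟩, hmin⟩ := Set.exists_min_image
    {W : AddSubgroup U | W ≤ I ∧ W ≠ ⊥ ∧ M.Inv B W} (fun W => Nat.card W) (Set.toFinite _)
    ⟨I, le_rfl, hIne, hIinv⟩
  refine ⟨W, hWne, hWinv, fun W' h1 h2 h3 => ?_, fun u hu hfix => ?_⟩
  · exact AddSubgroup.eq_of_le_of_card_ge h1 (hmin W' ⟨h1.trans hWI, h2, h3⟩)
  · obtain ⟨v, rfl⟩ := hWI hu
    change M.ρ b (M.ρ b v - v) = M.ρ b v - v at hfix
    show M.ρ b v - v = 0
    exact sub_eq_zero.2 (M.fix_of_sq_fix (hB.coprime b hb) (sub_eq_zero.2 hfix))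

omit [Finite X] [Finite U] in
theorem T_moves {b : X} (hinv : M.τ b = b⁻¹) (hodd : Odd (orderOf b)) {W : AddSubgroup U}
    (hW : W ≠ ⊥) (hWb : ∀ u ∈ W, M.ρ b u ∈ W) (hfree : ∀ u ∈ W, M.ρ b u = u → u = 0) :
    ∃ w ∈ W, w + M.T w ≠ 0 := by
  by_contra hc
  push Not at hc
  obtain ⟨w, hw, hw0⟩ := (AddSubgroup.bot_or_exists_ne_zero W).resolve_left hW
  refine hw0 (hfree w hw ?_)
  have h1 : ∀ u ∈ W, M.T u = -u := fun u hu => eq_neg_of_add_eq_zero_right (hc u hu)
  have h2 : M.ρ b⁻¹ w = M.ρ b w := by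
    have h := h1 _ (hWb w hw)
    rw [T_apply, hinv, h1 w hw, map_neg] at h
    exact neg_inj.1 h
  have h3 : M.ρ (b ^ 2) w = w := by rw [pow_two, M.mul_apply', ← h2, M.apply_inv']
  obtain ⟨k, hk⟩ := hodd
  have h4 : ∀ i : ℕ, M.ρ ((b ^ 2) ^ i) w = w := by
    intro i
    induction i with
    | zero => rw [pow_zero, M.one_apply']
    | succ i ih => rw [pow_succ, M.mul_apply', h3, ih]
  have h5 := h4 (k + 1)
  rwa [← pow_mul, show 2 * (k + 1) = orderOf b + 1 by omega, pow_succ, pow_orderOf_eq_one, one_mul] at h5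

omit [Finite X] in
/-- An operator vanishing on the fixed points vanishes on a minimal piece which `T` moves. -/
theorem vanish {W : AddSubgroup U} (hWinv : M.Inv B W)
    (hmin : ∀ W' : AddSubgroup U, W' ≤ W → W' ≠ ⊥ → M.Inv B W' → W' = W) (Δ : AddMonoid.End U)
    (hΔW : ∀ u ∈ W, Δ u ∈ W) (hΔB : ∀ a ∈ B, ∀ u, Δ (M.ρ a u) = M.ρ a (Δ u))
    (hΔT : ∀ u, M.T (Δ u) = Δ (M.T u)) (hΔ0 : ∀ u, M.T u = u → Δ u = 0)
    (hmov : ∃ w ∈ W, w + M.T w ≠ 0) : ∀ u ∈ W, Δ u = 0 := by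
  obtain ⟨w₀, hw₀, hne⟩ := hmov
  have hfix : ∀ w, Δ w + M.T (Δ w) = 0 := fun w => by
    rw [hΔT, ← map_add]
    exact hΔ0 _ (by rw [map_add, M.sq, add_comm])
  let TW : AddSubgroup U := W.map M.T
  have hTW : M.Inv B TW := by
    rintro a ha _ ⟨u, hu, rfl⟩
    refine ⟨M.ρ (M.τ a) u, hWinv _ (hB.stable a ha) u hu, ?_⟩
    show M.T (M.ρ (M.τ a) u) = M.ρ a (M.T u)
    rw [T_apply, M.invol]
  rcases eq_or_ne (W ⊓ TW) ⊥ with h | h
  · intro u hu
    have h1 : Δ u ∈ TW := ⟨-Δ u, neg_mem (hΔW u hu), by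
      show M.T (-Δ u) = Δ u
      rw [map_neg]; exact neg_eq_of_add_eq_zero_right (by rw [add_comm]; exact hfix u)⟩
    have h2 : Δ u ∈ W ⊓ TW := ⟨hΔW u hu, h1⟩
    rwa [h, AddSubgroup.mem_bot] at h2
  · have hWT : W ≤ TW := inf_eq_left.1 (hmin _ inf_le_left h fun a ha u hu => ⟨hWinv a ha u hu.1, hTW a ha u hu.2⟩)
    have hKne : W ⊓ Δ.ker ≠ ⊥ := by
      intro h0
      obtain ⟨v, hv, hvw⟩ := hWT hw₀
      have hvw' : M.T v = w₀ := hvw
      have hmem : w₀ + M.T w₀ ∈ W ⊓ Δ.ker := ⟨add_mem hw₀ (by rw [← hvw', M.sq]; exact hv),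
        hΔ0 _ (by rw [map_add, M.sq, add_comm])⟩
      rw [h0, AddSubgroup.mem_bot] at hmem
      exact hne hmem
    have hK := hmin _ inf_le_left hKne fun a ha u hu =>
      ⟨hWinv a ha u hu.1, show Δ (M.ρ a u) = 0 by rw [hΔB a ha, show Δ u = 0 from hu.2, map_zero]⟩
    exact fun u hu => (inf_eq_left.1 hK hu : u ∈ Δ.ker)

/-- An inverted element with `b + b⁻¹ = 2` on the fixed points is trivial. -/
theorem eq_one_of_gam {b : X} (hb : b ∈ B) (hinv : M.τ b = b⁻¹) (hodd : Odd (orderOf b))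
    (hg : ∀ u, M.T u = u → M.gam b u = u + u) : b = 1 := by
  by_contra hb1
  obtain ⟨W, hWne, hWinv, hmin, hfree⟩ := M.exists_minimal hB hb hb1
  have hmov := M.T_moves hB hinv hodd hWne (hWinv b hb) hfree
  have hΔ := M.vanish hB hWinv hmin (M.gam b - (1 + 1))
    (fun u hu => sub_mem (add_mem (hWinv b hb u hu) (hWinv _ (inv_mem hb) u hu)) (add_mem hu hu))
    (fun a ha u => by
      show M.gam b (M.ρ a u) - (M.ρ a u + M.ρ a u) = M.ρ a (M.gam b u - (u + u))
      rw [map_sub, map_add, gam_apply, gam_apply, map_add, ← M.mul_apply', ← M.mul_apply',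
        (hB.comm b hb a ha).eq, (hB.comm b⁻¹ (inv_mem hb) a ha).eq, M.mul_apply', M.mul_apply'])
    (fun u => by
      show M.T (M.gam b u - (u + u)) = M.gam b (M.T u) - (M.T u + M.T u)
      rw [map_sub, map_add, M.gam_T hinv])
    (fun u hu => sub_eq_zero.2 (hg u hu)) hmov
  obtain ⟨w, hw, hw0⟩ := (AddSubgroup.bot_or_exists_ne_zero W).resolve_left hWne
  refine hw0 (hfree w hw (M.fix_of_sq_fix (hB.coprime b hb) ?_))
  have h := hΔ w hw
  change M.ρ b w + M.ρ b⁻¹ w - (w + w) = 0 at h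
  have h2 := congrArg (M.ρ b) h
  rw [map_sub, map_add, map_add, map_zero, M.apply_inv'] at h2
  rw [map_sub]
  rw [← h2]
  abel

/-- The values on the fixed points determine an inverted element up to inversion. -/
theorem eq_or_eq_inv {b c : X} (hb : b ∈ B) (hc : c ∈ B) (hib : M.τ b = b⁻¹) (hic : M.τ c = c⁻¹)
    (hodd : ∀ a ∈ B, Odd (orderOf a)) (hg : ∀ u, M.T u = u → M.gam c u = M.gam b u) :
    c = b ∨ c = b⁻¹ := by
  rcases eq_or_ne b 1 with rfl | hb1
  · left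
    exact M.eq_one_of_gam hB hc hic (hodd c hc) fun u hu => by rw [hg u hu, gam_one]
  obtain ⟨W, hWne, hWinv, hmin, hfree⟩ := M.exists_minimal hB hb hb1
  have hmov := M.T_moves hB hib (hodd b hb) hWne (hWinv b hb) hfree
  -- inverted elements fixing `W` are trivial
  have htriv : ∀ e ∈ B, M.τ e = e⁻¹ → (∀ u ∈ W, M.ρ e u = u) → e = 1 := by
    intro e he hie hfe
    obtain ⟨w, hw, hwne⟩ := hmov
    have h1 : ∀ e' : X, M.τ e' = e'⁻¹ → (∀ u ∈ W, M.ρ e'⁻¹ u = u) → M.ρ e' (M.T w) = M.T w := by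
      intro e' hie' hfe'
      have := M.T_apply e'⁻¹ w
      rw [hfe' w hw, map_inv M.τ, hie', inv_inv] at this
      exact this.symm
    have hfei : ∀ u ∈ W, M.ρ e⁻¹ u = u := fun u hu => by
      conv_lhs => rw [← hfe u hu]
      rw [M.inv_apply']
    refine M.eq_one_of_gam hB he hie (hodd e he) (hB.scalar e he hie (w + M.T w)
      (by rw [map_add, M.sq, add_comm]) hwne ?_)
    rw [gam_apply, map_add, map_add, hfe w hw, hfei w hw, h1 e hie hfei,
      h1 e⁻¹ (by rw [map_inv, hie]) (fun u hu => by rw [inv_inv]; exact hfe u hu)]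
  have hcomm' : ∀ x ∈ B, ∀ a ∈ B, ∀ u, M.ρ x (M.ρ a u) = M.ρ a (M.ρ x u) := fun x hx a ha u => by
    rw [← M.mul_apply', ← M.mul_apply', (hB.comm x hx a ha).eq]
  have hΔ := M.vanish hB hWinv hmin (M.gam b - M.gam c)
    (fun u hu => sub_mem (add_mem (hWinv b hb u hu) (hWinv _ (inv_mem hb) u hu))
      (add_mem (hWinv c hc u hu) (hWinv _ (inv_mem hc) u hu)))
    (fun a ha u => by
      show M.gam b (M.ρ a u) - M.gam c (M.ρ a u) = M.ρ a (M.gam b u - M.gam c u)
      rw [map_sub, gam_apply, gam_apply, gam_apply, gam_apply, map_add, map_add, hcomm' b hb a ha,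
        hcomm' b⁻¹ (inv_mem hb) a ha, hcomm' c hc a ha, hcomm' c⁻¹ (inv_mem hc) a ha])
    (fun u => by
      show M.T (M.gam b u - M.gam c u) = M.gam b (M.T u) - M.gam c (M.T u)
      rw [map_sub, M.gam_T hib, M.gam_T hic])
    (fun u hu => sub_eq_zero.2 (hg u hu).symm) hmov
  set g := b * c
  set g' := b * c⁻¹
  have hgB : g ∈ B := mul_mem hb hc
  have hg'B : g' ∈ B := mul_mem hb (inv_mem hc)
  have hprod : ∀ u ∈ W, M.ρ g' (M.ρ g u - u) = M.ρ g u - u := by
    intro u hu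
    rw [map_sub, ← sub_eq_zero]
    have h := congrArg (M.ρ b) (hΔ u hu)
    change M.ρ b (M.ρ b u + M.ρ b⁻¹ u - (M.ρ c u + M.ρ c⁻¹ u)) = M.ρ b 0 at h
    rw [map_zero, map_sub, map_add, map_add, M.apply_inv', ← M.mul_apply', ← M.mul_apply',
      ← M.mul_apply'] at h
    rw [← M.mul_apply', show g' * g = b * b by
      show b * c⁻¹ * (b * c) = b * b
      rw [mul_assoc, ← mul_assoc c⁻¹ b c, (hB.comm c⁻¹ (inv_mem hc) b hb).eq]; group]
    rw [← h]
    abel
  have hinvb : M.τ g = g⁻¹ := by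
    rw [map_mul, hib, hic, mul_inv_rev, (hB.comm b⁻¹ (inv_mem hb) c⁻¹ (inv_mem hc)).eq]
  have hinvb' : M.τ g' = g'⁻¹ := by
    rw [map_mul, map_inv, hib, hic, mul_inv_rev, (hB.comm b⁻¹ (inv_mem hb) c⁻¹⁻¹ (inv_mem (inv_mem hc))).eq]
  rcases eq_or_ne (W ⊓ (M.ρ g - 1 : AddMonoid.End U).ker) ⊥ with h | h
  · left
    refine (mul_inv_eq_one.1 (htriv g' hg'B hinvb' fun u hu => ?_)).symm
    let f : W →+ W := ((M.ρ g - 1 : AddMonoid.End U).comp W.subtype).codRestrict W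
      fun x => sub_mem (hWinv g hgB x x.2) x.2
    have hf : Function.Injective f := by
      refine (injective_iff_map_eq_zero f).2 fun x hx => Subtype.ext ?_
      have hx' : (x : U) ∈ W ⊓ (M.ρ g - 1 : AddMonoid.End U).ker := ⟨x.2, congrArg Subtype.val hx⟩
      rw [h, AddSubgroup.mem_bot] at hx'
      exact hx'
    obtain ⟨⟨v, hv⟩, hvu⟩ := (Finite.injective_iff_surjective.1 hf) ⟨u, hu⟩
    have hvu' : M.ρ g v - v = u := congrArg Subtype.val hvu
    rw [← hvu']
    exact hprod v hv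
  · right
    have h' := hmin _ inf_le_left h (M.ker_inv hB g hgB W hWinv)
    exact eq_inv_of_mul_eq_one_right (htriv g hgB hinvb fun u hu => sub_eq_zero.1 (inf_eq_left.1 h' hu : u ∈ _))

/-- Two inverted elements of prime order `s` generate the same subgroup. -/
theorem mem_zpowers_of_prime {s : ℕ} [hs : Fact s.Prime] {b c : X} (hb : b ∈ B) (hc : c ∈ B)
    (hib : M.τ b = b⁻¹) (hic : M.τ c = c⁻¹) (hb1 : b ≠ 1) (hbs : b ^ s = 1) (hcs : c ^ s = 1)
    (hodd : ∀ a ∈ B, Odd (orderOf a)) : c ∈ Subgroup.zpowers b := by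
  classical
  by_contra hcb
  haveI : NeZero s := ⟨hs.out.ne_zero⟩
  obtain ⟨W, hWne, hWinv, hmin, hfree⟩ := M.exists_minimal hB hb hb1
  have hmov := M.T_moves hB hib (hodd b hb) hWne (hWinv b hb) hfree
  have htriv : ∀ e ∈ B, M.τ e = e⁻¹ → (∀ u ∈ W, M.ρ e u = u) → e = 1 := by
    intro e he hie hfe
    obtain ⟨w, hw, hwne⟩ := hmov
    have hfei : ∀ u ∈ W, M.ρ e⁻¹ u = u := fun u hu => by
      conv_lhs => rw [← hfe u hu]
      rw [M.inv_apply']
    have h1 : M.ρ e (M.T w) = M.T w := by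
      have := M.T_apply e⁻¹ w
      rw [hfei w hw, map_inv M.τ, hie, inv_inv] at this
      exact this.symm
    have h1' : M.ρ e⁻¹ (M.T w) = M.T w := by conv_lhs => rw [← h1]; rw [M.inv_apply']
    refine M.eq_one_of_gam hB he hie (hodd e he) (hB.scalar e he hie (w + M.T w)
      (by rw [map_add, M.sq, add_comm]) hwne ?_)
    rw [gam_apply, map_add, map_add, hfe w hw, hfei w hw, h1, h1']
  have hcbi : ∀ i : ℕ, Commute (b ^ i) c := fun i => (hB.comm b hb c hc).pow_left i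
  have hfree' : ∀ i : ZMod s, ∀ u ∈ W, M.ρ (b ^ i.val * c) u = u → u = 0 := by
    intro i u hu hfu
    by_contra hu0
    have heB : b ^ i.val * c ∈ B := mul_mem (pow_mem hb _) hc
    have h : W ⊓ (M.ρ (b ^ i.val * c) - 1 : AddMonoid.End U).ker ≠ ⊥ := fun h0 => hu0 (by
      have : u ∈ W ⊓ (M.ρ (b ^ i.val * c) - 1 : AddMonoid.End U).ker := ⟨hu, sub_eq_zero.2 hfu⟩
      rwa [h0, AddSubgroup.mem_bot] at this)
    have h' := hmin _ inf_le_left h (M.ker_inv hB _ heB W hWinv)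
    have he1 := htriv _ heB (by rw [map_mul, map_pow, hib, hic, mul_inv_rev, inv_pow,
        ((hcbi i.val).inv_left.inv_right).eq])
      fun v hv => sub_eq_zero.1 (inf_eq_left.1 h' hv : v ∈ _)
    exact hcb (eq_inv_of_mul_eq_one_right he1 ▸ inv_mem (pow_mem (Subgroup.mem_zpowers b) _))
  -- the orbit sums
  have key : ∀ e ∈ B, e ^ s = 1 → (∀ u ∈ W, M.ρ e u = u → u = 0) →
      ∀ u ∈ W, ∑ j : ZMod s, M.ρ (e ^ j.val) u = 0 := by
    intro e he hes hf u hu
    refine hf _ (sum_mem fun j _ => hWinv _ (pow_mem he _) u hu) ?_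
    rw [map_sum]
    refine Fintype.sum_equiv (Equiv.addLeft 1) _ _ fun j => ?_
    rw [← M.mul_apply', ← pow_succ']
    congr 2
    have : ((j.val + 1 : ℕ) : ZMod s) = 1 + j := by push_cast; simp [add_comm]
    rw [pow_eq_pow_mod _ hes, ← ZMod.val_natCast, this]
    rfl
  obtain ⟨w, hw, hw0⟩ := (AddSubgroup.bot_or_exists_ne_zero W).resolve_left hWne
  have hb' := key b hb hbs fun u hu => hfree u hu
  have hsum : ∑ i : ZMod s, ∑ j : ZMod s, M.ρ ((b ^ i.val * c) ^ j.val) w = 0 :=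
    Finset.sum_eq_zero fun i _ => key _ (mul_mem (pow_mem hb _) hc)
      (by rw [(hcbi _).mul_pow, ← pow_mul, mul_comm, pow_mul, hbs, one_pow, hcs, one_mul])
      (hfree' i) w hw
  rw [Finset.sum_comm, ← Finset.add_sum_erase Finset.univ _ (Finset.mem_univ (0 : ZMod s)),
    Finset.sum_eq_zero (s := Finset.univ.erase (0 : ZMod s)) fun j hj => ?_, add_zero] at hsum
  · simp only [ZMod.val_zero, pow_zero, M.one_apply', Finset.sum_const, Finset.card_univ, ZMod.card] at hsum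
    have h3 : 3 • w = 0 := by rw [show 3 • w = w + w + w by abel, M.three]
    have h2 : addOrderOf w ∣ Nat.gcd s 3 :=
      Nat.dvd_gcd (addOrderOf_dvd_iff_nsmul_eq_zero.2 hsum) (addOrderOf_dvd_iff_nsmul_eq_zero.2 h3)
    have hs3 : s ≠ 3 := fun e => hB.coprime b hb (by rw [orderOf_eq_prime hbs hb1, e])
    rw [((Nat.coprime_primes hs.out Nat.prime_three).2 hs3).gcd_eq_one, Nat.dvd_one] at h2
    exact hw0 (AddMonoid.addOrderOf_eq_one_iff.1 h2)
  · have hj0 : j ≠ 0 := (Finset.mem_erase.1 hj).1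
    rw [← hb' (M.ρ (c ^ j.val) w) (hWinv _ (pow_mem hc _) w hw)]
    refine Fintype.sum_equiv (Equiv.mulRight₀ j hj0) _ _ fun i => ?_
    rw [(hcbi _).mul_pow, M.mul_apply', ← pow_mul]
    simp [ZMod.val_mul, ← pow_eq_pow_mod _ hbs]

end Mod3

end CfsgLib.Walter.Three
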