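import Cfsg.Agent.Lib.Walter.Three.Comm
import Cfsg.Agent.Lib.Walter.Three.Gamma
import Cfsg.Agent.Lib.Coprime.Solvable
import Cfsg.Agent.Lib.Coprime.Fitting
import Mathlib.LinearAlgebra.Determinant
import Mathlib.FieldTheory.Finite.Basic

/-!
# An odd group acting on a module with the fixed points of an involution a semilinear line

Either a character of the group separates a given fixed `3`-element `d`, or `d` centralizes an inverted
element of order prime to three, or `d` centralizes a central element of the torus.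
-/

set_option autoImplicit false
set_option linter.unusedSectionVars false
set_option linter.style.haveILetI false

namespace CfsgLib.Walter.Three

open Subgroup

universe u v

/-- The hypotheses. -/
structure VData (X : Type u) [Group X] (U : Type v) [AddCommGroup U] (F : Type) [Field F] extends Mod3 X U where
  ι : F →+ U
  ι_inj : Function.Injective ι
  fix_iff : ∀ u, T u = u ↔ ∃ x, ι x = u
  n : ℕ
  hcard : Nat.card F = 3 ^ n
  μ : F
  μ_ne : μ ≠ 0
  μ_gen : ∀ c, 1 ≤ c → c ≤ n → ∀ K : Subfield F, μ ^ c ∈ K → K = ⊤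
  w : X
  d : X
  g : ℕ
  w_fix : τ w = w
  d_fix : τ d = d
  w_act : ∀ x, ρ w (ι x) = ι (μ * x)
  f : F → F
  d_act : ∀ x, ρ d (ι x) = ι (f x)
  f_semi : ∀ c x, f (c * x) = c ^ 3 ^ g * f x
  fixed : ∀ x, τ x = x → ∃ i k : ℕ, x = w ^ i * d ^ k
  dwd : d * w * d⁻¹ = w ^ 3 ^ g
  d_order : ∃ a, d ^ 3 ^ a = 1
  w_order : ¬ 3 ∣ orderOf w
  odd : Odd (Nat.card X)
  solvable : Group.IsSolvable X
  core : Cfsg.pCore 3 X = ⊥
  d_ne : d ≠ 1

namespace VData

variable {X : Type u} [Group X] [Finite X] {U : Type v} [AddCommGroup U] [Finite U] {F : Type} [Field F]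
  [Finite F] [CharP F 3] (W : VData X U F)

/-- An elementary abelian normal invariant subgroup of order prime to three. -/
structure Elem (B : Subgroup X) (s : ℕ) : Prop where
  prime : s.Prime
  ne_three : s ≠ 3
  normal : B.Normal
  comm : ∀ a ∈ B, ∀ b ∈ B, Commute a b
  exp : ∀ a ∈ B, a ^ s = 1
  stable : ∀ a ∈ B, W.τ a ∈ B

theorem exists_elem : ∃ (B : Subgroup X) (s : ℕ), B ≠ ⊥ ∧ W.Elem B s := by
  haveI := W.solvable
  set F := Cfsg.fittingSubgroup X
  haveI hFn : F.Normal := CfsgLib.Coprime.fitting_normal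
  haveI := CfsgLib.Coprime.fitting_isNilpotent (G := X)
  haveI hFt : Nontrivial F := by
    rw [nontrivial_iff_ne_bot]
    intro h
    have h1 := CfsgLib.Coprime.centralizer_fitting_le (G := X)
      (show W.d ∈ centralizer (Cfsg.fittingSubgroup X : Set X) from mem_centralizer_iff.2 fun y hy => by
        have hy' : y ∈ F := hy
        rw [h, mem_bot] at hy'
        rw [hy', one_mul, mul_one])
    have h2 : W.d ∈ F := h1
    rw [h, mem_bot] at h2
    exact W.d_ne h2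
  obtain ⟨s, hs, hsd⟩ := Nat.exists_prime_and_dvd (n := Nat.card (center F))
    (by
      haveI : Nontrivial (center F) := (Subgroup.nontrivial_iff_ne_bot _).2 (Group.IsNilpotent.center_ne_bot F)
      exact Finite.one_lt_card.ne')
  haveI := Fact.mk hs
  let B : Subgroup X :=
    { carrier := {x | x ∈ F ∧ x ^ s = 1 ∧ ∀ y ∈ F, Commute x y}
      one_mem' := ⟨one_mem _, one_pow _, fun y _ => Commute.one_left y⟩
      mul_mem' := fun {a b} ha hb => ⟨mul_mem ha.1 hb.1, by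
        rw [(show Commute a b from ha.2.2 b hb.1).mul_pow, ha.2.1, hb.2.1, one_mul],
        fun y hy => (ha.2.2 y hy).mul_left (hb.2.2 y hy)⟩
      inv_mem' := fun {a} ha => ⟨inv_mem ha.1, by rw [inv_pow, ha.2.1, inv_one],
        fun y hy => (ha.2.2 y hy).inv_left⟩ }
  have hBne : B ≠ ⊥ := by
    obtain ⟨z, hz⟩ := exists_prime_orderOf_dvd_card' (G := center F) s hsd
    intro h
    have hzB : ((z : F) : X) ∈ B := ⟨(z : F).2, by
      rw [← Subgroup.coe_pow, ← Subgroup.coe_pow, ← hz, pow_orderOf_eq_one]; rfl,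
      fun y hy => congrArg Subtype.val ((Subgroup.mem_center_iff.1 z.2 ⟨y, hy⟩).symm)⟩
    rw [h, mem_bot] at hzB
    rw [← Subgroup.orderOf_coe, ← Subgroup.orderOf_coe, hzB, orderOf_one] at hz
    exact hs.ne_one hz.symm
  have hBn : B.Normal := by
    refine ⟨fun x hx g => ⟨hFn.conj_mem x hx.1 g, ?_, fun y hy => ?_⟩⟩
    · rw [conj_pow, hx.2.1, mul_one, mul_inv_cancel]
    · have h := hx.2.2 (g⁻¹ * y * g) (by simpa using hFn.conj_mem y hy g⁻¹)
      have h2 : Commute (g * x * g⁻¹) (g * (g⁻¹ * y * g) * g⁻¹) := h.map (MulAut.conj g).toMonoidHom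
      rwa [show g * (g⁻¹ * y * g) * g⁻¹ = y by group] at h2
  have hBτ : ∀ a ∈ B, W.τ a ∈ B := by
    intro a ha
    have hF : ∀ y ∈ F, W.τ y ∈ F := fun y hy => (CfsgLib.Coprime.map_fitting_equiv W.τ).le ⟨y, hy, rfl⟩
    refine ⟨hF a ha.1, by rw [← map_pow, ha.2.1, map_one], fun y hy => ?_⟩
    have h := (ha.2.2 _ (hF y hy)).map W.τ.toMonoidHom
    rwa [MulEquiv.coe_toMonoidHom, W.invol] at h
  refine ⟨B, s, hBne, hs, ?_, hBn, fun a ha b hb => ha.2.2 b hb.1, fun a ha => ha.2.1, hBτ⟩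
  rintro rfl
  haveI := hBn
  exact hBne (le_bot_iff.1 ((CfsgLib.Coprime.le_pCore (G := X) (fun a => ⟨1, Subtype.ext (by
    rw [pow_one]; exact a.2.2.1)⟩)).trans W.core.le))

variable {B : Subgroup X} {s : ℕ} (hB : W.Elem B s)
include hB

theorem odd_order (a : X) : Odd (orderOf a) := W.odd.of_dvd_nat (orderOf_dvd_natCard a)

theorem coprime_order {a : X} (ha : a ∈ B) : ¬ 3 ∣ orderOf a := fun h => hB.ne_three
  ((Nat.prime_dvd_prime_iff_eq Nat.prime_three hB.prime).1 (h.trans (orderOf_dvd_of_pow_eq_one (hB.exp a ha)))).symm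

theorem conj_w_mem {b : X} (hb : b ∈ B) (g : X) : g * b * g⁻¹ ∈ B := hB.normal.conj_mem b hb g

/-- The values are multiplications. -/
theorem exists_scalar {b : X} (hb : b ∈ B) (hib : W.τ b = b⁻¹) :
    ∃ g : F, ∀ x, W.gam b (W.ι x) = W.ι (g * x) := by
  classical
  haveI := Fact.mk hB.prime
  let S : Set (AddMonoid.End F) :=
    {h | ∃ c ∈ B, W.τ c = c⁻¹ ∧ ∀ x, W.gam c (W.ι x) = W.ι (h x)}
  obtain ⟨h₀, hh₀⟩ : ∃ h : AddMonoid.End F, ∀ x, W.gam b (W.ι x) = W.ι (h x) := by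
    have hx : ∀ x, ∃ y, W.ι y = W.gam b (W.ι x) := fun x =>
      (W.fix_iff _).1 (by rw [W.gam_T hib, (W.fix_iff _).2 ⟨x, rfl⟩])
    choose y hy using hx
    exact ⟨AddMonoidHom.mk' y fun a c => W.ι_inj (by rw [map_add, hy, hy, hy, map_add, map_add]),
      fun x => (hy x).symm⟩
  have hm1 : 1 ≤ s - 1 := by have := hB.prime.two_le; omega
  have hpow : ∀ c ∈ B, c ^ 3 ^ (s - 1) = c := by
    intro c hc
    have h3 : (3 : ZMod s) ≠ 0 := fun e => by
      rw [show (3 : ZMod s) = ((3 : ℕ) : ZMod s) by norm_num, ZMod.natCast_eq_zero_iff] at e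
      exact hB.ne_three ((Nat.prime_dvd_prime_iff_eq hB.prime Nat.prime_three).1 e)
    have h1 : ((3 ^ (s - 1) : ℕ) : ZMod s) = ((1 : ℕ) : ZMod s) := by
      push_cast; exact ZMod.pow_card_sub_one_eq_one h3
    rw [pow_eq_pow_mod _ (hB.exp c hc), (ZMod.natCast_eq_natCast_iff' _ _ _).1 h1, ← pow_eq_pow_mod _ (hB.exp c hc),
      pow_one]
  have key : ∀ h ∈ S, h = mulEnd (h 1) := by
    refine forall_eq_mulEnd W.hcard W.μ_ne W.μ_gen S ?_ hm1 ?_ ?_
    · rintro h ⟨c, hc, -, hh⟩ h' ⟨c', hc', -, hh'⟩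
      refine DFunLike.ext _ _ fun x => W.ι_inj ?_
      show W.ι (h (h' x)) = W.ι (h' (h x))
      rw [← hh, ← hh', ← hh', ← hh]
      simp only [Mod3.gam_apply, map_add, ← Mod3.mul_apply']
      rw [(hB.comm c hc c' hc').eq, (hB.comm c⁻¹ (inv_mem hc) c' hc').eq,
        (hB.comm c hc c'⁻¹ (inv_mem hc')).eq, (hB.comm c⁻¹ (inv_mem hc) c'⁻¹ (inv_mem hc')).eq]
      abel
    · rintro h ⟨c, hc, -, hh⟩
      have hk : ∀ (k : ℕ) (x : F), (W.gam c ^ k) (W.ι x) = W.ι ((h ^ k) x) := by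
        intro k
        induction k with
        | zero => intro x; rw [pow_zero, pow_zero]; rfl
        | succ k ih =>
          intro x
          rw [pow_succ, pow_succ]
          show (W.gam c ^ k) (W.gam c (W.ι x)) = W.ι ((h ^ k) (h x))
          rw [hh, ih]
      refine DFunLike.ext _ _ fun x => W.ι_inj ?_
      rw [← hk, Mod3.gam_pow, hpow c hc, hh]
    · rintro h ⟨c, hc, hic, hh⟩
      refine ⟨W.w * c * W.w⁻¹, conj_w_mem W hB hc _, by
        rw [map_mul, map_mul, map_inv, W.w_fix, hic]; group, fun x => ?_⟩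
      rw [Mod3.gam_conj]
      have hwinv : W.ρ W.w⁻¹ (W.ι x) = W.ι (W.μ⁻¹ * x) := by
        rw [← W.inv_apply' W.w (W.ι (W.μ⁻¹ * x)), W.w_act, ← mul_assoc, mul_inv_cancel₀ W.μ_ne, one_mul]
      rw [hwinv, hh, W.w_act]
      rfl
  refine ⟨h₀ 1, fun x => ?_⟩
  rw [hh₀, key h₀ ⟨b, hb, hib, hh₀⟩]
  simp

theorem sub : W.Sub B where
  comm := hB.comm
  stable := hB.stable
  coprime := fun _ ha => coprime_order W hB ha
  scalar := by
    intro b hb hib u₀ hu₀ hne hg u hu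
    obtain ⟨g, hgs⟩ := exists_scalar W hB hb hib
    obtain ⟨x₀, rfl⟩ := (W.fix_iff u₀).1 hu₀
    obtain ⟨x, rfl⟩ := (W.fix_iff u).1 hu
    rw [hgs, ← map_add] at hg
    have h2 : g = 2 := by
      have hx0 : x₀ ≠ 0 := fun e => hne (by rw [e, map_zero])
      refine mul_right_cancel₀ hx0 ?_
      rw [two_mul]
      exact W.ι_inj hg
    rw [hgs, ← map_add, h2, two_mul]

/-- `w` centralizes the inverted elements. -/
theorem commute_w {b : X} (hb : b ∈ B) (hib : W.τ b = b⁻¹) : Commute W.w b := by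
  obtain ⟨g, hg⟩ := exists_scalar W hB hb hib
  set c := W.w * b * W.w⁻¹ with hc
  have hic : W.τ c = c⁻¹ := by rw [hc, map_mul, map_mul, map_inv, W.w_fix, hib]; group
  have hgc : ∀ u, W.T u = u → W.gam c u = W.gam b u := by
    intro u hu
    obtain ⟨x, rfl⟩ := (W.fix_iff u).1 hu
    have hwinv : W.ρ W.w⁻¹ (W.ι x) = W.ι (W.μ⁻¹ * x) := by
      rw [← W.inv_apply' W.w (W.ι (W.μ⁻¹ * x)), W.w_act, ← mul_assoc, mul_inv_cancel₀ W.μ_ne, one_mul]
    rw [hc, Mod3.gam_conj, hwinv, hg, W.w_act, hg]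
    congr 1
    rw [mul_left_comm, ← mul_assoc W.μ, mul_inv_cancel₀ W.μ_ne, one_mul]
  rcases Mod3.eq_or_eq_inv W.toMod3 (sub W hB) hb (conj_w_mem W hB hb _) hib hic
    (fun a _ => odd_order W hB a) hgc with h | h
  · exact mul_inv_eq_iff_eq_mul.1 h
  · have hb1 : b = 1 := Outer.eq_one_of_conj_inv W.odd (m := W.w) h
    rw [hb1]; exact Commute.one_right _

/-- `d` raises the inverted elements to the power `± 3 ^ g`. -/
theorem conj_d {b : X} (hb : b ∈ B) (hib : W.τ b = b⁻¹) :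
    W.d * b * W.d⁻¹ = b ^ 3 ^ W.g ∨ W.d * b * W.d⁻¹ = (b ^ 3 ^ W.g)⁻¹ := by
  obtain ⟨g, hg⟩ := exists_scalar W hB hb hib
  set c := W.d * b * W.d⁻¹ with hc
  have hic : W.τ c = c⁻¹ := by rw [hc, map_mul, map_mul, map_inv, W.d_fix, hib]; group
  have hfs : Function.Surjective W.f := Finite.injective_iff_surjective.1 fun a a' h => W.ι_inj (by
    rw [← W.inv_apply' W.d (W.ι a), W.d_act, h, ← W.d_act, W.inv_apply'])
  have hgc : ∀ u, W.T u = u → W.gam c u = W.gam (b ^ 3 ^ W.g) u := by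
    intro u hu
    obtain ⟨x, rfl⟩ := (W.fix_iff u).1 hu
    obtain ⟨y, rfl⟩ := hfs x
    have hdinv : W.ρ W.d⁻¹ (W.ι (W.f y)) = W.ι y := by rw [← W.d_act, W.inv_apply']
    rw [hc, Mod3.gam_conj, hdinv, hg, W.d_act, W.f_semi, ← Mod3.gam_pow]
    have hk : ∀ (k : ℕ) (z : F), (W.gam b ^ k) (W.ι z) = W.ι (g ^ k * z) := by
      intro k
      induction k with
      | zero => intro z; rw [pow_zero, pow_zero, one_mul]; rfl
      | succ k ih =>
        intro z
        rw [pow_succ, pow_succ]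
        show (W.gam b ^ k) (W.gam b (W.ι z)) = _
        rw [hg, ih, mul_assoc]
    rw [hk]
  exact Mod3.eq_or_eq_inv W.toMod3 (sub W hB) (pow_mem hb _) (conj_w_mem W hB hb _)
    (by rw [map_pow, hib, inv_pow]) hic (fun a _ => odd_order W hB a) hgc

omit hB in
/-- A fixed element of order prime to three is a power of `w`. -/
theorem fixed_mem {x : X} (hx : W.τ x = x) (hx3 : ¬ 3 ∣ orderOf x) : x ∈ zpowers W.w := by
  obtain ⟨i, k, rfl⟩ := W.fixed x hx
  suffices hd : W.d ^ k = 1 by rw [hd, mul_one]; exact pow_mem (mem_zpowers _) _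
  set L := zpowers W.w
  have hLd : ∀ y ∈ L, ∀ j : ℕ, W.d ^ j * y * (W.d ^ j)⁻¹ ∈ L := by
    intro y hy j
    induction j with
    | zero => simpa using hy
    | succ j ih =>
      rw [show W.d ^ (j + 1) * y * (W.d ^ (j + 1))⁻¹ = W.d * (W.d ^ j * y * (W.d ^ j)⁻¹) * W.d⁻¹ by
        rw [pow_succ']; group]
      obtain ⟨l, hl⟩ := mem_zpowers_iff.1 ih
      rw [← hl, ← conj_zpow, W.dwd]
      exact zpow_mem (pow_mem (mem_zpowers _) _) _
  have hm : ∀ N : ℕ, (W.w ^ i * W.d ^ k) ^ N * (W.d ^ (k * N))⁻¹ ∈ L := by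
    intro N
    induction N with
    | zero => simp
    | succ N ih =>
      rw [show (W.w ^ i * W.d ^ k) ^ (N + 1) * (W.d ^ (k * (N + 1)))⁻¹ = W.w ^ i *
          (W.d ^ k * ((W.w ^ i * W.d ^ k) ^ N * (W.d ^ (k * N))⁻¹) * (W.d ^ k)⁻¹) by
        rw [pow_succ', Nat.mul_succ, pow_add, mul_inv_rev]; group]
      exact mul_mem (pow_mem (mem_zpowers _) _) (hLd _ ih k)
  set N := orderOf (W.w ^ i * W.d ^ k) with hN
  have hmem := hm N
  rw [pow_orderOf_eq_one, one_mul, inv_mem_iff] at hmem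
  obtain ⟨a, ha⟩ := W.d_order
  have h1 : W.d ^ (k * N) = 1 := by
    refine orderOf_eq_one_iff.1 (Nat.eq_one_of_dvd_coprimes
      ((Nat.prime_three.coprime_iff_not_dvd.2 W.w_order).pow_left a) (orderOf_dvd_of_pow_eq_one ?_)
      (Nat.card_zpowers W.w ▸ Subgroup.orderOf_dvd_natCard _ hmem))
    rw [← pow_mul, mul_comm, pow_mul, ha, one_pow]
  refine orderOf_eq_one_iff.1 (Nat.eq_one_of_dvd_coprimes
    ((Nat.prime_three.coprime_iff_not_dvd.2 hx3).pow_left a)
    (orderOf_dvd_of_pow_eq_one (by rw [← pow_mul, mul_comm, pow_mul, ha, one_pow]))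
    (orderOf_dvd_of_pow_eq_one ?_))
  rw [← pow_mul, h1]

theorem commute_of_fixed {z : X} (hz : z ∈ B) (hzf : W.τ z = z) : Commute W.w z := by
  obtain ⟨l, hl⟩ := mem_zpowers_iff.1 (fixed_mem W hzf (coprime_order W hB hz))
  exact hl ▸ (Commute.refl W.w).zpow_right l

omit hB in
/-- The trichotomy. -/
theorem exists_det :
    (∃ (s : ℕ) (χ : X →* (ZMod s)ˣ), (∀ x, χ (W.τ x) = χ x) ∧ χ W.d ≠ 1) ∨
    (∃ b, W.τ b = b⁻¹ ∧ b ≠ 1 ∧ ¬ 3 ∣ orderOf b ∧ Commute W.d b ∧ Commute W.w b ∧ (orderOf b).Prime ∧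
      (b ^ 3 ^ W.g = b ∨ b ^ 3 ^ W.g = b⁻¹)) ∨
    (∃ z ∈ zpowers W.w, z ≠ 1 ∧ (orderOf z).Prime ∧ Commute W.d z ∧ ∀ x, Commute x z) := by
  classical
  obtain ⟨B, s, hBne, hB⟩ := W.exists_elem
  haveI := Fact.mk hB.prime
  haveI := hB.normal
  set k := 3 ^ W.g with hk
  obtain ⟨a, ha⟩ := W.d_order
  have hs2 : s ≠ 2 := by
    obtain ⟨⟨x, hx⟩, hx1⟩ := B.ne_bot_iff_exists_ne_one.1 hBne
    intro h
    have hx1' : x ≠ 1 := fun e => hx1 (Subtype.ext e)
    have := odd_order W hB x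
    rw [orderOf_eq_prime (hB.exp x hx) hx1', h] at this
    exact absurd this (by decide)
  -- `d` acts as a power
  have hfixk : ∀ z ∈ B, W.τ z = z → W.d * z * W.d⁻¹ = z ^ k := by
    intro z hz hzf
    obtain ⟨l, hl⟩ := mem_zpowers_iff.1 (fixed_mem W hzf (coprime_order W hB hz))
    rw [← hl, ← conj_zpow, W.dwd, ← zpow_natCast W.w k, ← zpow_natCast (W.w ^ l) k, ← zpow_mul, ← zpow_mul,
      mul_comm]
  have hinvk : ∃ m : ℕ, ((m : ZMod s) = (k : ZMod s) ∨
      ((m : ZMod s) = -(k : ZMod s) ∧ ∃ b₀ ∈ B, W.τ b₀ = b₀⁻¹ ∧ b₀ ≠ 1)) ∧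
      ∀ b ∈ B, W.τ b = b⁻¹ → W.d * b * W.d⁻¹ = b ^ m := by
    by_cases h : ∃ b₀ ∈ B, W.τ b₀ = b₀⁻¹ ∧ b₀ ≠ 1
    · obtain ⟨b₀, hb₀, hib₀, hb₀1⟩ := h
      have hgen : ∀ b ∈ B, W.τ b = b⁻¹ → b ∈ zpowers b₀ := fun b hb hib =>
        Mod3.mem_zpowers_of_prime W.toMod3 (sub W hB) hb₀ hb hib₀ hib hb₀1 (hB.exp _ hb₀) (hB.exp _ hb)
          (fun a _ => odd_order W hB a)
      have hall : ∀ m : ℕ, W.d * b₀ * W.d⁻¹ = b₀ ^ m →
          ∀ b ∈ B, W.τ b = b⁻¹ → W.d * b * W.d⁻¹ = b ^ m := by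
        intro m hm b hb hib
        obtain ⟨l, hl⟩ := mem_zpowers_iff.1 (hgen b hb hib)
        rw [← hl, ← conj_zpow, hm, ← zpow_natCast b₀ m, ← zpow_natCast (b₀ ^ l) m, ← zpow_mul, ← zpow_mul,
          mul_comm]
      rcases conj_d W hB hb₀ hib₀ with h' | h'
      · exact ⟨k, Or.inl rfl, hall k h'⟩
      · refine ⟨k * (s - 1), Or.inr ⟨?_, b₀, hb₀, hib₀, hb₀1⟩, hall _ ?_⟩
        · rw [Nat.cast_mul, Nat.cast_sub hB.prime.one_le, ZMod.natCast_self, zero_sub, Nat.cast_one, mul_neg,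
            mul_one]
        · rw [h', pow_mul]
          refine inv_eq_of_mul_eq_one_right ?_
          rw [← pow_succ', Nat.sub_add_cancel hB.prime.one_le]
          exact hB.exp _ (pow_mem hb₀ _)
    · push Not at h
      exact ⟨k, Or.inl rfl, fun b hb hib => by rw [h b hb hib]; simp⟩
  obtain ⟨m, hmk, hm⟩ := hinvk
  -- the sign
  have hiter : ∀ (e : ℕ) (x : X), W.d * x * W.d⁻¹ = x ^ e → ∀ j : ℕ, W.d ^ j * x * (W.d ^ j)⁻¹ = x ^ e ^ j := by
    intro e x he j
    induction j with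
    | zero => simp
    | succ j ih =>
      rw [show W.d ^ (j + 1) * x * (W.d ^ (j + 1))⁻¹ = W.d * (W.d ^ j * x * (W.d ^ j)⁻¹) * W.d⁻¹ by
        rw [pow_succ']; group, ih, ← conj_pow, he, ← pow_mul, pow_succ']
  have hord : ∀ x ∈ B, x ≠ 1 → ∀ e : ℕ, W.d * x * W.d⁻¹ = x ^ e → ((e : ZMod s)) ^ 3 ^ a = 1 := by
    intro x hx hx1 e he
    have h := hiter e x he (3 ^ a)
    rw [ha, one_mul, inv_one, mul_one] at h
    have h2 : x ^ (e ^ 3 ^ a) = x ^ 1 := by rw [pow_one]; exact h.symm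
    rw [pow_eq_pow_iff_modEq, orderOf_eq_prime (hB.exp x hx) hx1] at h2
    have := (ZMod.natCast_eq_natCast_iff _ _ _).2 h2
    push_cast at this
    exact this
  have hmix : ∀ z ∈ B, W.τ z = z → z ≠ 1 → ∀ b ∈ B, W.τ b = b⁻¹ → b ≠ 1 → (m : ZMod s) = (k : ZMod s) := by
    intro z hz hzf hz1 b hb hib hb1
    refine hmk.resolve_right fun hmk' => ?_
    obtain ⟨hmk', -⟩ := hmk'
    have h1 := hord z hz hz1 k (hfixk z hz hzf)
    have h2 := hord b hb hb1 m (hm b hb hib)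
    rw [hmk', neg_pow, h1, mul_one, Odd.neg_one_pow ((by decide : Odd 3).pow)] at h2
    haveI : Fact (2 < s) := ⟨lt_of_le_of_ne hB.prime.two_le (Ne.symm hs2)⟩
    exact ZMod.neg_one_ne_one h2
  obtain ⟨e, he⟩ : ∃ e : ℕ, ∀ x ∈ B, W.d * x * W.d⁻¹ = x ^ e := by
    rcases hmk with hmk' | ⟨hmk', b₀, hb₀, hib₀, hb₀1⟩
    · have hpm : ∀ x ∈ B, x ^ m = x ^ k := fun x hx => by
        rw [pow_eq_pow_mod m (hB.exp x hx), (ZMod.natCast_eq_natCast_iff' _ _ _).1 hmk',
          ← pow_eq_pow_mod _ (hB.exp x hx)]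
      refine ⟨k, fun x hx => ?_⟩
      obtain ⟨c, i, rfl, hc, hi, hmem⟩ := Outer.exists_fixed_mul_inverted W.odd W.invol x
      obtain ⟨hcB, hiB⟩ := hmem B hx (hB.stable _ hx)
      rw [show W.d * (c * i) * W.d⁻¹ = (W.d * c * W.d⁻¹) * (W.d * i * W.d⁻¹) by group,
        hfixk c hcB hc, hm i hiB hi, hpm i hiB, ← (hB.comm c hcB i hiB).mul_pow]
    · refine ⟨m, fun x hx => ?_⟩
      obtain ⟨c, i, rfl, hc, hi, hmem⟩ := Outer.exists_fixed_mul_inverted W.odd W.invol x
      obtain ⟨hcB, hiB⟩ := hmem B hx (hB.stable _ hx)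
      rcases eq_or_ne c 1 with rfl | hc1
      · rw [one_mul]; exact hm i (by simpa using hx) hi
      · exfalso
        have h1 := hmix c hcB hc hc1 b₀ hb₀ hib₀ hb₀1
        have h2 := hord c hcB hc1 k (hfixk c hcB hc)
        rw [hmk', neg_eq_iff_add_eq_zero, ← two_mul] at h1
        have h3 : (2 : ZMod s) ≠ 0 := fun e2 => by
          rw [show (2 : ZMod s) = ((2 : ℕ) : ZMod s) by norm_num, ZMod.natCast_eq_zero_iff] at e2
          exact hs2 ((Nat.prime_dvd_prime_iff_eq hB.prime Nat.prime_two).1 e2)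
        rw [(mul_eq_zero.1 h1).resolve_left h3, zero_pow (by positivity)] at h2
        exact zero_ne_one h2
  letI : CommGroup B := { (inferInstance : Group B) with mul_comm := fun a b => Subtype.ext (hB.comm a a.2 b b.2).eq }
  haveI : Module (ZMod s) (Additive B) := AddCommGroup.zmodModule fun x => by
    show Additive.ofMul ((Additive.toMul x) ^ s) = 0
    exact congrArg Additive.ofMul (Subtype.ext (hB.exp _ (Additive.toMul x).2) :
      (Additive.toMul x) ^ s = 1)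
  set r := Module.finrank (ZMod s) (Additive B) with hr
  have hcardB : Nat.card B = s ^ r := by
    have h := Module.natCard_eq_pow_finrank (K := ZMod s) (V := Additive B)
    rwa [Nat.card_zmod, Nat.card_congr Additive.toMul] at h
  have hr0 : r ≠ 0 := fun h0 => hBne (Subgroup.card_eq_one.1 (by rw [hcardB, h0, pow_zero]))
  have hfixle : Nat.card {x : X // x ∈ B ∧ W.τ x = x} ≤ s := by
    let Bf : Subgroup X := B ⊓ MonoidHom.eqLocus W.τ.toMonoidHom (MonoidHom.id X)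
    haveI : IsCyclic Bf := Subgroup.isCyclic_of_le (H' := zpowers W.w) fun x hx =>
      fixed_mem W hx.2 (coprime_order W hB hx.1)
    show Nat.card Bf ≤ s
    rw [← IsCyclic.exponent_eq_card]
    refine Nat.le_of_dvd hB.prime.pos (Monoid.exponent_dvd_of_forall_pow_eq_one fun x => ?_)
    exact Subtype.ext (hB.exp _ x.2.1)
  have hinvle : Nat.card {x : X // x ∈ B ∧ W.τ x = x⁻¹} ≤ s := by
    by_cases h : ∃ b₀ ∈ B, W.τ b₀ = b₀⁻¹ ∧ b₀ ≠ 1
    · obtain ⟨b₀, hb₀, hib₀, hb₀1⟩ := h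
      let f : {x : X // x ∈ B ∧ W.τ x = x⁻¹} → zpowers b₀ := fun x => ⟨x.1,
        Mod3.mem_zpowers_of_prime W.toMod3 (sub W hB) hb₀ x.2.1 hib₀ x.2.2 hb₀1 (hB.exp _ hb₀)
          (hB.exp _ x.2.1) (fun a _ => odd_order W hB a)⟩
      have := Nat.card_le_card_of_injective f fun a b hab => Subtype.ext (congrArg Subtype.val hab :)
      rwa [Nat.card_zpowers, orderOf_eq_prime (hB.exp _ hb₀) hb₀1] at this
    · push Not at h
      haveI : Subsingleton {x : X // x ∈ B ∧ W.τ x = x⁻¹} :=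
        ⟨fun x y => Subtype.ext ((h x.1 x.2.1 x.2.2).trans (h y.1 y.2.1 y.2.2).symm)⟩
      exact (Finite.card_le_one_iff_subsingleton.2 ‹_›).trans hB.prime.one_le
  have hr2 : r ≤ 2 := by
    have hsur : ∀ x : B, ∃ p : {x : X // x ∈ B ∧ W.τ x = x} × {x : X // x ∈ B ∧ W.τ x = x⁻¹},
        (x : X) = p.1.1 * p.2.1 := by
      rintro ⟨x, hx⟩
      obtain ⟨c, i, rfl, hc, hi, hmem⟩ := Outer.exists_fixed_mul_inverted W.odd W.invol x
      obtain ⟨hcB, hiB⟩ := hmem B hx (hB.stable _ hx)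
      exact ⟨(⟨c, hcB, hc⟩, ⟨i, hiB, hi⟩), rfl⟩
    choose p hp using hsur
    have h1 := Nat.card_le_card_of_injective p fun x y hxy => Subtype.ext (by rw [hp x, hp y, hxy])
    rw [Nat.card_prod, hcardB] at h1
    refine (Nat.pow_le_pow_iff_right hB.prime.one_lt).1 (h1.trans ?_)
    rw [pow_two]
    exact Nat.mul_le_mul hfixle hinvle
  by_cases he1 : (e : ZMod s) = 1
  · -- `d` centralizes `B`
    have hdc : ∀ x ∈ B, Commute W.d x := fun x hx => by
      refine mul_inv_eq_iff_eq_mul.1 ?_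
      rw [he x hx, pow_eq_pow_mod _ (hB.exp x hx), (ZMod.natCast_eq_natCast_iff' e 1 s).1 (by rw [he1, Nat.cast_one]),
        ← pow_eq_pow_mod _ (hB.exp x hx), pow_one]
    right
    by_cases h : ∃ b₀ ∈ B, W.τ b₀ = b₀⁻¹ ∧ b₀ ≠ 1
    · obtain ⟨b₀, hb₀, hib₀, hb₀1⟩ := h
      refine Or.inl ⟨b₀, hib₀, hb₀1, coprime_order W hB hb₀, hdc _ hb₀, commute_w W hB hb₀ hib₀, ?_, ?_⟩
      · rw [orderOf_eq_prime (hB.exp _ hb₀) hb₀1]; exact hB.prime
      · have h' := conj_d W hB hb₀ hib₀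
        rw [(hdc _ hb₀).eq, mul_inv_cancel_right] at h'
        exact h'.imp Eq.symm fun e' => (inv_eq_iff_eq_inv.1 e'.symm)
    right
    push Not at h
    obtain ⟨⟨z, hzB⟩, hz1'⟩ := B.ne_bot_iff_exists_ne_one.1 hBne
    have hallfix : ∀ x ∈ B, W.τ x = x := by
      intro x hx
      obtain ⟨c, i, rfl, hc, hi, hmem⟩ := Outer.exists_fixed_mul_inverted W.odd W.invol x
      rw [h i (hmem B hx (hB.stable _ hx)).2 hi, mul_one]
      exact hc
    have hz1 : z ≠ 1 := fun e' => hz1' (Subtype.ext e')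
    refine ⟨z, fixed_mem W (hallfix z hzB) (coprime_order W hB hzB), hz1, ?_, hdc z hzB, fun x => ?_⟩
    · rw [orderOf_eq_prime (hB.exp z hzB) hz1]; exact hB.prime
    · obtain ⟨c, i, rfl, hc, hi, -⟩ := Outer.exists_fixed_mul_inverted W.odd W.invol x
      refine Commute.mul_left ?_ ?_
      · obtain ⟨j, l, rfl⟩ := W.fixed c hc
        exact ((commute_of_fixed W hB hzB (hallfix z hzB)).pow_left j).mul_left ((hdc z hzB).pow_left l)
      · have h1 : i⁻¹ * z * i = i * z * i⁻¹ := by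
          have h2 := hallfix _ (hB.normal.conj_mem z hzB i)
          rw [map_mul, map_mul, map_inv, hi, hallfix z hzB, inv_inv] at h2
          exact h2
        refine Outer.commute_of_sq W.odd (mul_inv_eq_iff_eq_mul.1 ?_)
        calc i * i * z * (i * i)⁻¹ = i * (i * z * i⁻¹) * i⁻¹ := by group
          _ = z := by rw [← h1]; group
  -- the determinant
  left
  let lin : MulAut B →* Module.End (ZMod s) (Additive B) :=
    { toFun := fun f => AddMonoidHom.toZModLinearMap s (MonoidHom.toAdditive f.toMonoidHom)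
      map_one' := LinearMap.ext fun _ => rfl
      map_mul' := fun f g => LinearMap.ext fun _ => rfl }
  let conjB : X →* MulAut B := MulAut.conjNormal
  let χ : X →* (ZMod s)ˣ := (LinearMap.det.comp (lin.comp conjB)).toHomUnits
  refine ⟨s, χ, fun x => Units.ext ?_, fun hd1 => ?_⟩
  · show LinearMap.det (lin (conjB (W.τ x))) = LinearMap.det (lin (conjB x))
    let τB : MulAut B :=
      { toFun := fun q => ⟨W.τ q, hB.stable q q.2⟩
        invFun := fun q => ⟨W.τ q, hB.stable q q.2⟩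
        left_inv := fun q => Subtype.ext (W.invol q)
        right_inv := fun q => Subtype.ext (W.invol q)
        map_mul' := fun a b => Subtype.ext (map_mul W.τ (a : X) b) }
    have heq : conjB (W.τ x) = τB * conjB x * τB := MulEquiv.ext fun q => Subtype.ext (by
      show W.τ x * q * (W.τ x)⁻¹ = W.τ (x * W.τ q * x⁻¹)
      rw [map_mul, map_mul, map_inv, W.invol])
    have hinv : τB * τB = 1 := MulEquiv.ext fun q => Subtype.ext (W.invol q)
    rw [heq, map_mul, map_mul, map_mul, map_mul]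
    calc LinearMap.det (lin τB) * LinearMap.det (lin (conjB x)) * LinearMap.det (lin τB)
        = LinearMap.det (lin (conjB x)) * (LinearMap.det (lin τB) * LinearMap.det (lin τB)) := by ring
      _ = LinearMap.det (lin (conjB x)) := by rw [← map_mul LinearMap.det (lin τB), ← map_mul lin τB, hinv, map_one, map_one, mul_one]
  · have h1 : LinearMap.det (lin (conjB W.d)) = 1 := congrArg Units.val hd1
    have hsm : lin (conjB W.d) = (e : ZMod s) • (1 : Module.End (ZMod s) (Additive B)) := by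
      refine LinearMap.ext fun x => ?_
      rw [LinearMap.smul_apply, Module.End.one_apply, Nat.cast_smul_eq_nsmul]
      show Additive.ofMul (conjB W.d (Additive.toMul x)) = Additive.ofMul ((Additive.toMul x) ^ e)
      refine congrArg Additive.ofMul (Subtype.ext ?_)
      rw [Subgroup.coe_pow]
      exact he _ (Additive.toMul x).2
    rw [hsm, LinearMap.det_smul, map_one, mul_one, ← hr] at h1
    obtain ⟨⟨x, hxB⟩, hx1'⟩ := B.ne_bot_iff_exists_ne_one.1 hBne
    have hea := hord x hxB (fun e' => hx1' (Subtype.ext e')) e (he x hxB)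
    refine he1 ?_
    rcases (show r = 1 ∨ r = 2 by omega) with hr1 | hr1
    · rwa [hr1, pow_one] at h1
    · rw [hr1] at h1
      obtain ⟨j, hj⟩ := (show Odd (3 ^ a) from (by decide : Odd 3).pow)
      rwa [hj, pow_succ, pow_mul, h1, one_pow, one_mul] at hea

end VData

end CfsgLib.Walter.Three
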