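import Cfsg.Agent.Lib.Walter.Three.BorelD
import Cfsg.Agent.Lib.Walter.Outer.Local
import Cfsg.Agent.Lib.Walter.Outer.Field

/-!
# Rank three: the `3`-local subgroup controlling fusion

A Sylow `3`-subgroup `R ⊇ A ⋊ D` normalized by `t` has `N (Z (J R)) = Y ⋊ ⟨t⟩` with `Y` of odd order,
and the fixed points of `t` in `Y` are `A H D`.
-/

set_option autoImplicit false
set_option linter.unusedSectionVars false
set_option linter.style.haveILetI false

namespace CfsgLib.Walter.Three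

open Subgroup
open scoped commutatorElement
open CfsgLib.BGroup.FieldKill (Frame)

universe u

variable {G : Type u} [Group G] [Finite G]

/-- A subgroup with a single involution commuting with the involution `t` in it. -/
theorem exists_odd (h : Eight G) {N : Subgroup G} {t : G} (ht : orderOf t = 2) (htN : t ∈ N)
    (hno : ∀ b ∈ N, orderOf b = 2 → Commute b t → b = t) :
    ∃ O : Subgroup G, O ≤ N ∧ N ≤ normalizer (O : Set G) ∧ Odd (Nat.card O) ∧ Nat.card N = 2 * Nat.card O ∧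
      ∀ x ∈ N, Odd (orderOf x) → x ∈ O := by
  haveI : Fact (Nat.Prime 2) := ⟨Nat.prime_two⟩
  have hord : orderOf (⟨t, htN⟩ : N) = 2 := by rw [← Subgroup.orderOf_coe]; exact ht
  obtain ⟨T, hT⟩ := (IsPGroup.of_card (n := 1) (by rw [Nat.card_zpowers, hord, pow_one]) :
    IsPGroup 2 (zpowers (⟨t, htN⟩ : N))).exists_le_sylow
  have htT : (⟨t, htN⟩ : N) ∈ (T : Subgroup N) := hT (mem_zpowers _)
  obtain ⟨S, hS⟩ := (T.2.map N.subtype).exists_le_sylow
  have h4 : ¬ 4 ∣ Nat.card N := by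
    intro h4
    have h2 : 4 ∣ Nat.card (T : Subgroup N) := T.pow_dvd_card_of_pow_dvd_card (n := 2) h4
    have hsub : ((T : Subgroup N) : Set N) ⊆ {1, ⟨t, htN⟩} := fun x hx => by
      rcases eq_or_ne x 1 with e | e
      · exact Or.inl e
      · exact Or.inr (Subtype.ext (hno x x.2 (Invol.invol_iff.2 ⟨(h.sylow S).2 _ (hS ⟨x, hx, rfl⟩),
          fun e' => e (Subtype.ext e')⟩) (h.comm S (hS ⟨x, hx, rfl⟩) (hS ⟨_, htT, rfl⟩))))
    have h3 := (Set.ncard_le_ncard hsub (Set.toFinite _)).trans (Set.ncard_insert_le _ _)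
    rw [Set.ncard_singleton] at h3
    have h5 : ((T : Subgroup N) : Set N).ncard = Nat.card (T : Subgroup N) := rfl
    have h6 := Nat.le_of_dvd Nat.card_pos h2
    omega
  obtain ⟨O, hO⟩ := CfsgLib.ReeType.exists_odd_part N (ht ▸ (Subgroup.orderOf_dvd_natCard N htN)) h4
  exact ⟨O, hO⟩

namespace Borel

variable {Φ : Frame G} (B : Borel Φ)
include B

/-- The unipotent subgroup. -/
def A : Subgroup G := B.ι.range

theorem A_le : B.A ≤ Φ.K := by
  rintro _ ⟨x, rfl⟩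
  exact B.ι_mem x

theorem cube {x : G} (hx : x ∈ B.A) : x ^ 3 = 1 := by
  obtain ⟨y, rfl⟩ := hx
  obtain ⟨z, rfl⟩ := Multiplicative.ofAdd.surjective y
  rw [← map_pow, ← ofAdd_nsmul, nsmul_eq_mul, B.char.cast_eq_zero_iff 3 |>.2 dvd_rfl, zero_mul, ofAdd_zero,
    map_one]

theorem isPGroup_A : IsPGroup 3 B.A := fun x => ⟨1, Subtype.ext (B.cube x.2)⟩

theorem exists_ne_one : ∃ x : Multiplicative Φ.F, x ≠ 1 := by
  obtain ⟨x, hx, -⟩ := B.fixed
  exact ⟨x, hx⟩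

theorem conj_pow (i j : ℕ) (x : Φ.F) :
    B.w ^ i * B.d ^ j * B.ι (Multiplicative.ofAdd x) * (B.w ^ i * B.d ^ j)⁻¹ =
      B.ι (Multiplicative.ofAdd (B.μ ^ i * B.f^[j] x)) ∧
    ∀ c, B.f^[j] (c * x) = c ^ 3 ^ (B.g * j) * B.f^[j] x := by
  constructor
  · have hd : ∀ (j : ℕ) (y : Φ.F), B.d ^ j * B.ι (Multiplicative.ofAdd y) * (B.d ^ j)⁻¹ =
        B.ι (Multiplicative.ofAdd (B.f^[j] y)) := by
      intro j
      induction j with
      | zero => intro y; simp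
      | succ j ih => intro y; rw [Function.iterate_succ_apply', ← B.d_act, ← ih, pow_succ']; group
    have hw : ∀ (i : ℕ) (y : Φ.F), B.w ^ i * B.ι (Multiplicative.ofAdd y) * (B.w ^ i)⁻¹ =
        B.ι (Multiplicative.ofAdd (B.μ ^ i * y)) := by
      intro i
      induction i with
      | zero => intro y; simp
      | succ i ih => intro y; rw [pow_succ', pow_succ', mul_assoc B.μ, ← B.w_act, ← ih]; group
    rw [show B.w ^ i * B.d ^ j * B.ι (Multiplicative.ofAdd x) * (B.w ^ i * B.d ^ j)⁻¹ =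
      B.w ^ i * (B.d ^ j * B.ι (Multiplicative.ofAdd x) * (B.d ^ j)⁻¹) * (B.w ^ i)⁻¹ by group, hd, hw]
  · intro c
    induction j with
    | zero => simp
    | succ j ih =>
      rw [Function.iterate_succ_apply', ih, B.f_semi, ← pow_mul, ← pow_add, Function.iterate_succ_apply',
        Nat.mul_succ]

/-- The action on `A` determines the components. -/
theorem eq_of_act {i j i' : ℕ}
    (h : ∀ x, B.μ ^ i * B.f^[j] x = B.μ ^ i' * x) : B.d ^ j = 1 ∧ B.μ ^ i = B.μ ^ i' := by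
  haveI := B.char
  have h1 := h 1
  rw [mul_one] at h1
  have hne : B.μ ^ i * B.f^[j] 1 ≠ 0 := h1 ▸ pow_ne_zero _ B.μ_ne
  have hdvd : B.n ∣ B.g * j := dvd_of_forall_pow B.hq fun c => by
    have h2 := h c
    rw [← mul_one c, ((B.conj_pow i j 1).2 c), mul_one, mul_left_comm, h1, mul_comm] at h2
    exact mul_left_cancel₀ (pow_ne_zero _ B.μ_ne) h2
  have hj : B.d ^ j = 1 := by
    rw [← orderOf_dvd_iff_pow_eq_one, B.d_order]
    rw [B.n_eq, mul_comm B.g] at hdvd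
    exact Nat.dvd_of_mul_dvd_mul_right (Nat.pos_of_ne_zero fun e => by
      have := B.n_eq; rw [e, mul_zero] at this; exact Nat.not_even_iff_odd.2 B.n_odd (this ▸ ⟨0, rfl⟩)) hdvd
  refine ⟨hj, ?_⟩
  have h3 := (B.conj_pow 0 j 1).1
  rw [hj, pow_zero, one_mul, one_mul, inv_one, mul_one, pow_zero, one_mul] at h3
  rwa [← (Multiplicative.ofAdd.injective (B.ι_inj h3)), mul_one] at h1

theorem w_pow_eq {i : ℕ} (h : B.μ ^ i = 1) : B.w ^ i ∈ B.A := by
  obtain ⟨x, hx⟩ := B.exists_ne_one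
  obtain ⟨z, rfl⟩ := Multiplicative.ofAdd.surjective x
  refine B.cent _ (pow_mem B.w_mem i) _ hx ?_
  have h1 := (B.conj_pow i 0 z).1
  rw [pow_zero, mul_one, Function.iterate_zero_apply, h, one_mul] at h1
  exact mul_inv_eq_iff_eq_mul.1 h1

theorem d_normalize {x : G} (hx : x ∈ B.A) : B.d * x * B.d⁻¹ ∈ B.A := by
  obtain ⟨y, rfl⟩ := hx
  obtain ⟨z, rfl⟩ := Multiplicative.ofAdd.surjective y
  rw [B.d_act]
  exact ⟨_, rfl⟩

theorem D_le_normalizer : Φ.D ≤ normalizer (B.A : Set G) := by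
  rw [← B.d_gen, zpowers_le]
  exact CfsgLib.Coprime.conjBy_eq_self_iff.1 (eq_of_le_of_card_ge (by rintro _ ⟨x, hx, rfl⟩; exact B.d_normalize hx)
    (CfsgLib.Coprime.card_conjBy B.d _).ge)

theorem isPGroup_D : IsPGroup 3 Φ.D := by
  rw [← B.d_gen]
  exact IsPGroup.of_card (n := B.a) (by rw [Nat.card_zpowers, B.d_order])

theorem isPGroup_AD : IsPGroup 3 (B.A ⊔ Φ.D : Subgroup G) :=
  B.isPGroup_A.to_sup_of_normal_left' B.isPGroup_D B.D_le_normalizer

theorem AD_le_cent : B.A ⊔ Φ.D ≤ centralizer ({Φ.t} : Set G) :=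
  sup_le (fun _ hx => mem_centralizer_singleton_iff.2 (Φ.K_comm _ (B.A_le hx)).eq)
    (fun _ hx => mem_centralizer_singleton_iff.2 (Φ.D_comm_t hx).eq)

/-- An element normalizing a nontrivial subgroup of `A` normalizes `A`. -/
theorem conj_mem_of_partial {f x : G} (hf : Commute f Φ.t) (hx : x ∈ B.A) (hx1 : x ≠ 1)
    (hfx : f * x * f⁻¹ ∈ B.A) {y : G} (hy : y ∈ B.A) : f * y * f⁻¹ ∈ B.A := by
  obtain ⟨u, hu⟩ := hfx
  refine B.cent _ (Φ.K_conj hf (B.A_le hy)) u (fun e => hx1 ?_) ?_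
  · rw [e, map_one] at hu
    exact conj_eq_one_iff.1 hu.symm
  · rw [hu]
    obtain ⟨a, rfl⟩ := hx
    obtain ⟨b, rfl⟩ := hy
    exact ((Commute.all b a).map B.ι).map (MulAut.conj f).toMonoidHom

/-- The only involution of `C(t)` normalizing `A` is `t`. -/
theorem eq_t {b : G} (hb : orderOf b = 2) (hbt : Commute b Φ.t) {x : G} (hx : x ∈ B.A) (hx1 : x ≠ 1)
    (hbx : b * x * b⁻¹ ∈ B.A) : b = Φ.t := by
  obtain ⟨a, ha, k, hk, e, he, rfl⟩ := Φ.decomp b hbt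
  have hac : ∀ z, Commute z Φ.t → Commute z a := fun z hz => by
    rcases ha with rfl | rfl
    exacts [Commute.one_right z, hz]
  have haa : a * a = 1 := by rcases ha with rfl | rfl; exacts [one_mul 1, Φ.sq_t]
  have hsq := Invol.invol_mul_self hb
  have h1 : a * k * e * (a * k * e) = 1 * (k * (e * k * e⁻¹)) * (e * e) := by
    rw [show a * k * e * (a * k * e) = a * ((k * e) * a) * k * e by group,
      (hac _ ((Φ.K_comm k hk).mul_left (Φ.D_comm_t he))).eq, ← mul_assoc a a, haa, one_mul]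
    group
  have h2 : e * e = 1 := Outer.decomp_unique Φ (Or.inl rfl) (Or.inl rfl)
    (mul_mem hk (Φ.K_conj (Φ.D_comm_t he) hk)) (one_mem _) (mul_mem he he) (one_mem _)
    (by rw [← h1, hsq, mul_one, one_mul])
  have he1 : e = 1 := Invol.eq_one_of_odd_of_mul_self ((Φ.mem_D e).1 he).2 h2
  subst he1
  rw [mul_one] at hbx hb hsq ⊢
  have hk1 : k = 1 := by
    obtain ⟨u, hu⟩ := hbx
    obtain ⟨v, rfl⟩ := hx
    refine B.no_invol k hk v (fun e => hx1 (by rw [e, map_one])) ⟨u, ?_⟩ ?_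
    · rw [hu, show a * k * B.ι v * (a * k)⁻¹ = a * (k * B.ι v * k⁻¹) * a⁻¹ by group,
        ← (hac _ (Φ.K_comm _ (mul_mem (mul_mem hk (B.ι_mem v)) (inv_mem hk)))).eq, mul_inv_cancel_right]
    · rw [show a * k * (a * k) = a * (k * a) * k by group, (hac _ (Φ.K_comm k hk)).eq, ← mul_assoc a a, haa,
        one_mul] at hsq
      exact hsq
  subst hk1
  rw [mul_one] at hb ⊢
  exact ha.resolve_left (Invol.invol_ne_one hb)

/-- The intersection with `K` of a `3`-group containing `A`. -/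
theorem inf_K {W : Subgroup G} (hW : IsPGroup 3 W) (hAW : B.A ≤ W) : W ⊓ Φ.K = B.A := by
  refine (eq_of_le_of_card_ge (le_inf hAW B.A_le) ?_).symm
  obtain ⟨k, -, hk⟩ := B.sylow (W ⊓ Φ.K) inf_le_right (hW.to_le inf_le_left)
  rw [show Nat.card (W ⊓ Φ.K : Subgroup G) = Nat.card ((W ⊓ Φ.K).map (MulAut.conj k).toMonoidHom) from
    (card_map_of_injective (MulAut.conj k).injective).symm]
  exact Subgroup.card_le_of_le (by rintro _ ⟨x, hx, rfl⟩; exact hk x hx)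

/-- An odd element of `C(t)` lies in `K D`. -/
theorem odd_decomp {x : G} (hx : Odd (orderOf x)) (hxt : Commute x Φ.t) :
    ∃ k ∈ Φ.K, ∃ e ∈ Φ.D, x = k * e := by
  obtain ⟨T, hT⟩ := Nat.exists_eq_succ_of_ne_zero (orderOf_pos x).ne'
  obtain ⟨a, ha, k, hk, e, he, hxe⟩ := Φ.decomp x hxt
  obtain ⟨i, hi⟩ := hx
  have hx2 : x = (x * x) ^ (i + 1) := by
    rw [← pow_two, ← pow_mul, show 2 * (i + 1) = orderOf x + 1 by omega, pow_succ, pow_orderOf_eq_one, one_mul]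
  have hsq : x * x ∈ Φ.K ⊔ Φ.D := by
    have hKD : k * e ∈ Φ.K ⊔ Φ.D := mul_mem_sup hk he
    have hca : Commute (k * e) a := by
      rcases ha with rfl | rfl
      exacts [Commute.one_right _, (Φ.K_comm k hk).mul_left (Φ.D_comm_t he)]
    have haa : a * a = 1 := by rcases ha with rfl | rfl; exacts [one_mul 1, Φ.sq_t]
    rw [hxe, show a * k * e * (a * k * e) = a * ((k * e) * a) * (k * e) by group, hca.eq, ← mul_assoc a a,
      haa, one_mul]
    exact mul_mem hKD hKD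
  exact mem_KD Φ (hx2 ▸ pow_mem hsq _)

/-- The odd subgroups of `C(t)` containing `A D`. -/
theorem fixed_form {X : Subgroup G} (hX : Odd (Nat.card X)) (hA : B.A ≤ X) (hD : Φ.D ≤ X) {x : G}
    (hx : x ∈ X) (hxt : Commute x Φ.t) :
    ∃ u, ∃ i j : ℕ, x = B.ι u * B.w ^ i * B.d ^ j := by
  obtain ⟨k, hk, e, he, rfl⟩ := B.odd_decomp (hX.of_dvd_nat (Subgroup.orderOf_dvd_natCard _ hx)) hxt
  obtain ⟨j, rfl⟩ := (isOfFinOrder_of_finite B.d).mem_powers_iff_mem_zpowers.2 (B.d_gen ▸ he)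
  have hkX : k ∈ X := by
    have := mul_mem hx (inv_mem (hD he))
    rwa [mul_inv_cancel_right] at this
  by_contra hne
  push Not at hne
  obtain ⟨u, v, huv⟩ := B.exists_invol k hk fun y i e' => hne y i j (by rw [e'])
  have hmem : B.ι u * (k * B.ι v * k⁻¹) ∈ X :=
    mul_mem (hA ⟨u, rfl⟩) (mul_mem (mul_mem hkX (hA ⟨v, rfl⟩)) (inv_mem hkX))
  have h2 := Subgroup.orderOf_dvd_natCard _ hmem
  rw [huv] at h2
  exact Nat.not_even_iff_odd.2 hX (even_iff_two_dvd.2 h2)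

/-- `A` is its own centralizer in `K D`. -/
theorem cent_A {x : G} (hx : Odd (orderOf x)) (hxt : Commute x Φ.t) (hc : ∀ y ∈ B.A, Commute x y) :
    x ∈ B.A := by
  obtain ⟨k, hk, e, he, rfl⟩ := B.odd_decomp hx hxt
  obtain ⟨j, rfl⟩ := (isOfFinOrder_of_finite B.d).mem_powers_iff_mem_zpowers.2 (B.d_gen ▸ he)
  obtain ⟨u, hu1⟩ := B.exists_ne_one
  obtain ⟨u', hu'⟩ : B.d ^ j * B.ι u * (B.d ^ j)⁻¹ ∈ B.A :=
    (mem_normalizer_iff.1 (B.D_le_normalizer (pow_mem B.d_mem j)) _).1 ⟨u, rfl⟩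
  have hu'1 : u' ≠ 1 := fun e' => by
    rw [e', map_one] at hu'
    exact hu1 (B.ι_inj (by rw [map_one]; exact conj_eq_one_iff.1 hu'.symm))
  obtain ⟨y, i, rfl⟩ := B.norm k hk u' hu'1 ⟨u, by
    rw [hu', show k * (B.d ^ j * B.ι u * (B.d ^ j)⁻¹) * k⁻¹ = k * B.d ^ j * B.ι u * (k * B.d ^ j)⁻¹ by group,
      (hc _ ⟨u, rfl⟩).eq, mul_inv_cancel_right]⟩
  have hact : ∀ z, B.μ ^ i * B.f^[j] z = B.μ ^ 0 * z := fun z => by
    rw [pow_zero, one_mul]
    refine Multiplicative.ofAdd.injective (B.ι_inj ?_)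
    rw [← (B.conj_pow i j z).1]
    calc B.w ^ i * B.d ^ j * B.ι (Multiplicative.ofAdd z) * (B.w ^ i * B.d ^ j)⁻¹
        = (B.ι y)⁻¹ * (B.ι y * B.w ^ i * B.d ^ j * B.ι (Multiplicative.ofAdd z) *
            (B.ι y * B.w ^ i * B.d ^ j)⁻¹) * B.ι y := by group
      _ = (B.ι y)⁻¹ * B.ι (Multiplicative.ofAdd z) * B.ι y := by
          rw [(hc _ ⟨_, rfl⟩).eq, mul_inv_cancel_right]
      _ = B.ι (Multiplicative.ofAdd z) := by
          rw [← map_inv, ← map_mul, ← map_mul, mul_comm y⁻¹, inv_mul_cancel_right]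
  obtain ⟨hd1, hμ⟩ := B.eq_of_act hact
  show B.ι y * B.w ^ i * B.d ^ j ∈ B.A
  rw [hd1, mul_one]
  exact mul_mem ⟨y, rfl⟩ (B.w_pow_eq (hμ.trans (pow_zero _)))

/-- A normalized `3`-subgroup of `C(t)` meets `K` trivially unless the involution is `t`. -/
theorem inf_K_eq_bot {X : Subgroup G} (hX : IsPGroup 3 X) {f : G} (hf : orderOf f = 2) (hft : Commute f Φ.t)
    (hne : f ≠ Φ.t) (hn : f ∈ normalizer (X : Set G)) : X ⊓ Φ.K = ⊥ := by
  refine (Subgroup.eq_bot_iff_forall _).2 fun x hx => ?_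
  by_contra hx1
  obtain ⟨k, hk, hkA⟩ := B.sylow (X ⊓ Φ.K) inf_le_right (hX.to_le inf_le_left)
  have hfx : f * x * f⁻¹ ∈ X ⊓ Φ.K :=
    ⟨(mem_normalizer_iff.1 hn x).1 hx.1, Φ.K_conj hft hx.2⟩
  have hkt : Commute k Φ.t := Φ.K_comm k hk
  refine hne ?_
  have h1 : MulAut.conj k f = Φ.t := by
    refine B.eq_t (by rw [MulEquiv.orderOf_eq]; exact hf) ?_ (hkA x hx) (fun e => hx1 (conj_eq_one_iff.1 e)) ?_
    · rw [MulAut.conj_apply]
      exact (hkt.mul_left hft).mul_left hkt.inv_left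
    · rw [MulAut.conj_apply, show k * f * k⁻¹ * (k * x * k⁻¹) * (k * f * k⁻¹)⁻¹ = k * (f * x * f⁻¹) * k⁻¹ by group]
      exact hkA _ hfx
  rw [MulAut.conj_apply] at h1
  calc f = k⁻¹ * (k * f * k⁻¹) * k := by group
    _ = Φ.t := by rw [h1, mul_assoc, ← hkt.eq, inv_mul_cancel_left]

/-- An involution normalizing a `3`-subgroup of the centralizer of another one centralizes it. -/
theorem commute_of_normalize (h : Eight G) {X : Subgroup G} (hX : IsPGroup 3 X) {e f : G} (he : orderOf e = 2)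
    (hf : orderOf f = 2) (hef : Commute f e) (hne : f ≠ e) (hXe : X ≤ centralizer ({e} : Set G))
    (hn : f ∈ normalizer (X : Set G)) {x : G} (hx : x ∈ X) : Commute f x := by
  obtain ⟨c, hc⟩ := Outer.invol_conj h Φ he
  set φ := MulAut.conj c⁻¹ with hφ
  have hφe : φ e = Φ.t := by rw [hφ, ← hc, MulAut.conj_apply]; group
  set X' := X.map φ.toMonoidHom
  have hX't : ∀ y ∈ X', Commute y Φ.t := by
    rintro _ ⟨y, hy, rfl⟩
    exact hφe ▸ (show Commute y e from mem_centralizer_singleton_iff.1 (hXe hy)).map φ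
  have hn' : φ f ∈ normalizer (X' : Set G) := mem_normalizer_iff.2 fun z => by
    obtain ⟨z, rfl⟩ := φ.surjective z
    rw [← map_inv, ← map_mul, ← map_mul]
    exact ((mem_map_iff_mem φ.injective).trans (mem_normalizer_iff.1 hn z)).trans
      (mem_map_iff_mem φ.injective).symm
  have hfo : orderOf (φ f) = 2 := by rw [MulEquiv.orderOf_eq]; exact hf
  have hft : Commute (φ f) Φ.t := hφe ▸ hef.map φ
  have hbot := B.inf_K_eq_bot (hX.map φ.toMonoidHom) hfo hft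
    (fun e' => hne (φ.injective (e'.trans hφe.symm))) hn'
  have hx' : φ x ∈ X' := mem_map_of_mem _ hx
  obtain ⟨a, ha, k, hk, d, hd, hfd⟩ := Φ.decomp (φ f) hft
  set y := φ x
  have hz : φ f * y * (φ f)⁻¹ * y⁻¹ ∈ X' ⊓ Φ.K := by
    refine ⟨X'.mul_mem ((mem_normalizer_iff.1 hn' y).1 hx') (X'.inv_mem hx'), ?_⟩
    obtain ⟨m, hm⟩ := hX.map φ.toMonoidHom ⟨y, hx'⟩
    obtain ⟨k₁, hk₁, e₁, he₁, hye⟩ := B.odd_decomp (x := y) (((by decide : Odd 3).pow : Odd (3 ^ m)).of_dvd_nat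
      (orderOf_dvd_of_pow_eq_one (congrArg Subtype.val hm :))) (hX't y hx')
    have hya : Commute y a := by
      rcases ha with rfl | rfl
      exacts [Commute.one_right _, hX't y hx']
    have hyd : Commute e₁ d := Φ.D_comm he₁ hd
    have hconj : d * k₁ * d⁻¹ ∈ Φ.K := Φ.K_conj (Φ.D_comm_t hd) hk₁
    rw [show φ f * y * (φ f)⁻¹ = a * (k * (d * k₁ * (e₁ * d⁻¹)) * k⁻¹) * a⁻¹ by rw [hfd, hye]; group,
      ← (hyd.symm.inv_left).eq]
    have e3 : a * (k * (d * k₁ * (d⁻¹ * e₁)) * k⁻¹) * a⁻¹ = k * (d * k₁ * (d⁻¹ * e₁)) * k⁻¹ := by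
      have hc' : Commute (k * (d * k₁ * (d⁻¹ * e₁)) * k⁻¹) Φ.t :=
        ((Φ.K_comm k hk).mul_left (((Φ.D_comm_t hd).mul_left (Φ.K_comm _ hk₁)).mul_left
          ((Φ.D_comm_t hd).inv_left.mul_left (Φ.D_comm_t he₁)))).mul_left (Φ.K_comm k hk).inv_left
      rcases ha with rfl | rfl
      · group
      · rw [← hc'.eq, mul_inv_cancel_right]
    rw [e3, hye, show k * (d * k₁ * (d⁻¹ * e₁)) * k⁻¹ * (k₁ * e₁)⁻¹ =
      k * (d * k₁ * d⁻¹) * (e₁ * k⁻¹ * e₁⁻¹) * k₁⁻¹ by group]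
    exact Φ.K.mul_mem (Φ.K.mul_mem (Φ.K.mul_mem hk hconj) (Φ.K_conj (Φ.D_comm_t he₁) (Φ.K.inv_mem hk)))
      (Φ.K.inv_mem hk₁)
  rw [hbot, mem_bot, mul_inv_eq_one, mul_inv_eq_iff_eq_mul] at hz
  exact φ.injective (by rw [map_mul, map_mul]; exact hz)

end Borel

/-- The local data. -/
structure LocalData {Φ : Frame G} (B : Borel Φ) where
  R : Sylow 3 G
  N : Subgroup G
  Y : Subgroup G
  odd : Odd (Nat.card Y)
  le_N : Y ≤ N
  t_mem : Φ.t ∈ N
  norm : N ≤ normalizer (Y : Set G)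
  cover : ∀ x ∈ N, x ∈ Y ∨ x * Φ.t ∈ Y
  focal : B.d ∈ ⁅N, N⁆
  R_le : (R : Subgroup G) ≤ Y
  AD_le : B.A ⊔ Φ.D ≤ (R : Subgroup G)
  stable : Φ.t ∈ normalizer ((R : Subgroup G) : Set G)
  w_mem : B.w ∈ Y
  fixed : ∀ y ∈ Y, Commute y Φ.t → ∃ u, ∃ i j : ℕ, y = B.ι u * B.w ^ i * B.d ^ j

/-- The local data exist. -/
theorem exists_localData (h : Eight G) {Φ : Frame G} (B : Borel Φ) : Nonempty (LocalData B) := by
  classical
  haveI : Fact (Nat.Prime 2) := ⟨Nat.prime_two⟩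
  haveI : Fact (Nat.Prime 3) := ⟨Nat.prime_three⟩
  set t := Φ.t
  have htt := Φ.sq_t
  set W := B.A ⊔ Φ.D
  have htW : t ∈ normalizer (W : Set G) := centralizer_le_normalizer _ (mem_centralizer_iff.2 fun x hx =>
    (mem_centralizer_singleton_iff.1 (B.AD_le_cent hx)))
  have hAt : ∀ y ∈ B.A, Commute y t := fun y hy => Φ.K_comm y (B.A_le hy)
  obtain ⟨x₀, hx₀⟩ := B.exists_ne_one
  have hx₀A : B.ι x₀ ∈ B.A := ⟨x₀, rfl⟩
  have hx₀1 : B.ι x₀ ≠ 1 := fun e => hx₀ (B.ι_inj (e.trans (map_one _).symm))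
  -- the climb
  obtain ⟨R, hWR, hR⟩ := exists_maximal_ge_of_wellFoundedGT
    (fun V : Subgroup G => IsPGroup 3 V ∧ t ∈ normalizer (V : Set G)) W ⟨B.isPGroup_AD, htW⟩
  obtain ⟨hRp, htR⟩ := hR.prop
  have hRK : R ⊓ Φ.K = B.A := B.inf_K hRp (le_sup_left.trans hWR)
  obtain ⟨O, hON, hNO, hOodd, hcard, hmem⟩ := exists_odd h (N := normalizer (R : Set G)) Φ.ht htR
    fun b hb hb2 hbt => B.eq_t hb2 hbt hx₀A hx₀1 (by
      rw [← hRK]
      exact ⟨(mem_normalizer_iff.1 hb _).1 (hWR (mem_sup_left hx₀A)), Φ.K_conj hbt (B.A_le hx₀A)⟩)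
  have hRodd : ∀ x ∈ R, Odd (orderOf x) := fun x hx => by
    obtain ⟨i, hi⟩ := hRp ⟨x, hx⟩
    exact ((by decide : Odd 3).pow : Odd (3 ^ i)).of_dvd_nat
      (orderOf_dvd_of_pow_eq_one (congrArg Subtype.val hi :))
  have hRO : R ≤ O := fun x hx => hmem x (le_normalizer hx) (hRodd x hx)
  obtain ⟨P', hP', hRP', htP'⟩ := CfsgLib.Coprime.le_invariant_sylow (A := zpowers t) (K := O)
    (zpowers_le.2 (hNO htR))
    (by rw [Nat.card_zpowers, Φ.ht]; exact Nat.coprime_two_left.2 hOodd)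
    (Or.inl (CfsgLib.Coprime.isSolvable_of_isMulCommutative inferInstance)) hRO hRp (zpowers_le.2 htR)
  obtain rfl : R = P' := hR.eq_of_le ⟨hP'.isPGroup, htP' (mem_zpowers _)⟩ hRP'
  have hcardR : Nat.card R = 3 ^ (Nat.card (normalizer (R : Set G))).factorization 3 := by
    rw [hP'.2, hcard, Nat.factorization_mul (by norm_num) Nat.card_pos.ne']
    have : (2 : ℕ).factorization 3 = 0 := Nat.factorization_eq_zero_of_not_dvd (by norm_num)
    simp [this]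
  let S : Sylow 3 G := Sylow.ofCard R (by
    rw [hcardR]
    congr 1
    refine le_antisymm ((Nat.factorization_le_iff_dvd Nat.card_pos.ne' Nat.card_pos.ne').2
      (card_subgroup_dvd_card _) 3) (not_lt.1 fun hlt => ?_)
    have h1 : 3 ^ ((Nat.card (normalizer (R : Set G))).factorization 3 + 1) ∣ Nat.card G :=
      (pow_dvd_pow 3 hlt).trans (Nat.ordProj_dvd _ _)
    have h2 := Sylow.prime_pow_dvd_card_normalizer h1 hcardR
    have h3 := (Nat.Prime.pow_dvd_iff_le_factorization Nat.prime_three Nat.card_pos.ne').1 h2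
    omega)
  -- the normalizer of the centre of the Thompson subgroup
  set Z := Cfsg.centerThompsonOf 3 R with hZdef
  set N := normalizer (Z : Set G) with hNdef
  have hRN : R ≤ N := le_normalizer.trans (CfsgLib.CFun.normalizer_le_normalizer_centerThompsonOf R)
  have htN : t ∈ N := CfsgLib.CFun.normalizer_le_normalizer_centerThompsonOf R htR
  have hZR : Z ≤ R := inf_le_left.trans (CfsgLib.Fusion.thompsonSubgroupOf_le _)
  have hR1 : R ≠ ⊥ := fun e => hx₀1 (by simpa [e] using hWR (mem_sup_left hx₀A))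
  have hZ1 : Z ≠ ⊥ := by
    set J := Cfsg.thompsonSubgroupOf 3 R
    have hJ1 : J ≠ ⊥ := CfsgLib.Fusion.thompsonSubgroupOf_ne_bot hRp hR1
    obtain ⟨x, hx, hx1⟩ := CfsgLib.CFun.centerSocle_ne_bot
      (hRp.to_le (CfsgLib.Fusion.thompsonSubgroupOf_le _)) le_rfl le_normalizer hJ1
    refine fun e => hx1 (mem_bot.1 (e ▸ ⟨hx.1, mem_centralizer_iff.2 fun y hy => ?_⟩))
    exact (hx.2.2.2 y hy).symm.eq
  have hnoN : ∀ b ∈ N, orderOf b = 2 → Commute b t → b = t := by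
    intro b hbN hb hbt
    by_contra hbne
    obtain ⟨E, hEc, hcyc, htE, hbE, hmin, hsq, hE2⟩ := Outer.exists_four Φ.ht hb hbt.symm (Ne.symm hbne)
    have hEN : E ≤ N := hmin _ htN hbN
    have hle : Z ≤ centralizer ({t} : Set G) := by
      refine CfsgLib.Coprime.le_of_centralizers_le hcyc hEN ?_ fun a ha ha1 x hx => ?_
      · obtain ⟨i, hi⟩ := hE2.exists_card_eq
        obtain ⟨j, hj⟩ := (hRp.to_le hZR).exists_card_eq
        rw [hi, hj]
        exact Nat.Coprime.pow i j (by norm_num)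
      by_cases hat : a = t
      · exact hat ▸ hx.2
      have hta : Commute t a := congrArg Subtype.val (mul_comm' (⟨t, htE⟩ : E) ⟨a, ha⟩)
      refine mem_centralizer_singleton_iff.2 (B.commute_of_normalize h (X := Z ⊓ centralizer ({a} : Set G))
        ((hRp.to_le hZR).to_le inf_le_left) (Invol.invol_iff.2 ⟨hsq a ha, ha1⟩) Φ.ht hta (Ne.symm hat)
        inf_le_right ?_ hx).symm.eq
      exact CfsgLib.Coprime.inf_le_normalizer (A := zpowers t) (zpowers_le.2 htN)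
        (zpowers_le.2 (le_normalizer (mem_centralizer_singleton_iff.2 hta.eq)))
        (mem_zpowers t)
    have hbot := B.inf_K_eq_bot (hRp.to_le hZR) hb hbt hbne hbN
    refine hZ1 ((Subgroup.eq_bot_iff_forall Z).2 fun z hz => ?_)
    have hzt : Commute z t := mem_centralizer_singleton_iff.1 (hle hz)
    have hzc : ∀ y ∈ B.A, Commute z y := fun y hy => by
      have h1 : z * y * z⁻¹ * y⁻¹ ∈ Z ⊓ Φ.K := by
        refine ⟨?_, Φ.K.mul_mem (Φ.K_conj hzt (B.A_le hy)) (Φ.K.inv_mem (B.A_le hy))⟩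
        rw [show z * y * z⁻¹ * y⁻¹ = z * (y * z⁻¹ * y⁻¹) by group]
        exact mul_mem hz ((mem_normalizer_iff.1 (hRN (hWR (mem_sup_left hy))) _).1 (inv_mem hz))
      rw [hbot, mem_bot, mul_inv_eq_one, mul_inv_eq_iff_eq_mul] at h1
      exact h1
    have hzA := B.cent_A (hRodd z (hZR hz)) hzt hzc
    have h2 : z ∈ Z ⊓ Φ.K := ⟨hz, B.A_le hzA⟩
    rwa [hbot, mem_bot] at h2
  obtain ⟨Y, hYN, hNY, hYodd, hcardY, hmemY⟩ := exists_odd h (N := N) Φ.ht htN hnoN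
  have hidx : (Y.subgroupOf N).index = 2 := by
    have h := Subgroup.card_mul_index (Y.subgroupOf N)
    rw [Nat.card_congr (subgroupOfEquivOfLe hYN).toEquiv, hcardY, mul_comm 2] at h
    exact Nat.eq_of_mul_eq_mul_left Nat.card_pos h
  have htY : t ∉ Y := fun hm => by
    have h1 := Subgroup.orderOf_dvd_natCard Y hm
    rw [Φ.ht] at h1
    exact Nat.not_even_iff_odd.2 hYodd (even_iff_two_dvd.2 h1)
  have hcover : ∀ x ∈ N, x ∈ Y ∨ x * t ∈ Y := fun x hx => by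
    by_cases hxY : x ∈ Y
    · exact Or.inl hxY
    · right
      have h := mul_mem_iff_of_index_two hidx (a := ⟨x, hx⟩) (b := ⟨t, htN⟩)
      simp only [mem_subgroupOf, Subgroup.coe_mul] at h
      exact h.2 (iff_of_false hxY htY)
  have hRY : R ≤ Y := fun x hx => hmemY x (hRN hx) (hRodd x hx)
  -- strong fusion
  have hab : AbTwo G := fun S a b => Subtype.ext (h.comm S a.2 b.2)
  have hfree := Outer.not_involves_slTwo hab (p := 3) (by norm_num)
  have hAR : B.A ≤ R := le_sup_left.trans hWR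
  obtain ⟨m, hm, hma⟩ := Cfsg.Agent.S0118.result (by norm_num) hfree S (B.A : Set G) hAR B.w⁻¹ (by
    rintro _ ⟨y, hy, rfl⟩
    obtain ⟨u, rfl⟩ := hy
    obtain ⟨z, rfl⟩ := Multiplicative.ofAdd.surjective u
    show B.w⁻¹⁻¹ * B.ι (Multiplicative.ofAdd z) * B.w⁻¹ ∈ R
    rw [inv_inv, B.w_act]
    exact hAR ⟨_, rfl⟩)
  obtain ⟨n₁, hn₁Y, hn₁⟩ : ∃ n₁ ∈ Y, ∀ y ∈ B.A, n₁ * y * n₁⁻¹ = B.w * y * B.w⁻¹ := by
    have h0 : ∀ y ∈ B.A, m⁻¹ * y * m⁻¹⁻¹ = B.w * y * B.w⁻¹ := fun y hy => by simpa using hma y hy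
    rcases hcover m⁻¹ (N.inv_mem hm) with h1 | h1
    · exact ⟨m⁻¹, h1, h0⟩
    · refine ⟨m⁻¹ * t, h1, fun y hy => ?_⟩
      rw [← h0 y hy, show m⁻¹ * t * y * (m⁻¹ * t)⁻¹ = m⁻¹ * (t * y * t⁻¹) * m⁻¹⁻¹ by group,
        ← (hAt y hy).eq, mul_inv_cancel_right]
  obtain ⟨z, hz⟩ : ∃ z, z = n₁⁻¹ * (t * n₁ * t⁻¹) := ⟨_, rfl⟩
  have hYt : ∀ y ∈ Y, t * y * t⁻¹ ∈ Y := fun y hy => (mem_normalizer_iff.1 (hNY htN) y).1 hy
  have hzY : z ∈ Y := hz ▸ mul_mem (inv_mem hn₁Y) (hYt _ hn₁Y)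
  have hzinv : t * z * t⁻¹ = z⁻¹ := hz ▸ Outer.conj_inverted Φ.ht n₁
  have hzc : ∀ y ∈ B.A, Commute z y := fun y hy => by
    refine mul_inv_eq_iff_eq_mul.1 ?_
    have h1 : t * n₁ * t⁻¹ * y * (t * n₁ * t⁻¹)⁻¹ = B.w * y * B.w⁻¹ := by
      have ht1 : t⁻¹ * y * t = y := by rw [mul_assoc, (hAt y hy).eq, inv_mul_cancel_left]
      rw [show t * n₁ * t⁻¹ * y * (t * n₁ * t⁻¹)⁻¹ = t * (n₁ * (t⁻¹ * y * t) * n₁⁻¹) * t⁻¹ by group, ht1,
        hn₁ y hy]
      obtain ⟨u, rfl⟩ := hy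
      have hc2 : Commute (B.w * B.ι u * B.w⁻¹) t :=
        ((Φ.K_comm _ B.w_mem).mul_left (Φ.K_comm _ (B.ι_mem u))).mul_left (Φ.K_comm _ B.w_mem).inv_left
      rw [← hc2.eq, mul_inv_cancel_right]
    rw [hz, show n₁⁻¹ * (t * n₁ * t⁻¹) * y * (n₁⁻¹ * (t * n₁ * t⁻¹))⁻¹ =
      n₁⁻¹ * (t * n₁ * t⁻¹ * y * (t * n₁ * t⁻¹)⁻¹) * n₁ by group, h1, ← hn₁ y hy]
    group
  obtain ⟨j₀, hj₀⟩ := hYodd.of_dvd_nat (Subgroup.orderOf_dvd_natCard _ hzY)
  set r := z ^ (j₀ + 1) with hr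
  have hrr : r * r = z := by
    rw [hr, ← pow_add, show j₀ + 1 + (j₀ + 1) = orderOf z + 1 by omega, pow_succ, pow_orderOf_eq_one, one_mul]
  have hrY : n₁ * r ∈ Y := mul_mem hn₁Y (pow_mem hzY _)
  have hrt : Commute (n₁ * r) t := by
    refine (mul_inv_eq_iff_eq_mul.1 ?_).symm
    have h2 : t * r * t⁻¹ = r⁻¹ := by rw [hr, ← conj_pow, hzinv, inv_pow]
    have h3 : t * n₁ * t⁻¹ = n₁ * z := by rw [hz]; group
    calc t * (n₁ * r) * t⁻¹ = (t * n₁ * t⁻¹) * (t * r * t⁻¹) := by group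
      _ = n₁ * r := by rw [h3, h2, ← hrr]; group
  have hfixed : ∀ y ∈ Y, Commute y t → ∃ u, ∃ i j : ℕ, y = B.ι u * B.w ^ i * B.d ^ j := fun y hy hyt =>
    B.fixed_form hYodd (hAR.trans hRY) ((le_sup_right.trans hWR).trans hRY) hy hyt
  have hwY : B.w ∈ Y := by
    obtain ⟨u, i, j, hy⟩ := hfixed _ hrY hrt
    have hact : ∀ x, B.μ ^ i * B.f^[j] x = B.μ ^ 1 * x := fun x => by
      refine Multiplicative.ofAdd.injective (B.ι_inj ?_)
      rw [← (B.conj_pow i j x).1, pow_one, ← B.w_act, ← hn₁ _ ⟨_, rfl⟩]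
      have hc1 : Commute r (B.ι (Multiplicative.ofAdd x)) := (hzc _ ⟨_, rfl⟩).pow_left _
      calc B.w ^ i * B.d ^ j * B.ι (Multiplicative.ofAdd x) * (B.w ^ i * B.d ^ j)⁻¹
          = (B.ι u)⁻¹ * (n₁ * (r * B.ι (Multiplicative.ofAdd x) * r⁻¹) * n₁⁻¹) * B.ι u := by
            rw [show B.w ^ i * B.d ^ j = (B.ι u)⁻¹ * (n₁ * r) by rw [hy]; group]; group
        _ = n₁ * B.ι (Multiplicative.ofAdd x) * n₁⁻¹ := by
            rw [hc1.eq, mul_inv_cancel_right, hn₁ _ ⟨_, rfl⟩, B.w_act, ← map_inv, ← map_mul, ← map_mul,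
              mul_comm u⁻¹, inv_mul_cancel_right]
    obtain ⟨hd1, hμ⟩ := B.eq_of_act hact
    have hwi : B.w ^ i ∈ Y := by
      rw [show B.w ^ i = (B.ι u)⁻¹ * (n₁ * r) by rw [hy, hd1]; group]
      exact mul_mem (inv_mem (hRY (hAR ⟨u, rfl⟩))) hrY
    rw [pow_one] at hμ
    obtain ⟨N', hN'⟩ := Nat.exists_eq_succ_of_ne_zero (orderOf_pos B.w).ne'
    have hA1 : B.w ^ (i + N') ∈ B.A := B.w_pow_eq (by
      rw [pow_add, hμ, ← pow_succ']
      have h5 := (B.conj_pow (N' + 1) 0 1).1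
      rw [← Nat.succ_eq_add_one, ← hN', pow_orderOf_eq_one, pow_zero, mul_one, one_mul, inv_one, mul_one,
        Function.iterate_zero_apply, mul_one] at h5
      rw [← Nat.succ_eq_add_one, ← hN']
      exact (Multiplicative.ofAdd.injective (B.ι_inj h5)).symm)
    have h6 : B.w = B.w ^ i * (B.w ^ (i + N'))⁻¹ := by
      rw [eq_mul_inv_iff_mul_eq, ← pow_succ', show i + N' + 1 = i + orderOf B.w by omega, pow_add,
        pow_orderOf_eq_one, mul_one]
    rw [h6]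
    exact mul_mem hwi (inv_mem (hRY (hAR hA1)))
  -- the focal subgroup
  have hperf : commutator G = ⊤ := by
    haveI := h.simple
    refine (IsSimpleGroup.eq_bot_or_eq_top_of_normal (commutator G) inferInstance).resolve_left
      fun hb => h.noncomm ⟨⟨fun a b => ?_⟩⟩
    have h1 : ⁅a, b⁆ ∈ commutator G := commutator_mem_commutator (mem_top a) (mem_top b)
    rw [hb, mem_bot] at h1
    exact commutatorElement_eq_one_iff_mul_comm.1 h1
  have hfocal : (S : Subgroup G) ≤ ⁅(S : Subgroup G), N⁆ := by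
    have h := CfsgLib.Fusion.commutator_inf_eq_focal (CfsgLib.Fusion.coprime_card_focalQuotient S)
    rw [hperf, top_inf_eq] at h
    refine h.le.trans (CfsgLib.Fusion.focalSubgroup_le_of_control fun x hx g hgx => ?_)
    obtain ⟨n, hn, h⟩ := Cfsg.Agent.S0118.result (by norm_num) hfree S {x} (Set.singleton_subset_iff.2 hx) g⁻¹ (by
      rintro _ ⟨a, rfl, rfl⟩
      show g⁻¹⁻¹ * a * g⁻¹ ∈ (S : Subgroup G)
      rw [inv_inv]; exact hgx)
    exact ⟨n⁻¹, N.inv_mem hn, by simpa using h x rfl⟩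
  exact ⟨{
    R := S, N := N, Y := Y, odd := hYodd, le_N := hYN, t_mem := htN, norm := hNY, cover := hcover
    focal := commutator_mono hRN le_rfl (hfocal (hWR (mem_sup_right B.d_mem)))
    R_le := hRY, AD_le := hWR, stable := htR, w_mem := hwY, fixed := hfixed }⟩

/-- A character of `Y` fixed by `t` and nontrivial at the field element is impossible. -/
theorem LocalData.false_of_hom {Φ : Frame G} {B : Borel Φ} (L : LocalData B) {M : Type*} [CommGroup M]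
    (χ : L.Y →* M) (hτ : ∀ (y : L.Y) (hy : Φ.t * y * Φ.t⁻¹ ∈ L.Y), χ ⟨Φ.t * y * Φ.t⁻¹, hy⟩ = χ y)
    (hd : ∀ hd : B.d ∈ L.Y, χ ⟨B.d, hd⟩ ≠ 1) : False := by
  classical
  have htt := Φ.sq_t
  have et : Φ.t⁻¹ = Φ.t := inv_eq_of_mul_eq_one_right htt
  have hYt : ∀ y ∈ L.Y, Φ.t * y * Φ.t⁻¹ ∈ L.Y := fun y hy =>
    (mem_normalizer_iff.1 (L.norm L.t_mem) y).1 hy
  have htY : Φ.t ∉ L.Y := fun hm => by
    have h1 := Subgroup.orderOf_dvd_natCard L.Y hm
    rw [Φ.ht] at h1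
    exact Nat.not_even_iff_odd.2 L.odd (even_iff_two_dvd.2 h1)
  have hout : ∀ x : L.N, (x : G) ∉ L.Y → (x : G) * Φ.t ∈ L.Y := fun x hx => (L.cover x x.2).resolve_left hx
  let f : L.N → M := fun x => if h : (x : G) ∈ L.Y then χ ⟨x, h⟩ else χ ⟨(x : G) * Φ.t, hout x h⟩
  have hf : ∀ x y : L.N, f (x * y) = f x * f y := by
    intro x y
    have key : ∀ (a : G) (ha : a ∈ L.Y), a * Φ.t ∉ L.Y := fun a ha hat => htY (by
      simpa using mul_mem (inv_mem ha) hat)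
    by_cases hx : (x : G) ∈ L.Y <;> by_cases hy : (y : G) ∈ L.Y
    · have h : ((x * y : L.N) : G) ∈ L.Y := mul_mem hx hy
      simp only [f, dif_pos hx, dif_pos hy, dif_pos h]
      rw [← map_mul]; rfl
    · have h : ((x * y : L.N) : G) ∉ L.Y := fun h => hy (by simpa using mul_mem (inv_mem hx) h)
      simp only [f, dif_pos hx, dif_neg hy, dif_neg h]
      rw [← map_mul]; exact congrArg χ (Subtype.ext (mul_assoc _ _ _))
    · have h : ((x * y : L.N) : G) ∉ L.Y := fun h => hx (by simpa using mul_mem h (inv_mem hy))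
      simp only [f, dif_neg hx, dif_pos hy, dif_neg h]
      rw [← hτ ⟨y, hy⟩ (hYt y hy), ← map_mul]
      refine congrArg χ (Subtype.ext ?_)
      show (x : G) * y * Φ.t = x * Φ.t * (Φ.t * y * Φ.t⁻¹)
      rw [et, show (x : G) * Φ.t * (Φ.t * y * Φ.t) = x * (Φ.t * Φ.t) * y * Φ.t by group, htt, mul_one]
    · have h : ((x * y : L.N) : G) ∈ L.Y := by
        have h1 := mul_mem (hout x hx) (hYt _ (hout y hy))
        rwa [show (x : G) * Φ.t * (Φ.t * ((y : G) * Φ.t) * Φ.t⁻¹) = (x : G) * (Φ.t * Φ.t) * y by group,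
          htt, mul_one] at h1
      simp only [f, dif_neg hx, dif_neg hy, dif_pos h]
      rw [← hτ ⟨(y : G) * Φ.t, hout y hy⟩ (hYt _ (hout y hy)), ← map_mul]
      refine congrArg χ (Subtype.ext ?_)
      show (x : G) * y = x * Φ.t * (Φ.t * (y * Φ.t) * Φ.t⁻¹)
      rw [show (x : G) * Φ.t * (Φ.t * ((y : G) * Φ.t) * Φ.t⁻¹) = x * (Φ.t * Φ.t) * y by group, htt, mul_one]
  have hfoc := L.focal
  rw [← map_subtype_commutator] at hfoc
  obtain ⟨z, hz, hzd⟩ := hfoc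
  have hzY : (z : G) ∈ L.Y := (show (z : G) = B.d from hzd) ▸ L.R_le (L.AD_le (mem_sup_right B.d_mem))
  have h1 : f z = 1 := Abelianization.commutator_subset_ker (MonoidHom.mk' f hf) hz
  simp only [f, dif_pos hzY] at h1
  exact hd ((show (z : G) = B.d from hzd) ▸ hzY)
    (by rw [← h1]; exact congrArg χ (Subtype.ext hzd.symm))

end CfsgLib.Walter.Three
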