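import Cfsg.Agent.Lib.BGroup.FieldKill.Tools
import Mathlib.LinearAlgebra.Matrix.ProjectiveSpecialLinearGroup
import Mathlib.FieldTheory.Finite.Basic

/-!
# The upper triangular subgroup of `PSL(2, q)`, `q ≡ 3 (mod 4)`
-/

set_option autoImplicit false
set_option linter.unusedSectionVars false
set_option linter.style.haveILetI false

namespace CfsgLib.Walter.Three.PslB

open Matrix

variable {F : Type*} [Field F]

local notation "S2" => Matrix.SpecialLinearGroup (Fin 2) F
local notation "P2'" => Matrix.ProjectiveSpecialLinearGroup (Fin 2) F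

/-- An upper unitriangular matrix. -/
def slU (x : F) : S2 := ⟨!![1, x; 0, 1], by simp [Matrix.det_fin_two]⟩

/-- A diagonal matrix. -/
def slD (a : Fˣ) : S2 := ⟨!![(a : F), 0; 0, ((a⁻¹ : Fˣ) : F)], by simp [Matrix.det_fin_two]⟩

theorem slU_val (x : F) : (slU x).1 = !![1, x; 0, 1] := rfl

theorem slD_val (a : Fˣ) : (slD a).1 = !![(a : F), 0; 0, ((a⁻¹ : Fˣ) : F)] := rfl

theorem slU_add (x y : F) : slU (x + y) = slU x * slU y := Subtype.ext (by
  ext i j; fin_cases i <;> fin_cases j <;> simp [slU_val, Matrix.SpecialLinearGroup.coe_mul, Matrix.mul_apply, Fin.sum_univ_two, add_comm])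

theorem slD_mul (a b : Fˣ) : slD (a * b) = slD a * slD b := Subtype.ext (by
  ext i j; fin_cases i <;> fin_cases j <;> simp [slD_val, Matrix.SpecialLinearGroup.coe_mul, Matrix.mul_apply, Fin.sum_univ_two, mul_comm])

/-- The upper unitriangular subgroup. -/
def pU : Multiplicative F →* P2' :=
  (QuotientGroup.mk' _).comp (MonoidHom.mk' (fun x => slU (Multiplicative.toAdd x)) fun x y => slU_add _ _)

/-- The diagonal subgroup. -/
def pD : Fˣ →* P2' := (QuotientGroup.mk' _).comp (MonoidHom.mk' slD slD_mul)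

theorem exists_mk (p : P2') : ∃ g : S2, QuotientGroup.mk' _ g = p := QuotientGroup.mk'_surjective _ p

theorem entries_of_eq {g h : S2}
    (e : QuotientGroup.mk' (Subgroup.center S2) g = QuotientGroup.mk' (Subgroup.center S2) h) :
    ∃ r : F, r ^ 2 = 1 ∧ ∀ i j, h.1 i j = r * g.1 i j := by
  have h1 : g⁻¹ * h ∈ Subgroup.center S2 := QuotientGroup.eq.1 e
  obtain ⟨r, hr, hA⟩ := Matrix.SpecialLinearGroup.mem_center_iff.1 h1
  refine ⟨r, by simpa using hr, fun i j => ?_⟩
  have h2 : h.1 = g.1 * Matrix.scalar (Fin 2) r := by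
    rw [hA, ← Matrix.SpecialLinearGroup.coe_mul, mul_inv_cancel_left]
  rw [h2, Matrix.scalar_apply, Matrix.mul_diagonal, mul_comm]

theorem det_one (g : S2) : g.1 0 0 * g.1 1 1 - g.1 0 1 * g.1 1 0 = 1 := by
  have h := g.det_coe
  rwa [Matrix.det_fin_two] at h

theorem pU_injective : Function.Injective (pU (F := F)) := by
  intro x y e
  obtain ⟨r, -, h⟩ := entries_of_eq (g := slU (Multiplicative.toAdd x)) (h := slU (Multiplicative.toAdd y)) e
  have h00 := h 0 0
  have h01 := h 0 1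
  simp [slU_val, Matrix.SpecialLinearGroup.coe_mul] at h00 h01
  rw [← h00, one_mul] at h01
  exact congrArg Multiplicative.ofAdd h01.symm

theorem conj_entries (g : S2) (x : F) :
    (g * slU x * g⁻¹).1 1 0 = -(g.1 1 0 ^ 2 * x) ∧ (g * slU x * g⁻¹).1 0 1 = g.1 0 0 ^ 2 * x := by
  constructor <;>
    (simp only [Matrix.SpecialLinearGroup.coe_mul, Matrix.SpecialLinearGroup.coe_inv, slU_val,
      Matrix.adjugate_fin_two, Matrix.mul_apply, Fin.sum_univ_two]
     simp
     ring)

/-- The matrices with image in the unipotent subgroup. -/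
theorem mk_mem_range {g : S2} (h10 : g.1 1 0 = 0) (h00 : g.1 0 0 ^ 2 = 1) :
    QuotientGroup.mk' _ g ∈ (pU (F := F)).range := by
  refine ⟨Multiplicative.ofAdd (g.1 0 0 * g.1 0 1), QuotientGroup.eq.2 ?_⟩
  refine Matrix.SpecialLinearGroup.mem_center_iff.2 ⟨g.1 0 0, by simpa using h00, ?_⟩
  have hd := det_one g
  rw [h10, mul_zero, sub_zero] at hd
  have h11 : g.1 1 1 = g.1 0 0 := mul_left_cancel₀ (left_ne_zero_of_mul_eq_one hd) (hd.trans (by rw [← pow_two, h00]))
  show Matrix.scalar (Fin 2) (g.1 0 0) = ((slU (g.1 0 0 * g.1 0 1))⁻¹ * g : S2).1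
  rw [Matrix.SpecialLinearGroup.coe_mul, Matrix.SpecialLinearGroup.coe_inv, slU_val]
  have h3 : g.1 0 1 - g.1 0 0 * g.1 0 1 * g.1 0 0 = 0 := by linear_combination (-g.1 0 1) * h00
  ext i j
  fin_cases i <;> fin_cases j <;>
    simp [Matrix.adjugate_fin_two, Matrix.mul_apply, Fin.sum_univ_two, h10, h11] <;>
    linear_combination -h3

theorem lower_of_conj_mem {g : S2} {x : F} (hx : x ≠ 0)
    (h : QuotientGroup.mk' _ g * pU (Multiplicative.ofAdd x) * (QuotientGroup.mk' _ g)⁻¹ ∈ (pU (F := F)).range) :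
    g.1 1 0 = 0 := by
  obtain ⟨y, hy⟩ := h
  obtain ⟨r, -, he⟩ := entries_of_eq (g := slU (Multiplicative.toAdd y)) (h := g * slU x * g⁻¹) hy
  have h10 := he 1 0
  rw [(conj_entries g x).1] at h10
  simpa [slU, hx] using h10

/-- Normalizing elements. -/
theorem eq_mul_of_conj_mem {p : P2'} {x : F} (hx : x ≠ 0)
    (h : p * pU (Multiplicative.ofAdd x) * p⁻¹ ∈ (pU (F := F)).range) :
    ∃ (y : Multiplicative F) (a : Fˣ), p = pU y * pD a := by
  obtain ⟨g, rfl⟩ := exists_mk p
  have h10 := lower_of_conj_mem hx h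
  have hd := det_one g
  rw [h10, mul_zero, sub_zero] at hd
  have h0 : g.1 0 0 ≠ 0 := left_ne_zero_of_mul_eq_one hd
  refine ⟨Multiplicative.ofAdd (g.1 0 1 * g.1 0 0), Units.mk0 _ h0, ?_⟩
  show QuotientGroup.mk' _ g = QuotientGroup.mk' _ (slU (g.1 0 1 * g.1 0 0)) * QuotientGroup.mk' _ (slD (Units.mk0 _ h0))
  rw [← map_mul]
  refine congrArg _ (Subtype.ext ?_)
  have h11 : g.1 1 1 = (g.1 0 0)⁻¹ := eq_inv_of_mul_eq_one_right hd
  ext i j
  fin_cases i <;> fin_cases j <;> simp [slU_val, slD_val, Matrix.SpecialLinearGroup.coe_mul, Matrix.mul_apply, Fin.sum_univ_two, h10, h11, h0]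

theorem pD_conj (a : Fˣ) (x : F) :
    pD a * pU (Multiplicative.ofAdd x) * (pD a)⁻¹ = pU (Multiplicative.ofAdd ((a : F) ^ 2 * x)) := by
  show QuotientGroup.mk' _ (slD a) * QuotientGroup.mk' _ (slU x) * (QuotientGroup.mk' _ (slD a))⁻¹ =
    QuotientGroup.mk' _ (slU ((a : F) ^ 2 * x))
  rw [← map_inv, ← map_mul, ← map_mul]
  refine congrArg _ (Subtype.ext ?_)
  ext i j
  fin_cases i <;> fin_cases j <;>
    simp [slU_val, slD_val, Matrix.SpecialLinearGroup.coe_mul, Matrix.mul_apply, Fin.sum_univ_two, Matrix.SpecialLinearGroup.coe_inv, Matrix.adjugate_fin_two] <;>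
    ring

theorem cent {p : P2'} {x : F} (hx : x ≠ 0) (h : Commute p (pU (Multiplicative.ofAdd x))) :
    p ∈ (pU (F := F)).range := by
  obtain ⟨g, rfl⟩ := exists_mk p
  have hm : QuotientGroup.mk' _ g * pU (Multiplicative.ofAdd x) * (QuotientGroup.mk' _ g)⁻¹ =
      pU (Multiplicative.ofAdd x) := by rw [h.eq, mul_inv_cancel_right]
  have h10 := lower_of_conj_mem hx (by rw [hm]; exact ⟨_, rfl⟩)
  refine mk_mem_range h10 ?_
  obtain ⟨r, hr, he⟩ := entries_of_eq (g := slU x) (h := g * slU x * g⁻¹) hm.symm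
  have h00 := he 0 0
  have h01 := he 0 1
  rw [(conj_entries g x).2] at h01
  have hd := det_one g
  rw [h10, mul_zero, sub_zero] at hd
  have hr1 : r = 1 := by
    simp [slU_val, Matrix.SpecialLinearGroup.coe_mul, Matrix.SpecialLinearGroup.coe_inv, Matrix.adjugate_fin_two, Matrix.mul_apply, Fin.sum_univ_two,
      h10, hd] at h00
    exact h00.symm
  simp [slU_val, Matrix.SpecialLinearGroup.coe_mul, hr1] at h01
  exact (mul_eq_right₀ hx).1 h01

variable [Fintype F] (h4 : Fintype.card F % 4 = 3)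
include h4

/-- No involution normalizes. -/
theorem eq_one_of_sq {y : Multiplicative F} {a : Fˣ} (h : pU y * pD a * (pU y * pD a) = 1) :
    pU y * pD a = 1 := by
  obtain ⟨x, rfl⟩ := Multiplicative.ofAdd.surjective y
  have h2 : pU (Multiplicative.ofAdd x) * pD a * (pU (Multiplicative.ofAdd x) * pD a) =
      pU (Multiplicative.ofAdd (x + (a : F) ^ 2 * x)) * pD (a * a) := by
    rw [ofAdd_add, map_mul pU, map_mul pD, ← pD_conj a x]; group
  rw [h2] at h
  have h3 : QuotientGroup.mk' (Subgroup.center S2) 1 =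
      QuotientGroup.mk' _ (slU (x + (a : F) ^ 2 * x) * slD (a * a)) := by
    rw [map_one, map_mul]; exact h.symm
  obtain ⟨r, hr, he⟩ := entries_of_eq h3
  have hmul : (slU (x + (a : F) ^ 2 * x) * slD (a * a)).1 =
      !![1, x + (a : F) ^ 2 * x; 0, 1] * !![((a * a : Fˣ) : F), 0; 0, (((a * a)⁻¹ : Fˣ) : F)] := rfl
  rw [hmul] at he
  have h00 : (a : F) * a = r := by simpa [slU, slD, Matrix.mul_apply, Fin.sum_univ_two] using he 0 0
  have ha : (a : F) * a = 1 := by
    rcases sq_eq_one_iff.1 hr with e | e <;> subst e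
    · exact h00
    · exfalso
      exact (FiniteField.isSquare_neg_one_iff.1 ⟨(a : F), h00.symm⟩) h4
  have h01 : (x + (a : F) ^ 2 * x) * (((a * a)⁻¹ : Fˣ) : F) = 0 := by
    simpa [slU, slD, Matrix.mul_apply, Fin.sum_univ_two] using he 0 1
  have h2ne : (2 : F) ≠ 0 := Ring.two_ne_zero fun hc => by
    have := FiniteField.even_card_iff_char_two.1 hc
    omega
  have hx0 : x = 0 := by
    have e := (mul_eq_zero.1 h01).resolve_right (Units.ne_zero _)
    rw [pow_two, ha, one_mul, ← two_mul] at e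
    exact (mul_eq_zero.1 e).resolve_left h2ne
  have hD : QuotientGroup.mk' (Subgroup.center S2) (slD a) = 1 := by
    refine (QuotientGroup.eq_one_iff _).2 (Matrix.SpecialLinearGroup.mem_center_iff.2
      ⟨(a : F), by simpa [pow_two] using ha, ?_⟩)
    have hai : ((a⁻¹ : Fˣ) : F) = a := by
      rw [Units.val_inv_eq_inv_val]; exact (eq_inv_of_mul_eq_one_left ha).symm
    ext i j
    fin_cases i <;> fin_cases j <;> simp [slD_val, inv_eq_of_mul_eq_one_left ha]
  rw [hx0, show pD a = 1 from hD, mul_one, ofAdd_zero, map_one]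

omit [Fintype F] h4 in
/-- Outside the normalizer a product of two conjugate transvections is an involution. -/
theorem exists_invol {p : P2'}
    (h : ∀ (y : Multiplicative F) (a : Fˣ), p ≠ pU y * pD a) :
    ∃ y : Multiplicative F, pU y * (p * pU (Multiplicative.ofAdd 1) * p⁻¹) ≠ 1 ∧
      (pU y * (p * pU (Multiplicative.ofAdd 1) * p⁻¹)) ^ 2 = 1 := by
  obtain ⟨g, rfl⟩ := exists_mk p
  have hc : g.1 1 0 ≠ 0 := fun h10 => by
    have hd := det_one g
    rw [h10, mul_zero, sub_zero] at hd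
    have h0 : g.1 0 0 ≠ 0 := left_ne_zero_of_mul_eq_one hd
    refine h (Multiplicative.ofAdd (g.1 0 1 * g.1 0 0)) (Units.mk0 _ h0) ?_
    show QuotientGroup.mk' _ g =
      QuotientGroup.mk' _ (slU (g.1 0 1 * g.1 0 0)) * QuotientGroup.mk' _ (slD (Units.mk0 _ h0))
    rw [← map_mul]
    refine congrArg _ (Subtype.ext ?_)
    have h11 : g.1 1 1 = (g.1 0 0)⁻¹ := eq_inv_of_mul_eq_one_right hd
    ext i j
    fin_cases i <;> fin_cases j <;> simp [slU_val, slD_val, Matrix.SpecialLinearGroup.coe_mul, Matrix.mul_apply, Fin.sum_univ_two, h10, h11, h0]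
  set m : S2 := slU (2 / g.1 1 0 ^ 2) * (g * slU 1 * g⁻¹) with hm
  refine ⟨Multiplicative.ofAdd (2 / g.1 1 0 ^ 2), ?_⟩
  have he : pU (Multiplicative.ofAdd (2 / g.1 1 0 ^ 2)) *
      (QuotientGroup.mk' _ g * pU (Multiplicative.ofAdd 1) * (QuotientGroup.mk' _ g)⁻¹) =
      QuotientGroup.mk' _ m := by
    rw [hm, map_mul, map_mul, map_mul, map_inv]; rfl
  rw [he]
  have h10 : m.1 1 0 = -(g.1 1 0 ^ 2) := by
    rw [hm, Matrix.SpecialLinearGroup.coe_mul, Matrix.mul_apply, Fin.sum_univ_two, (conj_entries g 1).1]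
    simp [slU_val, Matrix.SpecialLinearGroup.coe_mul]
  have htr : m.1 0 0 + m.1 1 1 = 0 := by
    have hd := det_one g
    simp [hm, slU_val, Matrix.SpecialLinearGroup.coe_mul, Matrix.SpecialLinearGroup.coe_inv, Matrix.adjugate_fin_two, Matrix.mul_apply, Fin.sum_univ_two]
    field_simp
    linear_combination (2 * g.1 1 0) * hd
  constructor
  · intro e
    obtain ⟨r, -, hh⟩ := entries_of_eq (g := (1 : S2)) (h := m) (by rw [map_one]; exact e.symm)
    have := hh 1 0
    rw [h10] at this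
    simp at this
    exact hc this
  · rw [← map_pow]
    refine (QuotientGroup.eq_one_iff _).2 (Matrix.SpecialLinearGroup.mem_center_iff.2 ⟨-1, by simp, ?_⟩)
    have hd := det_one m
    have h11 : m.1 1 1 = -m.1 0 0 := eq_neg_of_add_eq_zero_right htr
    rw [Matrix.SpecialLinearGroup.coe_pow, pow_two]
    ext i j
    fin_cases i <;> fin_cases j <;> simp [Matrix.mul_apply, Fin.sum_univ_two, h11] at hd ⊢ <;>
      first | linear_combination hd | linear_combination -hd | ring

end CfsgLib.Walter.Three.PslB
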