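import Cfsg.Agent.Lib.Walter.Three.Hom
import Cfsg.Agent.Lib.Walter.Outer.Invert
import Cfsg.Agent.Lib.Walter.Outer.Core
import Cfsg.Agent.Lib.Walter.Three.BorelD

/-!
# Rank three: an odd group with a semilinear Borel group as fixed points of an involution

The hypotheses, the structure of the fixed points and the homomorphism on them onto the field part.
-/

set_option autoImplicit false
set_option linter.unusedSectionVars false
set_option linter.style.haveILetI false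

namespace CfsgLib.Walter.Three

open Subgroup

universe u v

/-- A preimage twisted-commuting with an element of prime power order. -/
theorem exists_twist {A : Type u} {Z : Type v} [Group A] [Finite A] [Group Z] {f : A →* Z}
    (hf : Function.Surjective f) {r : ℕ} [Fact r.Prime] (hco : ¬ r ∣ Nat.card f.ker) {c : A} {k : ℕ}
    (hc : c ^ r ^ k = 1) {e : ℕ} {z : Z} (hz : f c ^ e * z = z * f c) :
    ∃ y, f y = z ∧ c ^ e * y = y * c := by
  obtain ⟨y₀, hy₀⟩ := hf z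
  have hsc : ∀ m ∈ zpowers c, f m ^ e * z * (f m)⁻¹ = z := by
    intro m hm
    obtain ⟨i, rfl⟩ := mem_zpowers_iff.1 hm
    have h : SemiconjBy z (f c ^ i) ((f c ^ e) ^ i) :=
      (show SemiconjBy z (f c) (f c ^ e) from hz.symm).zpow_right i
    rw [map_zpow, mul_inv_eq_iff_eq_mul, ← zpow_natCast (f c ^ i), ← zpow_mul, mul_comm, zpow_mul, zpow_natCast]
    exact h.eq.symm
  letI : MulAction (zpowers c) {y : A // f y = z} :=
    { smul := fun m y => ⟨(m : A) ^ e * y.1 * (m : A)⁻¹, by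
        rw [map_mul, map_mul, map_inv, map_pow, y.2]; exact hsc m m.2⟩
      one_smul := fun y => Subtype.ext (by show (1 : A) ^ e * y.1 * (1 : A)⁻¹ = y.1; simp)
      mul_smul := fun m m' y => Subtype.ext (by
        show ((m * m' : zpowers c) : A) ^ e * y.1 * ((m * m' : zpowers c) : A)⁻¹ =
          (m : A) ^ e * ((m' : A) ^ e * y.1 * (m' : A)⁻¹) * (m : A)⁻¹
        have hcc : Commute (m : A) (m' : A) := congrArg Subtype.val (mul_comm' m m')
        rw [Subgroup.coe_mul, hcc.mul_pow]; group) }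
  have hp : IsPGroup r (zpowers c) := fun m => ⟨k, Subtype.ext (by
    obtain ⟨i, hi⟩ := mem_zpowers_iff.1 m.2
    rw [Subgroup.coe_pow, ← hi, ← zpow_natCast (c ^ i), ← zpow_mul, mul_comm, zpow_mul, zpow_natCast, hc, one_zpow,
      Subgroup.coe_one])⟩
  have hcard : Nat.card {y : A // f y = z} = Nat.card f.ker := Nat.card_congr
    { toFun := fun y => ⟨y.1 * y₀⁻¹, by rw [MonoidHom.mem_ker, map_mul, map_inv, y.2, hy₀, mul_inv_cancel]⟩
      invFun := fun x => ⟨x.1 * y₀, by rw [map_mul, MonoidHom.mem_ker.1 x.2, one_mul, hy₀]⟩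
      left_inv := fun y => Subtype.ext (inv_mul_cancel_right _ _)
      right_inv := fun x => Subtype.ext (mul_inv_cancel_right _ _) }
  obtain ⟨⟨y, hy⟩, hfix⟩ := hp.nonempty_fixed_point_of_prime_not_dvd_card _ (hcard ▸ hco)
  refine ⟨y, hy, mul_inv_eq_iff_eq_mul.1 ?_⟩
  exact congrArg Subtype.val (hfix ⟨c, mem_zpowers c⟩)

/-- A fixed element lifts to a fixed element. -/
theorem exists_fixed_lift {A : Type u} {Z : Type v} [Group A] [Finite A] [Group Z] [Finite Z] {f : A →* Z}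
    (hf : Function.Surjective f) {τ : MulAut A} (hτ : ∀ x, τ (τ x) = x) (hA : Odd (Nat.card A))
    (hZ : Odd (Nat.card Z)) {σ : MulAut Z} (hc : ∀ x, f (τ x) = σ (f x)) {z : Z} (hz : σ z = z) :
    ∃ x, τ x = x ∧ f x = z := by
  obtain ⟨x, rfl⟩ := hf z
  obtain ⟨c, i, rfl, hfc, hi, -⟩ := Outer.exists_fixed_mul_inverted hA hτ x
  refine ⟨c, hfc, ?_⟩
  rw [← hc, map_mul τ, hfc, hi, map_mul, map_mul, map_inv] at hz
  rw [map_mul, Outer.eq_one_of_sq hZ (eq_inv_iff_mul_eq_one.1 (mul_left_cancel hz).symm), mul_one]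

/-- The hypotheses. -/
structure Red (Y : Type u) [Group Y] (F : Type) [Field F] where
  τ : MulAut Y
  invol : ∀ y, τ (τ y) = y
  odd : Odd (Nat.card Y)
  solvable : Group.IsSolvable Y
  n : ℕ
  g : ℕ
  a : ℕ
  hcard : Nat.card F = 3 ^ n
  n_eq : n = 3 ^ a * g
  a_pos : 1 ≤ a
  n_odd : Odd n
  ι : Multiplicative F →* Y
  ι_inj : Function.Injective ι
  w : Y
  d : Y
  μ : F
  μ_ne : μ ≠ 0
  μ_gen : ∀ c, 1 ≤ c → c ≤ n → ∀ K : Subfield F, μ ^ c ∈ K → K = ⊤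
  μ_pow : ∀ i : ℕ, μ ^ i = 1 → w ^ i = 1
  f : F → F
  w_act : ∀ x, w * ι (Multiplicative.ofAdd x) * w⁻¹ = ι (Multiplicative.ofAdd (μ * x))
  d_act : ∀ x, d * ι (Multiplicative.ofAdd x) * d⁻¹ = ι (Multiplicative.ofAdd (f x))
  f_semi : ∀ c x, f (c * x) = c ^ 3 ^ g * f x
  d_order : orderOf d = 3 ^ a
  w_order : orderOf w = (3 ^ n - 1) / 2
  ι_fix : ∀ x, τ (ι x) = ι x
  w_fix : τ w = w
  d_fix : τ d = d
  fixed : ∀ y, τ y = y → ∃ u, ∃ i j : ℕ, y = ι u * w ^ i * d ^ j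
  exists_fix : ∃ x : F, x ≠ 0 ∧ f x = x

namespace Red

variable {Y : Type u} [Group Y] [Finite Y] {F : Type} [Field F] [Finite F] [CharP F 3] (W : Red Y F)
include W

theorem cube (x : Multiplicative F) : W.ι x ^ 3 = 1 := by
  obtain ⟨z, rfl⟩ := Multiplicative.ofAdd.surjective x
  rw [← map_pow, ← ofAdd_nsmul, nsmul_eq_mul, (CharP.cast_eq_zero_iff F 3 3).2 dvd_rfl, zero_mul, ofAdd_zero,
    map_one]

theorem g_pos : 0 < W.g := Nat.pos_of_ne_zero fun e => by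
  have h := W.n_eq
  rw [e, mul_zero] at h
  exact Nat.not_even_iff_odd.2 W.n_odd (h ▸ ⟨0, rfl⟩)

theorem w_not_three : ¬ 3 ∣ orderOf W.w := by
  rw [W.w_order]
  obtain ⟨i, hi⟩ := W.n_odd
  intro hd
  have h1 : 1 ≤ 3 ^ W.n := Nat.one_le_pow _ _ (by norm_num)
  have h2 : 3 ∣ 3 ^ W.n := dvd_pow_self 3 (by omega)
  have h3 : 3 ^ W.n % 2 = 1 := Nat.odd_iff.1 ((by decide : Odd 3).pow)
  omega

theorem d_pow_three : ∃ k, W.d ^ 3 ^ k = 1 := ⟨W.a, W.d_order ▸ pow_orderOf_eq_one _⟩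

theorem conj_pow (i j : ℕ) (x : F) :
    W.w ^ i * W.d ^ j * W.ι (Multiplicative.ofAdd x) * (W.w ^ i * W.d ^ j)⁻¹ =
      W.ι (Multiplicative.ofAdd (W.μ ^ i * W.f^[j] x)) ∧
    ∀ c, W.f^[j] (c * x) = c ^ 3 ^ (W.g * j) * W.f^[j] x := by
  constructor
  · have hd : ∀ (j : ℕ) (y : F), W.d ^ j * W.ι (Multiplicative.ofAdd y) * (W.d ^ j)⁻¹ =
        W.ι (Multiplicative.ofAdd (W.f^[j] y)) := by
      intro j
      induction j with
      | zero => intro y; simp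
      | succ j ih => intro y; rw [Function.iterate_succ_apply', ← W.d_act, ← ih, pow_succ']; group
    have hw : ∀ (i : ℕ) (y : F), W.w ^ i * W.ι (Multiplicative.ofAdd y) * (W.w ^ i)⁻¹ =
        W.ι (Multiplicative.ofAdd (W.μ ^ i * y)) := by
      intro i
      induction i with
      | zero => intro y; simp
      | succ i ih => intro y; rw [pow_succ', pow_succ', mul_assoc W.μ, ← W.w_act, ← ih]; group
    rw [show W.w ^ i * W.d ^ j * W.ι (Multiplicative.ofAdd x) * (W.w ^ i * W.d ^ j)⁻¹ =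
      W.w ^ i * (W.d ^ j * W.ι (Multiplicative.ofAdd x) * (W.d ^ j)⁻¹) * (W.w ^ i)⁻¹ by group, hd, hw]
  · intro c
    induction j with
    | zero => simp
    | succ j ih =>
      rw [Function.iterate_succ_apply', ih, W.f_semi, ← pow_mul, ← pow_add, Function.iterate_succ_apply',
        Nat.mul_succ]

/-- A Frobenius power fixing the generator is trivial. -/
theorem d_pow_eq_one {j : ℕ} (h : W.μ ^ 3 ^ (W.g * j) = W.μ) : W.d ^ j = 1 := by
  haveI := Fintype.ofFinite F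
  haveI : ExpChar F 3 := ExpChar.prime Nat.prime_three
  have hq : Fintype.card F = 3 ^ W.n := by rw [← W.hcard, Nat.card_eq_fintype_card]
  set m := W.g * j
  let L : Subfield F := (iterateFrobenius F 3 m).eqLocusField (RingHom.id F)
  have hn1 : 1 ≤ W.n := by obtain ⟨i, hi⟩ := W.n_odd; omega
  have htop : L = ⊤ := W.μ_gen 1 le_rfl hn1 L (by
    show iterateFrobenius F 3 m (W.μ ^ 1) = W.μ ^ 1
    rw [pow_one, iterateFrobenius_def, h])
  have hall : ∀ c : F, c ^ 3 ^ m = c := fun c => by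
    have hc : c ∈ L := htop ▸ Subfield.mem_top c
    have : iterateFrobenius F 3 m c = c := hc
    rwa [iterateFrobenius_def] at this
  have hdvd := dvd_of_forall_pow hq hall
  rw [← orderOf_dvd_iff_pow_eq_one, W.d_order]
  rw [W.n_eq, mul_comm (3 ^ W.a)] at hdvd
  exact Nat.dvd_of_mul_dvd_mul_left W.g_pos hdvd

/-- The action on the range determines the components. -/
theorem eq_of_act {i j : ℕ} {c : F} (h : ∀ x, W.μ ^ i * W.f^[j] x = c * x) :
    W.d ^ j = 1 ∧ W.μ ^ i = c := by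
  have hfj : W.f^[j] 1 ≠ 0 := fun e => by
    have h1 := (W.conj_pow 0 j 1).1
    rw [e, mul_zero, ofAdd_zero, map_one W.ι, conj_eq_one_iff] at h1
    exact one_ne_zero (α := F) (Multiplicative.ofAdd.injective (W.ι_inj (h1.trans (map_one W.ι).symm)))
  have h1 : W.μ ^ i * W.f^[j] 1 = c := by simpa using h 1
  have hc0 : c ≠ 0 := h1 ▸ mul_ne_zero (pow_ne_zero _ W.μ_ne) hfj
  have hd : W.d ^ j = 1 := W.d_pow_eq_one (by
    have h2 := h W.μ
    rw [← mul_one W.μ, (W.conj_pow i j 1).2 W.μ, mul_one, mul_left_comm, h1, mul_comm] at h2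
    exact mul_left_cancel₀ hc0 h2)
  refine ⟨hd, ?_⟩
  have h3 := (W.conj_pow 0 j 1).1
  rw [hd, pow_zero, one_mul, one_mul, inv_one, mul_one, pow_zero, one_mul] at h3
  rwa [← (Multiplicative.ofAdd.injective (W.ι_inj h3)), mul_one] at h1

theorem dwd : ∃ y, W.d * W.w * W.d⁻¹ = W.ι y * W.w ^ 3 ^ W.g := by
  obtain ⟨u, i, j, h⟩ := W.fixed (W.d * W.w * W.d⁻¹) (by
    rw [map_mul, map_mul, map_inv, W.d_fix, W.w_fix])
  have hfs : Function.Surjective W.f := Finite.injective_iff_surjective.1 fun x y e =>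
    Multiplicative.ofAdd.injective (W.ι_inj (mul_left_cancel (mul_right_cancel
      ((W.d_act x).trans (e ▸ (W.d_act y).symm)))))
  obtain ⟨hj, hi⟩ := W.eq_of_act (i := i) (j := j) (c := W.μ ^ 3 ^ W.g) (fun x => by
    refine Multiplicative.ofAdd.injective (W.ι_inj ?_)
    rw [← (W.conj_pow i j x).1]
    obtain ⟨y, rfl⟩ := hfs x
    rw [← W.f_semi, ← W.d_act (W.μ * y), ← W.w_act, ← W.d_act y]
    calc W.w ^ i * W.d ^ j * (W.d * W.ι (Multiplicative.ofAdd y) * W.d⁻¹) * (W.w ^ i * W.d ^ j)⁻¹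
        = (W.ι u)⁻¹ * ((W.ι u * W.w ^ i * W.d ^ j) * (W.d * W.ι (Multiplicative.ofAdd y) * W.d⁻¹) *
            (W.ι u * W.w ^ i * W.d ^ j)⁻¹) * W.ι u := by group
      _ = (W.ι u)⁻¹ * (W.d * (W.w * W.ι (Multiplicative.ofAdd y) * W.w⁻¹) * W.d⁻¹) * W.ι u := by
          rw [← h]; group
      _ = W.d * (W.w * W.ι (Multiplicative.ofAdd y) * W.w⁻¹) * W.d⁻¹ := by
          rw [W.w_act, W.d_act, ← map_inv, ← map_mul, ← map_mul, mul_comm u⁻¹, inv_mul_cancel_right])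
  refine ⟨u, ?_⟩
  rw [h, hj, mul_one]
  congr 1
  obtain ⟨N', hN'⟩ := Nat.exists_eq_succ_of_ne_zero (orderOf_pos W.w).ne'
  have hμN : W.μ ^ orderOf W.w = 1 := by
    have h5 := (W.conj_pow (orderOf W.w) 0 1).1
    rw [pow_orderOf_eq_one, pow_zero, one_mul, one_mul, inv_one, mul_one, Function.iterate_zero_apply,
      mul_one] at h5
    exact (Multiplicative.ofAdd.injective (W.ι_inj h5)).symm
  have hμ1 : W.μ ^ (i + N' * 3 ^ W.g) = 1 := by
    rw [pow_add, hi, ← pow_add, show 3 ^ W.g + N' * 3 ^ W.g = (N' + 1) * 3 ^ W.g by ring, ← Nat.succ_eq_add_one,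
      ← hN', pow_mul, hμN, one_pow]
  have h6 := W.μ_pow _ hμ1
  calc W.w ^ i = W.w ^ i * (W.w ^ orderOf W.w) ^ 3 ^ W.g := by rw [pow_orderOf_eq_one, one_pow, mul_one]
    _ = W.w ^ (i + N' * 3 ^ W.g) * W.w ^ 3 ^ W.g := by
        rw [← pow_mul, ← pow_add, ← pow_add]; congr 1; rw [hN', Nat.succ_eq_add_one]; ring
    _ = W.w ^ 3 ^ W.g := by rw [h6, one_mul]

/-- The part of the fixed points without field automorphisms. -/
def lin : Subgroup Y := W.ι.range ⊔ zpowers W.w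

theorem mem_lin {x : Y} (hx : x ∈ W.lin) : ∃ u, ∃ i : ℕ, x = W.ι u * W.w ^ i := by
  have hn : zpowers W.w ≤ normalizer (W.ι.range : Set Y) := zpowers_le.2
    (CfsgLib.Coprime.conjBy_eq_self_iff.1 (eq_of_le_of_card_ge (by
      rintro _ ⟨_, ⟨y, rfl⟩, rfl⟩
      obtain ⟨z, rfl⟩ := Multiplicative.ofAdd.surjective y
      exact ⟨Multiplicative.ofAdd (W.μ * z), (W.w_act z).symm⟩) (CfsgLib.Coprime.card_conjBy W.w _).ge))
  obtain ⟨_, ⟨u, rfl⟩, c, hc, rfl⟩ := Invol.mem_sup_of_normalizing hn hx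
  obtain ⟨i, hi⟩ := (isOfFinOrder_of_finite W.w).mem_powers_iff_mem_zpowers.2 hc
  exact ⟨u, i, by rw [← hi]⟩

theorem lin_conj {x : Y} (hx : x ∈ W.lin) : W.d * x * W.d⁻¹ ∈ W.lin := by
  obtain ⟨u, i, rfl⟩ := W.mem_lin hx
  obtain ⟨z, rfl⟩ := Multiplicative.ofAdd.surjective u
  obtain ⟨y, hy⟩ := W.dwd
  rw [show W.d * (W.ι (Multiplicative.ofAdd z) * W.w ^ i) * W.d⁻¹ =
    (W.d * W.ι (Multiplicative.ofAdd z) * W.d⁻¹) * (W.d * W.w ^ i * W.d⁻¹) by group, W.d_act,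
    ← _root_.conj_pow, hy]
  exact mul_mem (mem_sup_left ⟨_, rfl⟩)
    (pow_mem (mul_mem (mem_sup_left (show W.ι y ∈ W.ι.range from ⟨y, rfl⟩))
      (pow_mem (mem_sup_right (mem_zpowers _)) _)) _)

theorem lin_conj_pow {x : Y} (hx : x ∈ W.lin) (j : ℕ) : W.d ^ j * x * (W.d ^ j)⁻¹ ∈ W.lin := by
  induction j with
  | zero => simpa using hx
  | succ j ih =>
    rw [show W.d ^ (j + 1) * x * (W.d ^ (j + 1))⁻¹ = W.d * (W.d ^ j * x * (W.d ^ j)⁻¹) * W.d⁻¹ by
      rw [pow_succ']; group]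
    exact W.lin_conj ih

theorem d_pow_lin {j : ℕ} (h : W.d ^ j ∈ W.lin) : W.d ^ j = 1 := by
  obtain ⟨u, i, hu⟩ := W.mem_lin h
  refine (W.eq_of_act (i := 0) (j := j) (c := W.μ ^ i) fun x => ?_).1
  refine Multiplicative.ofAdd.injective (W.ι_inj ?_)
  rw [← (W.conj_pow 0 j x).1, pow_zero, one_mul, hu]
  have h2 := (W.conj_pow i 0 x).1
  rw [pow_zero, mul_one, Function.iterate_zero_apply] at h2
  rw [show W.ι u * W.w ^ i * W.ι (Multiplicative.ofAdd x) * (W.ι u * W.w ^ i)⁻¹ =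
    W.ι u * (W.w ^ i * W.ι (Multiplicative.ofAdd x) * (W.w ^ i)⁻¹) * (W.ι u)⁻¹ by group, h2,
    ← map_inv, ← map_mul, ← map_mul, mul_inv_cancel_comm]

/-- The field part of the fixed points. -/
theorem exists_psi : ∃ ψ : Outer.fixed W.τ →* zpowers W.d,
    (∀ y : Outer.fixed W.τ, (y : Y) ∈ W.lin → ψ y = 1) ∧
      ∀ hd : W.d ∈ Outer.fixed W.τ, ((ψ ⟨W.d, hd⟩ : zpowers W.d) : Y) = W.d := by
  classical
  have hex : ∀ y : Outer.fixed W.τ, ∃ j : ℕ, ∃ l ∈ W.lin, (y : Y) = l * W.d ^ j := fun y => by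
    obtain ⟨u, i, j, h⟩ := W.fixed y y.2
    exact ⟨j, _, mul_mem (mem_sup_left ⟨u, rfl⟩) (pow_mem (mem_sup_right (mem_zpowers _)) i), h⟩
  choose e l hl he using hex
  have huniq : ∀ (l₁ l₂ : Y) (j k : ℕ), l₁ ∈ W.lin → l₂ ∈ W.lin → l₁ * W.d ^ j = l₂ * W.d ^ k →
      W.d ^ j = W.d ^ k := by
    intro l₁ l₂ j k h₁ h₂ h
    obtain ⟨o, ho⟩ : ∃ o, W.d ^ k * W.d ^ o = 1 := ⟨k * (orderOf W.d - 1), by
      rw [← pow_add, add_comm, ← Nat.mul_succ, Nat.succ_eq_add_one, Nat.sub_add_cancel (orderOf_pos W.d), mul_comm, pow_mul,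
        pow_orderOf_eq_one, one_pow]⟩
    have hmem : W.d ^ (j + o) ∈ W.lin := by
      have h1 : l₁ * W.d ^ (j + o) = l₂ := by rw [pow_add, ← mul_assoc, h, mul_assoc, ho, mul_one]
      have h2 := mul_mem (inv_mem h₁) h₂
      rwa [← h1, inv_mul_cancel_left] at h2
    have h3 := W.d_pow_lin hmem
    rw [pow_add] at h3
    exact mul_right_cancel (h3.trans ho.symm)
  refine ⟨MonoidHom.mk' (fun y => ⟨W.d ^ e y, pow_mem (mem_zpowers _) _⟩) fun y z => Subtype.ext ?_,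
    fun y hy => Subtype.ext ?_, fun hd => ?_⟩
  · show W.d ^ e (y * z) = W.d ^ e y * W.d ^ e z
    rw [← pow_add]
    refine huniq _ (l y * (W.d ^ e y * l z * (W.d ^ e y)⁻¹)) _ _ (hl (y * z))
      (mul_mem (hl y) (W.lin_conj_pow (hl z) _)) ?_
    rw [← he (y * z), Subgroup.coe_mul, he y, he z, pow_add]; group
  · have := huniq _ (y : Y) (e y) 0 (hl y) hy (by rw [← he, pow_zero, mul_one])
    rwa [pow_zero] at this
  · have := huniq _ 1 (e ⟨W.d, hd⟩) 1 (hl ⟨W.d, hd⟩) (one_mem _) (by rw [← he ⟨W.d, hd⟩, pow_one, one_mul])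
    rwa [pow_one] at this

theorem d_ne_one : W.d ≠ 1 := fun e => by
  have h := W.d_order
  rw [e, orderOf_one] at h
  exact (one_lt_pow₀ (by norm_num : 1 < 3) (by have := W.a_pos; omega)).ne h

end Red

end CfsgLib.Walter.Three
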